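/-
Unramified local subalgebras of a strict henselization are essentially étale.
-/
import Mathlib
import Groth.Prelude.Def_EssEt
import Groth.Prelude.Def_Hensel
import Groth.Agent.Hensel.EnvelopeStage
import Groth.Agent.Hensel.HenselizationMore
import Groth.Agent.Hensel.EssEtLib
import Groth.Agent.UnramLib.FlatUnram

set_option autoImplicit false
set_option linter.style.haveILetI false
universe u

open IsLocalRing

namespace Groth.Agent.EssSub

variable {A S : Type u} [CommRing A] [IsLocalRing A] [CommRing S] [IsLocalRing S] [Algebra A S]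
  [IsLocalHom (algebraMap A S)] [hS : _root_.Hensel.IsStrictHenselization A S]

include hS in
/-- The strict henselization is flat over an unramified essentially finite type algebra. -/
theorem flat_over (C : Type u) [CommRing C] [Algebra A C] [Algebra C S] [IsScalarTower A C S]
    [Algebra.EssFiniteType A C] [Algebra.FormallyUnramified A C] : Module.Flat C S := by
  haveI := Hensel.strictHenselization_flat A S
  exact UnramLib.flat_of_formallyUnramified A C S

include hS in
/-- An essentially étale algebra over the base maps injectively when the map is local. -/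
theorem injective_of_local (C : Type u) [CommRing C] [IsLocalRing C] [Algebra A C] (χ : C →ₐ[A] S)
    [Algebra.EssFiniteType A C] [Algebra.FormallyUnramified A C] [IsLocalHom χ.toRingHom] : Function.Injective χ := by
  letI : Algebra C S := χ.toRingHom.toAlgebra
  haveI : IsScalarTower A C S := IsScalarTower.of_algebraMap_eq fun a => (χ.commutes a).symm
  haveI := flat_over (A := A) (S := S) C
  haveI : IsLocalHom (algebraMap C S) := ‹IsLocalHom χ.toRingHom›
  haveI : Module.FaithfullyFlat C S := Module.FaithfullyFlat.of_flat_of_isLocalHom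
  exact FaithfulSMul.algebraMap_injective C S

omit hS [IsLocalHom (algebraMap A S)] [IsLocalRing S] in
theorem essEt_equiv {B : Type u} [CommRing B] [Algebra A B] {C : Type u} [CommRing C] [Algebra A C]
    (h : EGA4loc.IsEssentiallyEtale A B) (e : C ≃ₐ[A] B) : EGA4loc.IsEssentiallyEtale A C := by
  obtain ⟨C₀, i1, i2, q, i3, h1, h2, ⟨φ⟩⟩ := h
  exact ⟨C₀, i1, i2, q, i3, h1, h2, ⟨e.trans φ⟩⟩

include hS in
/-- The image of a dominated essentially étale algebra. -/
theorem exists_subalgebra_of_essEt (C : Type u) [CommRing C] [IsLocalRing C] [Algebra A C]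
    (h : EGA4loc.IsEssentiallyEtale A C) (χ : C →ₐ[A] S) (hinj : Function.Injective χ) (hloc : ∀ x, IsUnit (χ x) → IsUnit x) :
    ∃ E : Subalgebra A S, (∀ x, χ x ∈ E) ∧ ∃ _ : IsLocalRing E,
      IsLocalHom (algebraMap E S) ∧ EGA4loc.IsEssentiallyEtale A E := by
  let e : C ≃ₐ[A] χ.range := AlgEquiv.ofInjective χ hinj
  haveI : IsLocalRing χ.range := e.toRingEquiv.isLocalRing
  refine ⟨χ.range, fun x => ⟨x, rfl⟩, inferInstance, ⟨fun y hy => ?_⟩, essEt_equiv h e.symm⟩
  obtain ⟨x, rfl⟩ := e.surjective y
  exact (hloc x hy).map e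

include hS in
/-- Finitely many elements lie in a dominated essentially étale subalgebra. -/
theorem exists_essEt_ge (F : Finset S) :
    ∃ E : Subalgebra A S, (F : Set S) ⊆ E ∧ ∃ _ : IsLocalRing E,
      IsLocalHom (algebraMap E S) ∧ EGA4loc.IsEssentiallyEtale A E := by
  classical
  let K := SeparableClosure (ResidueField A)
  haveI := Hensel.flat_env A K
  obtain ⟨e⟩ := Hensel.strictHenselization_equiv A S
  obtain ⟨P, T, _, _, _, ψ, χ, h1, h2, hinj, hz⟩ := Hensel.exists_local_stage (S := Hensel.Env A K) A K
    (Hensel.envRes A K) (Hensel.envRes_eq_zero_iff A K) (IsScalarTower.toAlgHom A (Hensel.EnvTop A K) (Hensel.Env A K))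
    (Hensel.envRes_algebraMap A K) (Hensel.env_hloc A K) fun k => e (F.equivFin.symm k : S)
  haveI hψ : IsLocalHom (algebraMap A T) := ⟨fun a ha => by
    refine isUnit_of_map_unit (algebraMap A S) a ?_
    have := (ha.map χ).map e.symm
    rwa [χ.commutes, e.symm.commutes] at this⟩
  let p : Ideal P.Ring := (maximalIdeal T).comap ψ.toRingHom
  have hp : p.IsPrime := Ideal.IsPrime.comap _
  have hpm : ∀ x : p.primeCompl, IsUnit (ψ (x : P.Ring)) := fun x => notMem_maximalIdeal.1 x.2
  have hess : EGA4loc.IsEssentiallyEtale A T := by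
    refine ⟨P.Ring, inferInstance, inferInstance, p, hp, inferInstance, ?_, ?_⟩
    · show ((maximalIdeal T).comap ψ.toRingHom).comap (algebraMap A P.Ring) = _
      rw [Ideal.comap_comap, AlgHom.toRingHom_eq_coe, AlgHom.comp_algebraMap]
      exact ((IsLocalRing.local_hom_TFAE (algebraMap A T)).out 0 4).mp hψ
    · letI : Algebra P.Ring T := ψ.toRingHom.toAlgebra
      haveI : IsScalarTower A P.Ring T := IsScalarTower.of_algebraMap_eq fun a => (ψ.commutes a).symm
      haveI : IsLocalization p.primeCompl T := by
        refine ⟨fun x => hpm x, fun y => ?_, fun {b b'} h => ?_⟩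
        · obtain ⟨b, c, hc, hbc⟩ := h1 y
          exact ⟨⟨b, ⟨c, notMem_maximalIdeal.2 hc⟩⟩, hbc⟩
        · obtain ⟨c, hc, hc0⟩ := h2 (b - b') (by rw [map_sub, sub_eq_zero]; exact h)
          exact ⟨⟨c, notMem_maximalIdeal.2 hc⟩, by
            show c * b = c * b'
            rw [← sub_eq_zero, ← mul_sub, mul_comm]; exact hc0⟩
      exact ⟨((IsLocalization.algEquiv p.primeCompl T (Localization.AtPrime p)).restrictScalars A)⟩
  obtain ⟨hu, hft⟩ := Hensel.essEt_unramified hess
  have hloc : IsLocalHom (e.symm.toAlgHom.comp χ).toRingHom :=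
    Hensel.essEt_hom_local hess (e.symm.toAlgHom.comp χ)
  obtain ⟨E, hE, hEl, hEh, hEe⟩ := exists_subalgebra_of_essEt T hess (e.symm.toAlgHom.comp χ)
    (e.symm.injective.comp hinj) (fun x hx => hloc.map_nonunit x hx)
  refine ⟨E, fun x hx => ?_, hEl, hEh, hEe⟩
  obtain ⟨y, hy⟩ := hz (F.equivFin ⟨x, hx⟩)
  have : e.symm.toAlgHom.comp χ y = x := by
    show e.symm (χ y) = x
    rw [hy, Equiv.symm_apply_apply, AlgEquiv.symm_apply_apply]
  exact this ▸ hE y

include hS in
/-- The residue field of a dominated subalgebra is separable over that of the base. -/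
theorem isSeparable_residue (D : Subalgebra A S) [IsLocalRing D] [IsLocalHom (algebraMap D S)]
    [IsLocalHom (algebraMap A D)] : Algebra.IsSeparable (ResidueField A) (ResidueField D) := by
  haveI := hS.isSepClosure
  let g : ResidueField D →ₐ[ResidueField A] ResidueField S :=
    { ResidueField.lift ((residue S).comp (algebraMap D S)) with
      commutes' := fun z => by
        obtain ⟨a, rfl⟩ := residue_surjective z
        rfl }
  exact Algebra.IsSeparable.of_algHom (ResidueField A) (ResidueField S) g

omit hS [IsLocalRing S] in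
theorem isLocalHom_base (D : Subalgebra A S) : IsLocalHom (algebraMap A D) :=
  ⟨fun a ha => isUnit_of_map_unit (algebraMap A S) a (ha.map (algebraMap D S))⟩

include hS in
/-- A dominated local algebra with maximal ideal coming from the base is unramified. -/
theorem unramified_of_max (D : Subalgebra A S) [IsLocalRing D] [IsLocalHom (algebraMap D S)]
    [Algebra.EssFiniteType A D] (hm : (maximalIdeal A).map (algebraMap A D) = maximalIdeal D) :
    Algebra.FormallyUnramified A D := by
  haveI := isLocalHom_base D
  exact Algebra.FormallyUnramified.iff_map_maximalIdeal_eq.2 ⟨isSeparable_residue D, hm⟩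

include hS in
/-- A dominated unramified essentially finite type subalgebra is essentially étale. -/
theorem essEt_of_unramified (D : Subalgebra A S) [IsLocalRing D] [IsLocalHom (algebraMap D S)]
    [Algebra.EssFiniteType A D] [Algebra.FormallyUnramified A D] : EGA4loc.IsEssentiallyEtale A D := by
  classical
  haveI := isLocalHom_base D
  let C := Algebra.EssFiniteType.subalgebra A D
  let q : Ideal C := (maximalIdeal D).comap (algebraMap C D)
  haveI : q.IsPrime := Ideal.IsPrime.comap _
  have hM : Algebra.EssFiniteType.submonoid A D = q.primeCompl := by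
    ext x
    exact notMem_maximalIdeal.symm
  haveI : IsLocalization q.primeCompl D := hM ▸ Algebra.EssFiniteType.isLocalization (R := A) (S := D)
  haveI : Algebra.IsUnramifiedAt A q :=
    Algebra.FormallyUnramified.of_equiv ((IsLocalization.algEquiv q.primeCompl D (Localization.AtPrime q)).restrictScalars A)
  obtain ⟨g, hg, P, φ, hφ⟩ := Algebra.IsUnramifiedAt.exists_hasStandardEtaleSurjectionOn (R := A) q
  have hgu : IsUnit (algebraMap C D g) := notMem_maximalIdeal.1 hg
  let θ : Localization.Away g →ₐ[A] D := IsLocalization.Away.liftAlgHom g (f := IsScalarTower.toAlgHom A C D) hgu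
  let ω : P.Ring →ₐ[A] D := θ.comp φ
  let r : Ideal P.Ring := (maximalIdeal D).comap ω.toRingHom
  haveI : r.IsPrime := Ideal.IsPrime.comap _
  let B := Localization.AtPrime r
  have hr : r.comap (algebraMap A P.Ring) = maximalIdeal A := by
    show ((maximalIdeal D).comap ω.toRingHom).comap (algebraMap A P.Ring) = _
    rw [Ideal.comap_comap, AlgHom.toRingHom_eq_coe, AlgHom.comp_algebraMap]
    exact ((IsLocalRing.local_hom_TFAE (algebraMap A D)).out 0 4).mp ‹IsLocalHom (algebraMap A D)›
  have hB : EGA4loc.IsEssentiallyEtale A B :=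
    ⟨P.Ring, inferInstance, inferInstance, r, inferInstance, inferInstance, hr, ⟨AlgEquiv.refl⟩⟩
  let ν : B →ₐ[A] D := IsLocalization.liftAlgHom (M := r.primeCompl) (f := ω) fun x => notMem_maximalIdeal.1 x.2
  have hν : ∀ x, ν (algebraMap P.Ring B x) = ω x := fun x => IsLocalization.lift_eq _ x
  have hνsurj : Function.Surjective ν := fun d => by
    obtain ⟨c, s, rfl⟩ := IsLocalization.exists_mk'_eq q.primeCompl d
    obtain ⟨b, hb⟩ := hφ (algebraMap C (Localization.Away g) c)
    obtain ⟨t, ht⟩ := hφ (algebraMap C (Localization.Away g) s)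
    have hθ : ∀ x : C, θ (algebraMap C (Localization.Away g) x) = algebraMap C D x := fun x =>
      IsLocalization.Away.lift_eq g hgu x
    have hωt : ω t = algebraMap C D s := by show θ (φ t) = _; rw [ht, hθ]
    have htr : t ∈ r.primeCompl := fun h => s.2 (show algebraMap C D s ∈ maximalIdeal D by rw [← hωt]; exact h)
    refine ⟨IsLocalization.mk' B b ⟨t, htr⟩, ?_⟩
    refine (IsLocalization.map_units D s).mul_left_inj.1 ?_
    have hbt : IsLocalization.mk' B b ⟨t, htr⟩ * algebraMap P.Ring B t = algebraMap P.Ring B b :=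
      IsLocalization.mk'_spec B b ⟨t, htr⟩
    rw [IsLocalization.mk'_spec, ← hωt, ← hν t, ← map_mul, hbt, hν]
    show θ (φ b) = _
    rw [hb, hθ]
  obtain ⟨hu, hft⟩ := Hensel.essEt_unramified hB
  haveI : IsLocalHom (algebraMap A B) := ⟨fun a ha => isUnit_of_map_unit (algebraMap A D) a (by
    have := ha.map ν; rwa [ν.commutes] at this)⟩
  have hloc : IsLocalHom (D.val.comp ν).toRingHom := Hensel.essEt_hom_local hB (D.val.comp ν)
  haveI := hloc
  have hinj : Function.Injective ν := fun x y h => injective_of_local B (D.val.comp ν) (congrArg D.val h)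
  exact essEt_equiv hB (AlgEquiv.ofBijective ν ⟨hinj, hνsurj⟩).symm

include hS in
/-- Dividing inside a dominated essentially étale subalgebra. -/
theorem mem_of_mul_mem (E : Subalgebra A S) [IsLocalRing E] [IsLocalHom (algebraMap E S)]
    (hE : EGA4loc.IsEssentiallyEtale A E) {x : S} {b : S} (hb : b ∈ E) (hbreg : IsSMulRegular S b)
    (h : b * x ∈ E) : x ∈ E := by
  obtain ⟨hu, hft⟩ := Hensel.essEt_unramified hE
  haveI := flat_over (A := A) (S := S) E
  haveI : Module.FaithfullyFlat E S := Module.FaithfullyFlat.of_flat_of_isLocalHom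
  have h1 : (⟨b * x, h⟩ : E) ∈ Ideal.span {(⟨b, hb⟩ : E)} := by
    rw [← Ideal.comap_map_eq_self_of_faithfullyFlat (B := S) (Ideal.span {(⟨b, hb⟩ : E)}), Ideal.mem_comap, Ideal.map_span,
      Set.image_singleton, Ideal.mem_span_singleton']
    exact ⟨x, mul_comm _ _⟩
  obtain ⟨e, he⟩ := Ideal.mem_span_singleton'.1 h1
  have h2 : b * (e : S) = b * x := by
    rw [mul_comm]; exact congrArg (fun z : E => (z : S)) he
  rw [← hbreg h2]
  exact e.2

include hS in
/-- Essentially finite type dominated subalgebras lie in an essentially étale one. -/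
theorem exists_le_essEt (D : Subalgebra A S) [IsLocalRing D] [IsLocalHom (algebraMap D S)]
    [Algebra.EssFiniteType A D] :
    ∃ E : Subalgebra A S, D ≤ E ∧ ∃ _ : IsLocalRing E, IsLocalHom (algebraMap E S) ∧ EGA4loc.IsEssentiallyEtale A E := by
  classical
  obtain ⟨E, hF, hEl, hEh, hE⟩ := exists_essEt_ge (A := A) ((Algebra.EssFiniteType.finset A D).image fun x : D => (x : S))
  refine ⟨E, fun d hd => ?_, hEl, hEh, hE⟩
  haveI := hEl
  haveI := hEh
  let C := Algebra.EssFiniteType.subalgebra A D
  have hC : ∀ c : C, ((c : D) : S) ∈ E := fun c => by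
    have h1 : C ≤ E.comap D.val := Algebra.adjoin_le fun x hx =>
      hF (Finset.mem_coe.2 (Finset.mem_image_of_mem (fun y : D => (y : S)) hx))
    exact h1 c.2
  obtain ⟨c, s, hcs⟩ := IsLocalization.exists_mk'_eq (Algebra.EssFiniteType.submonoid A D) (⟨d, hd⟩ : D)
  have hspec := congrArg (fun z : D => (z : S)) (IsLocalization.mk'_spec D c s)
  rw [hcs] at hspec
  have hu : IsUnit (⟨((s : C) : D), hC s⟩ : E) :=
    isUnit_of_map_unit (algebraMap E S) _ ((s.2 : IsUnit (algebraMap C D s)).map D.val)
  obtain ⟨w, hw⟩ := hu.exists_right_inv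
  have hw' : ((s : C) : D) * (w : S) = (1 : S) := congrArg (fun z : E => (z : S)) hw
  have hspec' : d * ((s : C) : D) = ((c : D) : S) := hspec
  rw [show d = ((c : D) : S) * (w : S) by rw [← hspec', mul_assoc, hw', mul_one]]
  exact mul_mem (hC c) w.2

end Groth.Agent.EssSub
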