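/-
Normal local subalgebras of a strict henselization are unramified at the closed point.
-/
import Mathlib
import Groth.Agent.EssSub.Basic
import Groth.Agent.GaloisStage.GenFix
import Groth.Agent.GaloisStage.ClosedIff
import Groth.Agent.GaloisStage.StageExtend
import Groth.Agent.Hensel.Fibres
import Groth.Agent.Hensel.HenselizationNoeth

set_option autoImplicit false
set_option linter.style.haveILetI false
universe u

open IsLocalRing

namespace Groth.Agent.EssSub

/-- A strict henselization is a strict henselization of the henselization. -/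
theorem tower_strict (A Ah S : Type u) [CommRing A] [IsLocalRing A] [CommRing Ah] [IsLocalRing Ah] [Algebra A Ah]
    [IsLocalHom (algebraMap A Ah)] [hh : _root_.Hensel.IsHenselization A Ah] [CommRing S] [IsLocalRing S] [Algebra A S]
    [IsLocalHom (algebraMap A S)] [hS : _root_.Hensel.IsStrictHenselization A S] [Algebra Ah S] [IsScalarTower A Ah S]
    [IsLocalHom (algebraMap Ah S)] : _root_.Hensel.IsStrictHenselization Ah S where
  henselian := hS.henselian
  isSepClosure := by
    haveI := hS.isSepClosure
    haveI := hS.isSepClosure.1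
    haveI : IsScalarTower (ResidueField A) (ResidueField Ah) (ResidueField S) := IsScalarTower.of_algebraMap_eq fun z => by
      obtain ⟨a, rfl⟩ := residue_surjective z
      exact congrArg (residue S) (IsScalarTower.algebraMap_apply A Ah S a)
    haveI : Algebra.IsSeparable (ResidueField Ah) (ResidueField S) :=
      Algebra.isSeparable_tower_top_of_isSeparable (ResidueField A) _ _
    exact ⟨inferInstance, inferInstance⟩
  universal T _ _ f _ τ hτ := by
    haveI := hS.henselian
    haveI : IsLocalHom (f.comp (algebraMap A Ah)) := RingHom.isLocalHom_comp _ _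
    have hτ' : τ.comp (ResidueField.map (algebraMap A S)) = ResidueField.map (f.comp (algebraMap A Ah)) := by
      refine RingHom.ext fun z => ?_
      obtain ⟨a, rfl⟩ := residue_surjective z
      show τ (residue S (algebraMap A S a)) = residue T (f (algebraMap A Ah a))
      rw [IsScalarTower.algebraMap_apply A Ah S]
      exact RingHom.congr_fun hτ (residue Ah (algebraMap A Ah a))
    obtain ⟨g, ⟨hg1, hg2⟩, hgu⟩ := hS.universal T (f.comp (algebraMap A Ah)) τ hτ'
    have hgA : (g.comp (algebraMap Ah S)).comp (algebraMap A Ah) = f.comp (algebraMap A Ah) := by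
      rw [RingHom.comp_assoc, ← IsScalarTower.algebraMap_eq, hg1]
    have hgf : g.comp (algebraMap Ah S) = f :=
      (hh.universal T (f.comp (algebraMap A Ah)) inferInstance).unique hgA rfl
    exact ⟨g, ⟨hgf, hg2⟩, fun g' hg' => hgu g' ⟨by rw [← hg'.1, RingHom.comp_assoc, ← IsScalarTower.algebraMap_eq], hg'.2⟩⟩

/-- A prime over zero in an unramified fibre algebra over a domain, itself a domain, is zero. -/
theorem eq_bot_of_comap_eq_bot {R T : Type u} [CommRing R] [CommRing T] [IsDomain T] [Algebra R T]
    (h : Hensel.UnramifiedFibres R T) (P : Ideal T) [P.IsPrime] (hP : P.comap (algebraMap R T) = ⊥) : P = ⊥ := by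
  refine eq_bot_iff.2 fun z hz => ?_
  obtain ⟨s, hs, hsz⟩ := h P ‹_› z hz
  rw [hP, Ideal.map_bot, Ideal.mem_bot] at hsz
  exact (Ideal.mem_bot).2 ((mul_eq_zero.1 hsz).resolve_left fun h0 => hs (h0 ▸ P.zero_mem))

section Henselian

variable {A S : Type u} [CommRing A] [HenselianLocalRing A] [IsNoetherianRing A] [CommRing S] [IsLocalRing S]
  [IsReduced S] [Algebra A S] [IsLocalHom (algebraMap A S)] [hS : _root_.Hensel.IsStrictHenselization A S]

include hS in
/-- A normal subalgebra over a henselian base is fixed. -/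
theorem fix_of_normal (D : Subalgebra A S) [IsDomain D] [IsIntegrallyClosed D] :
    ∀ τ ∈ GaloisStage.resFix D, ∀ d ∈ D, τ • d = d := by
  classical
  intro τ hτ d hd
  refine sub_eq_zero.1 ?_
  have h1 : τ • d - d ∈ sInf (minimalPrimes S) := Submodule.mem_sInf.2 fun Q hQ => by
    haveI := hQ.isPrime
    have hp := GaloisStage.comap_minimal (A := A) D hQ
    rw [IsDomain.minimalPrimes_eq_singleton_bot, Set.mem_singleton_iff] at hp
    obtain ⟨st, hst⟩ := GaloisStage.exists_stage A ({d} : Finset S)
    refine (GaloisStage.exists_match_stage D Q τ (fun w hw => ?_) st d (hst (by simp))).2 hd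
    obtain ⟨a, b, hb, hab⟩ := GaloisStage.exists_div_of_mem_branchField D Q hw
    haveI := GaloisStage.isIntegral_S (A := A) (S := S)
    let K := FractionRing (S ⧸ Q)
    have hinj : Function.Injective (algebraMap D K) := by
      rw [injective_iff_map_eq_zero]
      intro z hz
      have hz' : algebraMap (S ⧸ Q) K (Ideal.Quotient.mk Q (z : S)) = 0 := hz
      have h2 : z ∈ Ideal.comap (algebraMap D S) Q := (Ideal.Quotient.eq_zero_iff_mem (I := Q) (a := (z : S))).1
        ((map_eq_zero_iff _ (IsFractionRing.injective (S ⧸ Q) K)).1 hz')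
      rw [hp] at h2
      exact h2
    let φ : FractionRing D →+* K := IsFractionRing.lift hinj
    let φA : FractionRing D →ₐ[A] K := { φ with
      commutes' := fun r => by
        show φ (algebraMap A _ r) = _
        rw [IsScalarTower.algebraMap_apply A D (FractionRing D), IsFractionRing.lift_algebraMap,
          ← IsScalarTower.algebraMap_apply A D K] }
    have hint : IsIntegral A (algebraMap (S ⧸ Q) K (Ideal.Quotient.mk Q w)) :=
      ((Algebra.IsIntegral.isIntegral (R := A) w).map (Ideal.Quotient.mkₐ A Q)).map (IsScalarTower.toAlgHom A (S ⧸ Q) K)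
    have hx : φA (algebraMap D _ a / algebraMap D _ b) = algebraMap (S ⧸ Q) K (Ideal.Quotient.mk Q w) := by
      show φ _ = _
      rw [map_div₀, IsFractionRing.lift_algebraMap, IsFractionRing.lift_algebraMap, hab]
    rw [← hx] at hint
    obtain ⟨e, he⟩ := IsIntegrallyClosed.isIntegral_iff.1
      (((isIntegral_algHom_iff φA φ.injective).1 hint).tower_top (A := D))
    have he' : algebraMap (S ⧸ Q) K (Ideal.Quotient.mk Q (e : S)) = algebraMap (S ⧸ Q) K (Ideal.Quotient.mk Q w) := by
      rw [← hx, ← he]
      exact (IsFractionRing.lift_algebraMap hinj e).symm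
    have h3 : (e : S) - w ∈ Q := Ideal.Quotient.eq.1 (IsFractionRing.injective (S ⧸ Q) K he')
    have h4 : residue S w = residue S (e : S) := by
      rw [eq_comm, ← sub_eq_zero, ← map_sub, residue_eq_zero_iff]
      exact IsLocalRing.le_maximalIdeal (Ideal.IsPrime.ne_top ‹_›) h3
    rw [h4]
    exact hτ _ e.2
  rw [minimalPrimes, Ideal.sInf_minimalPrimes] at h1
  obtain ⟨n, hn⟩ := h1
  exact IsNilpotent.eq_zero ⟨n, Ideal.mem_bot.1 hn⟩

omit [IsReduced S] in
include hS in
/-- Nonunits of a fixed subalgebra come from the base. -/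
theorem mem_map_of_nonunit (D : Subalgebra A S) (hfix : ∀ τ ∈ GaloisStage.resFix D, ∀ d ∈ D, τ • d = d) (d : D)
    (hd : ¬IsUnit (d : S)) : d ∈ (maximalIdeal A).map (algebraMap A D) := by
  classical
  obtain ⟨st, hst⟩ := GaloisStage.exists_stage A ({(d : S)} : Finset S)
  haveI := st.finite_aut
  letI : Fintype (GaloisStage.stageGroup D st) := Fintype.ofFinite _
  let x : st.ring := ⟨d, hst (by simp)⟩
  have h1 : x ∈ (maximalIdeal A).map (algebraMap A st.ring) := by
    rw [← st.maximalIdeal_eq, mem_maximalIdeal, mem_nonunits_iff]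
    exact fun hu => hd (hu.map (algebraMap st.ring S) :)
  have h2 := GaloisStage.mem_map_of_fixed (G := GaloisStage.stageGroup D st) (T := st.ring) GaloisStage.stageGroup_faithful
    (maximalIdeal A) (D.comap st.ring.val) (GaloisStage.inter_stage_fixed_iff D hfix st) ⟨x, d.2⟩ h1
  let i : D.comap st.ring.val →ₐ[A] D := (st.ring.val.comp (D.comap st.ring.val).val).codRestrict D fun c => c.2
  have h3 := Ideal.mem_map_of_mem i.toRingHom h2
  rw [Ideal.map_map, AlgHom.toRingHom_eq_coe, AlgHom.comp_algebraMap] at h3
  exact h3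

end Henselian

variable {A S : Type u} [CommRing A] [IsLocalRing A] [CommRing S] [IsLocalRing S] [Algebra A S]
  [IsLocalHom (algebraMap A S)] [hS : _root_.Hensel.IsStrictHenselization A S]

include hS in
/-- The comparison with henselizations. -/
theorem max_mem_aux (Ah : Type u) [CommRing Ah] [HenselianLocalRing Ah] [IsNoetherianRing Ah] [Algebra A Ah]
    [IsLocalHom (algebraMap A Ah)] [_root_.Hensel.IsHenselization A Ah] (hred : IsReduced S)
    (D : Subalgebra A S) [IsLocalRing D] [IsDomain D] [IsLocalHom (algebraMap D S)] [IsLocalHom (algebraMap A D)]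
    (Dh : Type u) [CommRing Dh] [IsDomain Dh] [IsIntegrallyClosed Dh] [HenselianLocalRing Dh] [Algebra D Dh]
    [IsLocalHom (algebraMap D Dh)] [_root_.Hensel.IsHenselization D Dh] (z : Dh) (hz : z ∈ maximalIdeal Dh) :
    z ∈ (maximalIdeal A).map ((algebraMap D Dh).comp (algebraMap A D)) := by
  haveI := hred
  haveI := hS.henselian
  obtain ⟨h, hh, hhu⟩ :=
    (‹_root_.Hensel.IsHenselization A Ah›).universal S (algebraMap A S) inferInstance
  obtain ⟨θ, hθ, -⟩ :=
    (‹_root_.Hensel.IsHenselization D Dh›).universal S (algebraMap D S) inferInstance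
  obtain ⟨j, hj, -⟩ := (‹_root_.Hensel.IsHenselization A Ah›).universal Dh ((algebraMap D Dh).comp (algebraMap A D))
    (RingHom.isLocalHom_comp _ _)
  letI : Algebra Ah S := h.toAlgebra
  haveI : IsScalarTower A Ah S := IsScalarTower.of_algebraMap_eq fun a => (RingHom.congr_fun hh a).symm
  have hmA : (maximalIdeal A).map (algebraMap A Ah) = maximalIdeal Ah := Hensel.henselization_map_maximalIdeal A Ah
  haveI : IsLocalHom (algebraMap Ah S) := ((local_hom_TFAE (algebraMap Ah S)).out 0 2).2 (by
    rw [← hmA, Ideal.map_map, ← IsScalarTower.algebraMap_eq]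
    exact ((local_hom_TFAE (algebraMap A S)).out 0 2).1 ‹_›)
  haveI := tower_strict A Ah S
  have hθinj : Function.Injective θ := by
    have hc : (RingHom.ker θ).comap (algebraMap D Dh) = ⊥ := by
      rw [RingHom.comap_ker, hθ]; exact (RingHom.injective_iff_ker_eq_bot _).1 Subtype.val_injective
    obtain ⟨Q0, hQ0, hQ0e⟩ := Ideal.exists_minimalPrimes_comap_eq (I := RingHom.ker θ) (algebraMap D Dh) ⊥
      (by rw [hc, Ideal.minimalPrimes_eq_subsingleton_self]; rfl)
    haveI := hQ0.isPrime
    have h0 := eq_bot_of_comap_eq_bot (Hensel.henselization_unramifiedFibres D Dh) Q0 hQ0e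
    rw [RingHom.injective_iff_ker_eq_bot, eq_bot_iff]
    exact h0 ▸ hQ0.le
  have hθj : θ.comp j = h := hhu _ (by
    show (θ.comp j).comp (algebraMap A Ah) = algebraMap A S
    rw [RingHom.comp_assoc, hj, ← RingHom.comp_assoc, hθ]; rfl)
  letI : Algebra Ah Dh := j.toAlgebra
  let θh : Dh →ₐ[Ah] S := { θ with commutes' := fun c => RingHom.congr_fun hθj c }
  let e : Dh ≃ₐ[Ah] θh.range := AlgEquiv.ofInjective θh hθinj
  haveI : IsDomain θh.range := e.symm.toRingEquiv.injective.isDomain e.symm.toRingEquiv.toRingHom
  haveI : IsIntegrallyClosed θh.range := IsIntegrallyClosed.of_equiv (R := Dh) (S := θh.range) e.toRingEquiv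
  have hfix := fix_of_normal θh.range
  have hnu : ¬IsUnit ((e z : θh.range) : S) := by
    intro hu
    haveI : IsLocalHom θ := ((local_hom_TFAE θ).out 0 2).2 (by
      rw [← Hensel.henselization_map_maximalIdeal D Dh, Ideal.map_map, hθ]
      exact ((local_hom_TFAE (algebraMap D S)).out 0 2).1 ‹_›)
    exact (mem_maximalIdeal z).1 hz (isUnit_of_map_unit θ z hu)
  have h1 := Ideal.mem_map_of_mem e.symm.toAlgHom.toRingHom (mem_map_of_nonunit θh.range hfix (e z) hnu)
  rw [Ideal.map_map, AlgHom.toRingHom_eq_coe, AlgHom.comp_algebraMap] at h1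
  rw [← hj, ← Ideal.map_map, hmA]
  have h2 : e.symm.toAlgHom (e z) = z := e.symm_apply_apply z
  rw [show (↑e.symm.toAlgHom : θh.range →+* Dh) (e z) = z from h2] at h1
  exact h1

include hS in
/-- The maximal ideal of a normal dominated subalgebra comes from the base. -/
theorem max_eq_of_normal [IsNoetherianRing A] [IsReduced A] (D : Subalgebra A S) [IsLocalRing D]
    [IsLocalHom (algebraMap D S)] [IsDomain D] [IsIntegrallyClosed D] :
    (maximalIdeal A).map (algebraMap A D) = maximalIdeal D := by
  haveI := isLocalHom_base D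
  have hred : IsReduced S := (Hensel.strictHenselization_isReduced_iff A S).2 ‹_›
  obtain ⟨hlA, hAh⟩ := Hensel.exists_henselization A
  haveI := hlA
  haveI := hAh
  obtain ⟨hlD, hDh⟩ := Hensel.exists_henselization D
  haveI := hlD
  haveI := hDh
  haveI : HenselianLocalRing (Hensel.Env A (ResidueField A)) := hAh.henselian
  haveI : HenselianLocalRing (Hensel.Env D (ResidueField D)) := hDh.henselian
  haveI : IsNoetherianRing (Hensel.Env A (ResidueField A)) :=
    (Hensel.henselization_isNoetherianRing_iff A (Hensel.Env A (ResidueField A))).1 inferInstance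
  obtain ⟨hdom, hic⟩ := (Hensel.henselization_normal_iff D (Hensel.Env D (ResidueField D))).1
    ⟨‹IsDomain D›, ‹IsIntegrallyClosed D›⟩
  haveI := hdom
  haveI := hic
  refine le_antisymm (Ideal.map_le_iff_le_comap.2 fun a ha => ?_) fun d hd => ?_
  · rw [Ideal.mem_comap, mem_maximalIdeal, mem_nonunits_iff]
    exact fun hu => (mem_maximalIdeal a).1 ha (isUnit_of_map_unit (algebraMap A D) a hu)
  · have h1 := max_mem_aux (Hensel.Env A (ResidueField A)) hred D (Hensel.Env D (ResidueField D))
      (algebraMap D _ d) (map_nonunit (algebraMap D (Hensel.Env D (ResidueField D))) d hd)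
    rw [← Ideal.map_map] at h1
    haveI := Hensel.henselization_faithfullyFlat D (Hensel.Env D (ResidueField D))
    rw [← Ideal.comap_map_eq_self_of_faithfullyFlat (B := Hensel.Env D (ResidueField D))
      ((maximalIdeal A).map (algebraMap A D))]
    exact h1

end Groth.Agent.EssSub
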