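/-
Total rings of fractions of subalgebras of essentially étale algebras over reduced local rings.
-/
import Mathlib
import Groth.Agent.EssSub.Basic
import Groth.Agent.S16448
import Groth.Agent.Hensel.HenselizationProps

set_option autoImplicit false
set_option linter.style.haveILetI false
universe u

open IsLocalRing Polynomial

namespace Groth.Agent.EssSub

variable {A E : Type u} [CommRing A] [IsLocalRing A] [IsReduced A] [CommRing E] [IsLocalRing E] [Algebra A E]
  [IsLocalHom (algebraMap A E)]

/-- The generic fibre of an essentially étale algebra. -/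
theorem exists_generic (hmin : (minimalPrimes A).Finite) (hE : EGA4loc.IsEssentiallyEtale A E) :
    ∃ (_ : Algebra (FractionRing A) (FractionRing E)) (_ : IsScalarTower A (FractionRing A) (FractionRing E)),
      IsArtinianRing (FractionRing A) ∧ Module.Finite (FractionRing A) (FractionRing E) := by
  obtain ⟨hloc, t, ht⟩ := S16448.result A E hmin hE
  have hu : ∀ a : nonZeroDivisors A, IsUnit (algebraMap A (FractionRing E) a) := fun a => by
    rw [IsScalarTower.algebraMap_apply A E (FractionRing E)]
    haveI := hloc
    exact IsLocalization.map_units (FractionRing E)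
      (⟨algebraMap A E a, Submonoid.mem_map_of_mem _ a.2⟩ : (nonZeroDivisors A).map (algebraMap A E))
  let φ : FractionRing A →+* FractionRing E := IsLocalization.lift hu
  letI : Algebra (FractionRing A) (FractionRing E) := φ.toAlgebra
  haveI : IsScalarTower A (FractionRing A) (FractionRing E) :=
    IsScalarTower.of_algebraMap_eq fun a => (IsLocalization.lift_eq hu a).symm
  refine ⟨inferInstance, inferInstance, S16448.isArtinian_fractionRing hmin,
    ⟨t, eq_top_iff.2 fun x _ => ?_⟩⟩
  obtain ⟨a, ha, hax⟩ := ht x
  obtain ⟨b, hb⟩ := (IsLocalization.map_units (FractionRing A) (⟨a, ha⟩ : nonZeroDivisors A)).exists_left_inv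
  have hx : x = b • (algebraMap A (FractionRing E) a * x) := by
    rw [Algebra.smul_def, ← mul_assoc, IsScalarTower.algebraMap_apply A (FractionRing A) (FractionRing E), ← map_mul, hb,
      map_one, one_mul]
  rw [hx]
  exact Submodule.smul_mem _ _ (Submodule.span_le_restrictScalars A (FractionRing A) (t : Set (FractionRing E)) hax)

/-- A regular element of a monogenic subalgebra divides a non-zero-divisor of the base. -/
theorem exists_mul_eq (hmin : (minimalPrimes A).Finite) (hE : EGA4loc.IsEssentiallyEtale A E) (b : E)
    (hb : ∀ q : A[X], aeval b q * b = 0 → aeval b q = 0) :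
    ∃ q : A[X], ∃ a ∈ nonZeroDivisors A, aeval b q * b = algebraMap A E a := by
  obtain ⟨i1, i2, hart, hfin⟩ := exists_generic hmin hE
  letI := i1
  haveI := i2
  haveI := hart
  haveI := hfin
  let Q := FractionRing A
  let b' := algebraMap E (FractionRing E) b
  let R := Algebra.adjoin Q ({b'} : Set (FractionRing E))
  haveI : Module.Finite Q R := inferInstanceAs (Module.Finite Q (Subalgebra.toSubmodule R))
  haveI : IsArtinianRing R := IsArtinianRing.of_finite Q R
  let bR : R := ⟨b', Algebra.self_mem_adjoin_singleton Q b'⟩
  have hrep : ∀ y : R, ∃ q : A[X], ∃ a ∈ nonZeroDivisors A,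
      algebraMap A (FractionRing E) a * (y : FractionRing E) = algebraMap E (FractionRing E) (aeval b q) := fun y => by
    have hy : (y : FractionRing E) ∈ Algebra.adjoin Q ({b'} : Set (FractionRing E)) := y.2
    rw [Algebra.adjoin_singleton_eq_range_aeval] at hy
    obtain ⟨p, hp⟩ := hy
    obtain ⟨c, hc, hcp⟩ := IsLocalization.integerNormalization_spec (nonZeroDivisors A) p
    refine ⟨IsLocalization.integerNormalization (nonZeroDivisors A) p, c, hc, ?_⟩
    rw [← hp, ← aeval_algebraMap_apply, ← aeval_map_algebraMap Q, hcp, AlgHom.map_smul_of_tower, Algebra.smul_def]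
    rfl
  have hreg : bR ∈ nonZeroDivisors R := mem_nonZeroDivisors_iff_right.2 fun y hy => by
    obtain ⟨q, a, ha, haq⟩ := hrep y
    have hy' : (y : FractionRing E) * b' = 0 := congrArg (fun z : R => (z : FractionRing E)) hy
    have h1 : aeval b q * b = 0 := IsFractionRing.injective E (FractionRing E) (by
      rw [map_mul, ← haq, map_zero, mul_assoc, hy', mul_zero])
    rw [hb q h1, map_zero] at haq
    refine Subtype.ext ?_
    have hu : IsUnit (algebraMap A (FractionRing E) a) := by
      rw [IsScalarTower.algebraMap_apply A Q (FractionRing E)]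
      exact (IsLocalization.map_units Q (⟨a, ha⟩ : nonZeroDivisors A)).map _
    exact hu.mul_right_eq_zero.1 haq
  obtain ⟨w, hw⟩ := (IsArtinianRing.isUnit_of_mem_nonZeroDivisors hreg).exists_left_inv
  obtain ⟨q, a, ha, haq⟩ := hrep w
  refine ⟨q, a, ha, IsFractionRing.injective E (FractionRing E) ?_⟩
  have hw' : (w : FractionRing E) * b' = 1 := congrArg (fun z : R => (z : FractionRing E)) hw
  rw [map_mul, ← haq, mul_assoc, hw', mul_one, ← IsScalarTower.algebraMap_apply]

section SH

variable {S : Type u} [CommRing S] [IsLocalRing S] [Algebra A S] [IsLocalHom (algebraMap A S)]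
  [hS : _root_.Hensel.IsStrictHenselization A S]

omit [IsReduced A] in
include hS in
theorem isSMulRegular_base {a : A} (ha : a ∈ nonZeroDivisors A) : IsSMulRegular S (algebraMap A S a) := by
  haveI := Hensel.strictHenselization_flat A S
  have h1 : IsSMulRegular A a := fun y z h => by
    have h2 : (y - z) * a = 0 := by
      simp only [smul_eq_mul] at h
      linear_combination h
    exact sub_eq_zero.1 (mem_nonZeroDivisors_iff_right.1 ha _ h2)
  intro y z h
  refine (IsSMulRegular.of_flat (S := S) h1) ?_
  simpa [Algebra.smul_def] using h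

include hS in
/-- Non-zero-divisors of a subalgebra divide non-zero-divisors of the base. -/
theorem exists_mul_eq_sub (hmin : (minimalPrimes A).Finite) (D : Subalgebra A S) {b : D} (hb : b ∈ nonZeroDivisors D) :
    ∃ c : D, ∃ a ∈ nonZeroDivisors A, c * b = algebraMap A D a := by
  classical
  obtain ⟨E, hE, hEl, hEh, hEe⟩ := exists_essEt_ge (A := A) ({(b : S)} : Finset S)
  haveI := hEl
  haveI := hEh
  haveI := isLocalHom_base E
  let bE : E := ⟨b, hE (by simp)⟩
  have hv : ∀ q : A[X], ((aeval bE q : E) : S) = aeval (b : S) q := fun q => (aeval_algHom_apply E.val bE q).symm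
  have hv' : ∀ q : A[X], ((aeval b q : D) : S) = aeval (b : S) q := fun q => (aeval_algHom_apply D.val b q).symm
  obtain ⟨q, a, ha, h⟩ := exists_mul_eq hmin hEe bE fun q hq => by
    have h1 : aeval b q * b = 0 := Subtype.ext (by
      show ((aeval b q : D) : S) * (b : S) = 0
      rw [hv', ← hv]
      exact congrArg (fun z : E => (z : S)) hq)
    have h2 := mem_nonZeroDivisors_iff_right.1 hb _ h1
    exact Subtype.ext (by rw [hv, ← hv', h2]; rfl)
  refine ⟨aeval b q, a, ha, Subtype.ext ?_⟩
  show ((aeval b q : D) : S) * (b : S) = algebraMap A S a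
  rw [hv', ← hv]
  exact congrArg (fun z : E => (z : S)) h

include hS in
/-- Every fraction of a subalgebra has a denominator from the base. -/
theorem exists_base_denominator (hmin : (minimalPrimes A).Finite) (D : Subalgebra A S) (x : FractionRing D) :
    ∃ d : D, ∃ a ∈ nonZeroDivisors A, algebraMap A (FractionRing D) a * x = algebraMap D (FractionRing D) d := by
  obtain ⟨d, b, rfl⟩ := IsLocalization.exists_mk'_eq (nonZeroDivisors D) x
  obtain ⟨c, a, ha, h⟩ := exists_mul_eq_sub hmin D b.2
  refine ⟨c * d, a, ha, ?_⟩
  rw [IsScalarTower.algebraMap_apply A D (FractionRing D), ← h, map_mul, map_mul, mul_assoc,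
    IsLocalization.mk'_spec']

include hS in
/-- Finitely generated total fractions give containment in an essentially étale subalgebra. -/
theorem exists_le_of_fg (hmin : (minimalPrimes A).Finite) (D : Subalgebra A S) (t : Finset (FractionRing D))
    (ht : ∀ x : FractionRing D, ∃ a ∈ nonZeroDivisors A,
      algebraMap A (FractionRing D) a * x ∈ Algebra.adjoin A (t : Set (FractionRing D))) :
    ∃ E : Subalgebra A S, D ≤ E ∧ ∃ _ : IsLocalRing E, IsLocalHom (algebraMap E S) ∧ EGA4loc.IsEssentiallyEtale A E := by
  classical
  choose num den hden hnum using exists_base_denominator (A := A) hmin D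
  obtain ⟨E, hE, hEl, hEh, hEe⟩ := exists_essEt_ge (A := A) (t.image fun x => (num x : S))
  refine ⟨E, fun d hd => ?_, hEl, hEh, hEe⟩
  haveI := hEl
  haveI := hEh
  obtain ⟨a, ha, hat⟩ := ht (algebraMap D _ (⟨d, hd⟩ : D))
  have key : ∀ y ∈ Algebra.adjoin A (t : Set (FractionRing D)), ∃ c ∈ nonZeroDivisors A, ∃ e : D, (e : S) ∈ E ∧
      algebraMap A _ c * y = algebraMap D _ e := by
    intro y hy
    induction hy using Algebra.adjoin_induction with
    | mem x hx => exact ⟨den x, hden x, num x, hE (Finset.mem_coe.2 (Finset.mem_image_of_mem (fun x => (num x : S)) hx)), hnum x⟩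
    | algebraMap r => exact ⟨1, one_mem _, algebraMap A D r, E.algebraMap_mem r, by
        rw [map_one, one_mul, ← IsScalarTower.algebraMap_apply A D (FractionRing D)]⟩
    | add x y _ _ hx hy =>
      obtain ⟨c, hc, e, he, hce⟩ := hx
      obtain ⟨c', hc', e', he', hce'⟩ := hy
      refine ⟨c * c', mul_mem hc hc', algebraMap A D c' * e + algebraMap A D c * e',
        add_mem (mul_mem (E.algebraMap_mem _) he) (mul_mem (E.algebraMap_mem _) he'), ?_⟩
      rw [map_add, map_mul, map_mul, map_mul, ← hce, ← hce', ← IsScalarTower.algebraMap_apply A D (FractionRing D),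
        ← IsScalarTower.algebraMap_apply A D (FractionRing D)]
      ring
    | mul x y _ _ hx hy =>
      obtain ⟨c, hc, e, he, hce⟩ := hx
      obtain ⟨c', hc', e', he', hce'⟩ := hy
      refine ⟨c * c', mul_mem hc hc', e * e', mul_mem he he', ?_⟩
      rw [map_mul, map_mul, ← hce, ← hce']
      ring
  obtain ⟨c, hc, e, he, hce⟩ := key _ hat
  have h1 : algebraMap A D (c * a) * (⟨d, hd⟩ : D) = e := IsFractionRing.injective D (FractionRing D) (by
    rw [← hce, map_mul, ← IsScalarTower.algebraMap_apply A D (FractionRing D), map_mul, mul_assoc])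
  refine mem_of_mul_mem E hEe (E.algebraMap_mem (c * a)) (isSMulRegular_base (mul_mem hc ha)) ?_
  have h2 : algebraMap A S (c * a) * d = (e : S) := congrArg (fun z : D => (z : S)) h1
  rw [h2]
  exact he

include hS in
/-- Containment in an essentially étale algebra gives finitely generated total fractions. -/
theorem fg_of_le (hmin : (minimalPrimes A).Finite) (D E : Subalgebra A S) (hle : D ≤ E) [IsLocalRing E]
    (hEe : EGA4loc.IsEssentiallyEtale A E) :
    ∃ t : Finset (FractionRing D), ∀ x : FractionRing D, ∃ a ∈ nonZeroDivisors A,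
      algebraMap A (FractionRing D) a * x ∈ Algebra.adjoin A (t : Set (FractionRing D)) := by
  classical
  haveI := isLocalHom_base E
  obtain ⟨i1, i2, hart, hfin⟩ := exists_generic hmin hEe
  letI := i1
  haveI := i2
  haveI := hart
  haveI := hfin
  let i : D →ₐ[A] FractionRing E := (IsScalarTower.toAlgHom A E (FractionRing E)).comp (Subalgebra.inclusion hle)
  have hi : Function.Injective i := (IsFractionRing.injective E (FractionRing E)).comp (Subalgebra.inclusion_injective hle)
  obtain ⟨G, hG, hGN⟩ := (Submodule.fg_span_iff_fg_span_finset_subset _).1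
    (IsNoetherian.noetherian (Submodule.span (FractionRing A) (Set.range i)))
  choose g hg using fun z : G => hG z.2
  refine ⟨Finset.univ.image fun z : G => algebraMap D (FractionRing D) (g z), fun x => ?_⟩
  obtain ⟨d, a, ha, had⟩ := exists_base_denominator (A := A) hmin D x
  have hd : i d ∈ Submodule.span (FractionRing A) (Set.range fun z : G => i (g z)) := by
    have h0 : i d ∈ Submodule.span (FractionRing A) (G : Set (FractionRing E)) := hGN ▸ Submodule.subset_span ⟨d, rfl⟩
    have hsub : (G : Set (FractionRing E)) ⊆ Set.range fun z : G => i (g z) := fun z hz => ⟨⟨z, hz⟩, hg ⟨z, hz⟩⟩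
    exact Submodule.span_mono hsub h0
  obtain ⟨c, hc⟩ := (Submodule.mem_span_range_iff_exists_fun (FractionRing A)).1 hd
  obtain ⟨m, hm⟩ := IsLocalization.exist_integer_multiples_of_finite (nonZeroDivisors A) c
  choose k hk using hm
  have h1 : algebraMap A D (m : A) * d = ∑ z : G, algebraMap A D (k z) * g z := hi (by
    rw [map_mul, map_sum, AlgHom.commutes, ← hc, Finset.mul_sum]
    refine Finset.sum_congr rfl fun z _ => ?_
    rw [map_mul, AlgHom.commutes, IsScalarTower.algebraMap_apply A (FractionRing A) (FractionRing E) (k z), hk z,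
      Algebra.smul_def, ← mul_assoc, IsScalarTower.algebraMap_apply A (FractionRing A) (FractionRing E), ← map_mul]
    congr 1
    exact congrArg (algebraMap _ _) (Algebra.smul_def (m : A) (c z)).symm)
  refine ⟨m * a, mul_mem m.2 ha, ?_⟩
  rw [map_mul, mul_assoc, had, IsScalarTower.algebraMap_apply A D (FractionRing D), ← map_mul, h1, map_sum]
  refine sum_mem fun z _ => ?_
  rw [map_mul, ← IsScalarTower.algebraMap_apply A D (FractionRing D)]
  exact mul_mem (Subalgebra.algebraMap_mem _ _)
    (Algebra.subset_adjoin (Finset.mem_coe.2 (Finset.mem_image_of_mem (fun z : G => algebraMap D (FractionRing D) (g z))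
      (Finset.mem_univ z))))

end SH

end Groth.Agent.EssSub
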