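/-
Normal local subalgebras of a strict henselization of an excellent normal local domain.
-/
import Mathlib
import Groth.Prelude.Def_EGA4b
import Groth.Agent.EssSub.Normal
import Groth.Agent.EssSub.Generic
import Groth.Agent.S2654

set_option autoImplicit false
set_option linter.style.haveILetI false
universe u

open IsLocalRing Polynomial

namespace Groth.Agent.EssSub

/-- The integral closure of an excellent domain in a finite extension is finite. -/
theorem finite_integralClosure_of_excellent (A L : Type u) [CommRing A] [IsDomain A] (hA : EGA4.IsExcellent A)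
    [Field L] [Algebra A L] [Algebra (FractionRing A) L] [IsScalarTower A (FractionRing A) L]
    [FiniteDimensional (FractionRing A) L] : Module.Finite A (integralClosure A L) := by
  have hN : CAlg.IsNagata A := S2654.result A ⟨hA.1, hA.2.2.1, hA.2.2.2⟩
  let q := RingHom.ker (algebraMap A L)
  haveI : q.IsPrime := RingHom.ker_isPrime _
  letI : Algebra (A ⧸ q) L := (Ideal.Quotient.lift q (algebraMap A L) fun a ha => ha).toAlgebra
  haveI : IsScalarTower A (A ⧸ q) L := IsScalarTower.of_algebraMap_eq fun a => rfl
  haveI : FaithfulSMul (A ⧸ q) L := (faithfulSMul_iff_algebraMap_injective _ _).2 (RingHom.kerLift_injective _)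
  let F := FractionRing (A ⧸ q)
  letI : Algebra F L := FractionRing.liftAlgebra _ _
  haveI : IsScalarTower (A ⧸ q) F L := FractionRing.isScalarTower_liftAlgebra _ _
  have hfd : FiniteDimensional F L := by
    classical
    let b := Module.Free.chooseBasis (FractionRing A) L
    refine ⟨Finset.univ.image b, eq_top_iff.2 fun x _ => ?_⟩
    rw [Finset.coe_image, Finset.coe_univ, Set.image_univ, ← b.sum_repr x]
    refine Submodule.sum_mem _ fun i _ => ?_
    obtain ⟨a, c, -, hac⟩ := IsFractionRing.div_surjective A (b.repr x i)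
    have h : b.repr x i • b i =
        (algebraMap (A ⧸ q) F (Ideal.Quotient.mk q a) / algebraMap (A ⧸ q) F (Ideal.Quotient.mk q c)) • b i := by
      rw [Algebra.smul_def, Algebra.smul_def, ← hac, map_div₀, map_div₀,
        ← IsScalarTower.algebraMap_apply A (FractionRing A) L, ← IsScalarTower.algebraMap_apply A (FractionRing A) L,
        ← IsScalarTower.algebraMap_apply (A ⧸ q) F L, ← IsScalarTower.algebraMap_apply (A ⧸ q) F L]
      rfl
    rw [h]
    exact Submodule.smul_mem _ _ (Submodule.subset_span ⟨i, rfl⟩)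
  haveI : Module.Finite (A ⧸ q) (integralClosure (A ⧸ q) L) := hN.2 q L hfd
  haveI : Module.Finite A (A ⧸ q) :=
    Module.Finite.of_surjective (Algebra.linearMap A (A ⧸ q)) Ideal.Quotient.mk_surjective
  haveI : Module.Finite A (integralClosure (A ⧸ q) L) := Module.Finite.trans (A ⧸ q) _
  haveI := hN.1
  refine Module.Finite.of_injective
    ({ toFun := fun z => ⟨(z : L), (z.2 : IsIntegral A (z : L)).tower_top⟩
       map_add' := fun _ _ => rfl
       map_smul' := fun _ _ => rfl } : integralClosure A L →ₗ[A] integralClosure (A ⧸ q) L)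
    fun x y h => Subtype.ext (congrArg (fun z : integralClosure (A ⧸ q) L => (z : L)) h)

variable {A S : Type u} [CommRing A] [IsLocalRing A] [CommRing S] [IsLocalRing S] [Algebra A S]
  [IsLocalHom (algebraMap A S)] [hS : _root_.Hensel.IsStrictHenselization A S]

/-- The localization of a subalgebra at the closed point of the ambient ring. -/
def localizeIn (B : Subalgebra A S) : Subalgebra A S where
  carrier := {x | ∃ b ∈ B, ∃ c ∈ B, IsUnit c ∧ x * c = b}
  mul_mem' := fun {x y} ⟨b, hb, c, hc, hu, h⟩ ⟨b', hb', c', hc', hu', h'⟩ =>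
    ⟨b * b', mul_mem hb hb', c * c', mul_mem hc hc', hu.mul hu', by rw [← h, ← h']; ring⟩
  add_mem' := fun {x y} ⟨b, hb, c, hc, hu, h⟩ ⟨b', hb', c', hc', hu', h'⟩ =>
    ⟨b * c' + b' * c, add_mem (mul_mem hb hc') (mul_mem hb' hc), c * c', mul_mem hc hc', hu.mul hu', by
      rw [← h, ← h']; ring⟩
  algebraMap_mem' := fun r => ⟨_, B.algebraMap_mem r, 1, B.one_mem, isUnit_one, mul_one _⟩

omit hS in
theorem le_localizeIn (B : Subalgebra A S) : B ≤ localizeIn B :=
  fun x hx => ⟨x, hx, 1, B.one_mem, isUnit_one, mul_one _⟩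

omit hS in
theorem isLocalHom_localizeIn (B : Subalgebra A S) : IsLocalHom (algebraMap (localizeIn B) S) :=
  ⟨fun x hx => by
    obtain ⟨b, hb, c, hc, hu, h⟩ := x.2
    have hbu : IsUnit b := h ▸ IsUnit.mul hx hu
    refine isUnit_iff_exists_inv.2 ⟨⟨c * ↑hbu.unit⁻¹, c, hc, b, hb, hbu, ?_⟩, Subtype.ext ?_⟩
    · rw [mul_assoc, IsUnit.val_inv_mul, mul_one]
    · show (x : S) * (c * ↑hbu.unit⁻¹) = 1
      rw [← mul_assoc, h, IsUnit.mul_val_inv]⟩

omit hS in
theorem isLocalRing_localizeIn (B : Subalgebra A S) : IsLocalRing (localizeIn B) := by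
  haveI := isLocalHom_localizeIn B
  exact RingHom.domain_isLocalRing (algebraMap (localizeIn B) S)

omit hS in
theorem essFiniteType_localizeIn (B : Subalgebra A S) [Module.Finite A B] : Algebra.EssFiniteType A (localizeIn B) := by
  classical
  haveI := isLocalHom_localizeIn B
  obtain ⟨G, hG⟩ := (Module.Finite.iff_fg (N := Subalgebra.toSubmodule B)).1 inferInstance
  let σ : Finset (localizeIn B) := G.attach.image fun g =>
    ⟨g.1, le_localizeIn B (show (g.1 : S) ∈ Subalgebra.toSubmodule B by rw [← hG]; exact Submodule.subset_span g.2)⟩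
  have hB : ∀ b (hb : b ∈ B), (⟨b, le_localizeIn B hb⟩ : localizeIn B) ∈ Algebra.adjoin A (σ : Set (localizeIn B)) := by
    intro b hb
    have h1 : b ∈ (Algebra.adjoin A (σ : Set (localizeIn B))).map (localizeIn B).val := by
      have h2 : Subalgebra.toSubmodule B ≤ Subalgebra.toSubmodule ((Algebra.adjoin A (σ : Set (localizeIn B))).map (localizeIn B).val) := by
        rw [← hG, Submodule.span_le]
        intro g hg
        exact ⟨_, Algebra.subset_adjoin (Finset.mem_coe.2 (Finset.mem_image_of_mem _ (Finset.mem_attach _ ⟨g, hg⟩))), rfl⟩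
      exact h2 hb
    obtain ⟨y, hy, hyb⟩ := h1
    rwa [show (⟨b, le_localizeIn B hb⟩ : localizeIn B) = y from Subtype.ext hyb.symm]
  refine ⟨⟨σ, (Algebra.essFiniteType_cond_iff A (localizeIn B) σ).2 fun x => ?_⟩⟩
  obtain ⟨b, hb, c, hc, hu, h⟩ := x.2
  refine ⟨⟨c, le_localizeIn B hc⟩, hB c hc, isUnit_of_map_unit (algebraMap (localizeIn B) S) _ hu, ?_⟩
  rw [show x * ⟨c, le_localizeIn B hc⟩ = ⟨b, le_localizeIn B hb⟩ from Subtype.ext h]
  exact hB b hb

omit hS in
theorem normal_localizeIn [IsDomain S] (B : Subalgebra A S) [IsIntegrallyClosed B] :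
    IsIntegrallyClosed (localizeIn B) := by
  letI : Algebra B (localizeIn B) := (Subalgebra.inclusion (le_localizeIn B)).toRingHom.toAlgebra
  let M : Submonoid B := (IsUnit.submonoid S).comap B.val
  haveI : IsLocalization M (localizeIn B) := by
    haveI := isLocalHom_localizeIn B
    refine ⟨fun c => isUnit_of_map_unit (algebraMap (localizeIn B) S) _ c.2, fun x => ?_, fun {x y} h => ⟨1, ?_⟩⟩
    · obtain ⟨b, hb, c, hc, hu, h⟩ := x.2
      exact ⟨⟨⟨b, hb⟩, ⟨⟨c, hc⟩, hu⟩⟩, Subtype.ext h⟩
    · have h' : (x : S) = y := congrArg (fun z : localizeIn B => (z : S)) h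
      rw [Subtype.ext h']
  exact isIntegrallyClosed_of_isLocalization (R := B) (localizeIn B) M fun c hc => mem_nonZeroDivisors_of_ne_zero
    fun h0 => not_isUnit_zero (M₀ := S) (by
      have h1 : IsUnit ((c : B) : S) := hc
      rwa [h0] at h1)

include hS in
/-- Normal local subalgebras are unions of essentially étale ones. -/
theorem exists_essEt_le_normal [IsDomain A] [IsIntegrallyClosed A] (hA : EGA4.IsExcellent A) (D : Subalgebra A S)
    [IsLocalRing D] [IsLocalHom (algebraMap D S)] [IsDomain D] [IsIntegrallyClosed D] (s : Finset D) :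
    ∃ D' : Subalgebra A S, D' ≤ D ∧ (∀ d : D, algebraMap D (FractionRing D) d ∈
        Subfield.closure (Set.range (algebraMap A (FractionRing D)) ∪ (algebraMap D (FractionRing D)) '' (s : Set D)) →
          (d : S) ∈ D') ∧
      ∃ _ : IsLocalRing D', IsLocalHom (algebraMap D' S) ∧ EGA4loc.IsEssentiallyEtale A D' := by
  classical
  haveI := hA.1
  obtain ⟨hSd, hSn⟩ := (Hensel.strictHenselization_normal_iff A S).2 ⟨‹_›, ‹_›⟩
  haveI := hSd
  haveI := Hensel.strictHenselization_faithfullyFlat A S
  have hAS : Function.Injective (algebraMap A S) := FaithfulSMul.algebraMap_injective A S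
  let KD := FractionRing D
  haveI : FaithfulSMul A KD := (faithfulSMul_iff_algebraMap_injective _ _).2 (by
    rw [IsScalarTower.algebraMap_eq A D KD]
    exact (IsFractionRing.injective D KD).comp fun a b h => hAS (congrArg (fun z : D => (z : S)) h))
  let F := FractionRing A
  letI : Algebra F KD := FractionRing.liftAlgebra _ _
  haveI : IsScalarTower A F KD := FractionRing.isScalarTower_liftAlgebra _ _
  have hmin : (minimalPrimes A).Finite := minimalPrimes.finite_of_isNoetherianRing A
  have halg : ∀ d : D, IsIntegral F (algebraMap D KD d) := fun d => by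
    rcases eq_or_ne d 0 with rfl | hd
    · rw [map_zero]; exact isIntegral_zero
    obtain ⟨E, hE, hEl, hEh, hEe⟩ := exists_essEt_ge (A := A) ({(d : S)} : Finset S)
    haveI := hEl
    haveI := hEh
    haveI := isLocalHom_base E
    obtain ⟨q, a, ha, h⟩ := exists_mul_eq hmin hEe (⟨d, hE (by simp)⟩ : E) fun q hq => by
      have h1 := congrArg (fun z : E => (z : S)) hq
      refine Subtype.ext ?_
      exact (mul_eq_zero.1 (h1 : _ * (d : S) = 0)).resolve_right fun h0 => hd (Subtype.ext h0)
    have h1 : aeval (d : S) (q * X - C a) = 0 := by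
      have h2 := congrArg (fun z : E => (z : S)) h
      rw [map_sub, map_mul, aeval_X, aeval_C, sub_eq_zero]
      refine Eq.trans ?_ h2
      exact congrArg (· * (d : S)) (aeval_algHom_apply E.val (⟨d, hE (by simp)⟩ : E) q)
    have h3 : aeval (algebraMap D KD d) ((q * X - C a).map (algebraMap A F)) = 0 := by
      rw [aeval_map_algebraMap, aeval_algebraMap_apply,
        show aeval d (q * X - C a) = 0 from Subtype.ext ((aeval_algHom_apply D.val d _).symm.trans h1), map_zero]
    refine IsAlgebraic.isIntegral ⟨_, fun h0 => ?_, h3⟩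
    have h4 : ((q * X - C a).map (algebraMap A F)).coeff 0 = 0 := by rw [h0, coeff_zero]
    rw [coeff_map, coeff_sub, mul_coeff_zero, coeff_X_zero, mul_zero, coeff_C_zero, zero_sub, map_neg, neg_eq_zero,
      map_eq_zero_iff _ (IsFractionRing.injective A F)] at h4
    exact nonZeroDivisors.ne_zero ha h4
  let L : IntermediateField F KD := IntermediateField.adjoin F ((algebraMap D KD) '' (s : Set D))
  haveI : Finite ((algebraMap D KD) '' (s : Set D)) := (s.finite_toSet.image _).to_subtype
  haveI : FiniteDimensional F L := IntermediateField.finiteDimensional_adjoin fun x ⟨d, _, hd⟩ => hd ▸ halg d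
  have hLle : Subfield.closure (Set.range (algebraMap A KD) ∪ (algebraMap D KD) '' (s : Set D)) ≤ L.toSubfield := by
    refine Subfield.closure_le.2 (Set.union_subset ?_ (IntermediateField.subset_adjoin F _))
    rintro _ ⟨a, rfl⟩
    show algebraMap A KD a ∈ L
    rw [IsScalarTower.algebraMap_apply A F KD]
    exact L.algebraMap_mem _
  let B' := integralClosure A L
  haveI : Module.Finite A B' := finite_integralClosure_of_excellent A L hA
  have hmem : ∀ x : B', ∃ d : D, algebraMap D KD d = ((x : L) : KD) := fun x =>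
    IsIntegrallyClosed.isIntegral_iff.1
      (((x.2 : IsIntegral A (x : L)).map (L.val.restrictScalars A)).tower_top (A := D))
  choose f hf using hmem
  have hfinj : Function.Injective f := fun x y h => Subtype.ext (Subtype.ext (by rw [← hf, ← hf, h]))
  let fA : B' →ₐ[A] D :=
    { toFun := f
      map_one' := IsFractionRing.injective D KD (by rw [hf, map_one]; rfl)
      map_mul' := fun x y => IsFractionRing.injective D KD (by rw [map_mul, hf, hf, hf]; rfl)
      map_zero' := IsFractionRing.injective D KD (by rw [hf, map_zero]; rfl)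
      map_add' := fun x y => IsFractionRing.injective D KD (by rw [map_add, hf, hf, hf]; rfl)
      commutes' := fun r => IsFractionRing.injective D KD (by
        rw [hf, ← IsScalarTower.algebraMap_apply A D KD]; rfl) }
  let g : B' →ₐ[A] S := D.val.comp fA
  have hginj : Function.Injective g := fun x y h => hfinj (Subtype.ext h)
  let B := g.range
  let e : B' ≃ₐ[A] B := AlgEquiv.ofInjective g hginj
  haveI : Module.Finite A B := Module.Finite.equiv e.toLinearEquiv
  haveI : IsIntegrallyClosed B' := integralClosure.isIntegrallyClosedOfFiniteExtension F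
  haveI : IsIntegrallyClosed B := IsIntegrallyClosed.of_equiv (R := B') (S := B) e.toRingEquiv
  haveI := isLocalRing_localizeIn B
  haveI := isLocalHom_localizeIn B
  haveI := essFiniteType_localizeIn B
  haveI := normal_localizeIn B
  haveI := unramified_of_max (localizeIn B) (max_eq_of_normal (localizeIn B))
  have hess := essEt_of_unramified (localizeIn B)
  have hBD : localizeIn B ≤ D := by
    rintro x ⟨_, ⟨b, rfl⟩, _, ⟨c, rfl⟩, hu, h⟩
    obtain ⟨w, hw⟩ := (isUnit_of_map_unit (algebraMap D S) (f c) hu).exists_right_inv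
    rw [show x = (f b : S) * (w : S) by
      have hw' : (f c : S) * (w : S) = 1 := congrArg (fun z : D => (z : S)) hw
      have h' : x * (f c : S) = (f b : S) := h
      rw [← h', mul_assoc, hw', mul_one]]
    exact mul_mem (f b).2 w.2
  refine ⟨localizeIn B, hBD, fun d hd => ?_, inferInstance, inferInstance, hess⟩
  obtain ⟨m, hm⟩ := IsIntegral.exists_multiple_integral_of_isLocalization (nonZeroDivisors A) (⟨_, hLle hd⟩ : L)
    ((isIntegral_algHom_iff L.val Subtype.val_injective).1 (halg d))
  refine mem_of_mul_mem (localizeIn B) hess ((localizeIn B).algebraMap_mem (m : A)) ?_ ?_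
  · exact isSMulRegular_base m.2
  · refine le_localizeIn B ⟨⟨_, hm⟩, ?_⟩
    show (f ⟨_, hm⟩ : S) = algebraMap A S (m : A) * (d : S)
    have h5 : f ⟨_, hm⟩ = algebraMap A D (m : A) * d := IsFractionRing.injective D KD (by
      rw [hf, map_mul, ← IsScalarTower.algebraMap_apply A D KD]
      show ((m • (⟨_, hLle hd⟩ : L) : L) : KD) = _
      rw [show ((m • (⟨_, hLle hd⟩ : L) : L) : KD) = (m : A) • algebraMap D KD d from rfl, Algebra.smul_def])
    rw [h5]; rfl

end Groth.Agent.EssSub
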