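/-
Normalisations of essentially étale algebras over excellent reduced local rings.
-/
import Mathlib
import Groth.Prelude.Def_EGA4b
import Groth.Agent.EssSub.Generic
import Groth.Agent.SmoothRed.Basic
import Groth.Agent.NagataOne.Dim
import Groth.Agent.S2654

set_option autoImplicit false
set_option linter.style.haveILetI false
universe u

open IsLocalRing Polynomial TensorProduct

namespace Groth.Agent.EssSub

/-- The integral closure of a Nagata ring in a field finite over its total ring of fractions is finite. -/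
theorem finite_integralClosure_field (A L : Type u) [CommRing A] (hN : CAlg.IsNagata A)
    [Field L] [Algebra A L] [Algebra (FractionRing A) L] [IsScalarTower A (FractionRing A) L]
    [Module.Finite (FractionRing A) L] : Module.Finite A (integralClosure A L) := by
  let q := RingHom.ker (algebraMap A L)
  haveI : q.IsPrime := RingHom.ker_isPrime _
  letI : Algebra (A ⧸ q) L := (Ideal.Quotient.lift q (algebraMap A L) fun a ha => ha).toAlgebra
  haveI : IsScalarTower A (A ⧸ q) L := IsScalarTower.of_algebraMap_eq fun a => rfl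
  haveI : FaithfulSMul (A ⧸ q) L := (faithfulSMul_iff_algebraMap_injective _ _).2 (RingHom.kerLift_injective _)
  let F := FractionRing (A ⧸ q)
  letI : Algebra F L := FractionRing.liftAlgebra _ _
  haveI : IsScalarTower (A ⧸ q) F L := FractionRing.isScalarTower_liftAlgebra _ _
  have hfd : FiniteDimensional F L := by
    classical
    obtain ⟨t, ht⟩ := Module.Finite.fg_top (R := FractionRing A) (M := L)
    refine ⟨t, Submodule.eq_top_iff'.2 fun x => ?_⟩
    have hx : x ∈ Submodule.span (FractionRing A) (t : Set L) := ht ▸ Submodule.mem_top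
    induction hx using Submodule.span_induction with
    | mem z hz => exact Submodule.subset_span hz
    | zero => exact Submodule.zero_mem _
    | add y z _ _ hy hz => exact Submodule.add_mem _ hy hz
    | smul r y _ hy =>
      obtain ⟨a, c, rfl⟩ := IsLocalization.exists_mk'_eq (nonZeroDivisors A) r
      have hc : IsUnit (algebraMap A L c) := by
        rw [IsScalarTower.algebraMap_apply A (FractionRing A) L]
        exact (IsLocalization.map_units (FractionRing A) c).map _
      have hq : algebraMap (FractionRing A) L (IsLocalization.mk' _ a c) =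
          algebraMap F L (algebraMap (A ⧸ q) F (Ideal.Quotient.mk q a) /
            algebraMap (A ⧸ q) F (Ideal.Quotient.mk q c)) := by
        rw [map_div₀, ← IsScalarTower.algebraMap_apply (A ⧸ q) F L, ← IsScalarTower.algebraMap_apply (A ⧸ q) F L]
        show _ = algebraMap A L a / algebraMap A L c
        rw [eq_div_iff hc.ne_zero, IsScalarTower.algebraMap_apply A (FractionRing A) L (c : A),
          IsScalarTower.algebraMap_apply A (FractionRing A) L a, ← map_mul, IsLocalization.mk'_spec]
      rw [Algebra.smul_def, hq, ← Algebra.smul_def]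
      exact Submodule.smul_mem _ _ hy
  haveI : Module.Finite (A ⧸ q) (integralClosure (A ⧸ q) L) := hN.2 q L hfd
  haveI : Module.Finite A (A ⧸ q) :=
    Module.Finite.of_surjective (Algebra.linearMap A (A ⧸ q)) Ideal.Quotient.mk_surjective
  haveI : Module.Finite A (integralClosure (A ⧸ q) L) := Module.Finite.trans (A ⧸ q) _
  haveI := hN.1
  refine Module.Finite.of_injective
    ({ toFun := fun z => ⟨(z : L), (z.2 : IsIntegral A (z : L)).tower_top⟩
       map_add' := fun _ _ => rfl
       map_smul' := fun _ _ => rfl } : integralClosure A L →ₗ[A] integralClosure (A ⧸ q) L)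
    fun x y h => Subtype.ext (congrArg (fun z : integralClosure (A ⧸ q) L => (z : L)) h)

/-- The integral closure of a Nagata ring in a reduced finite algebra over its total ring of fractions is finite. -/
theorem finite_integralClosure_artinian (A K : Type u) [CommRing A] (hN : CAlg.IsNagata A)
    [CommRing K] [IsReduced K] [IsArtinianRing K] [Algebra A K] [Algebra (FractionRing A) K]
    [IsScalarTower A (FractionRing A) K] [Module.Finite (FractionRing A) K] :
    Module.Finite A (integralClosure A K) := by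
  classical
  haveI : ∀ m : MaximalSpectrum K, Module.Finite A (integralClosure A (K ⧸ m.asIdeal)) := fun m => by
    haveI := m.isMaximal
    letI := Ideal.Quotient.field m.asIdeal
    haveI : Module.Finite (FractionRing A) (K ⧸ m.asIdeal) :=
      Module.Finite.of_surjective (Ideal.Quotient.mkₐ (FractionRing A) m.asIdeal).toLinearMap Ideal.Quotient.mk_surjective
    exact finite_integralClosure_field A (K ⧸ m.asIdeal) hN
  letI := Fintype.ofFinite (MaximalSpectrum K)
  haveI := hN.1
  refine Module.Finite.of_injective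
    ({ toFun := fun z m => ⟨Ideal.Quotient.mk m.asIdeal (z : K),
          (z.2 : IsIntegral A (z : K)).map (Ideal.Quotient.mkₐ A m.asIdeal)⟩
       map_add' := fun _ _ => rfl
       map_smul' := fun _ _ => rfl } :
      integralClosure A K →ₗ[A] ∀ m : MaximalSpectrum K, integralClosure A (K ⧸ m.asIdeal)) fun x y h => ?_
  refine Subtype.ext (sub_eq_zero.1 (IsReduced.eq_zero _ (nilpotent_iff_mem_prime.2 fun J hJ => ?_)))
  haveI := hJ
  exact Ideal.Quotient.eq.1 (congrArg Subtype.val (congrFun h ⟨J, inferInstance⟩))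

/-- An essentially étale algebra over a reduced ring is reduced. -/
theorem isReduced_of_essEt {A E : Type u} [CommRing A] [IsLocalRing A] [IsReduced A] [CommRing E] [Algebra A E]
    (hE : EGA4loc.IsEssentiallyEtale A E) : IsReduced E := by
  obtain ⟨C, _, _, q, hq, hC, -, ⟨φ⟩⟩ := hE
  haveI := hC
  haveI := SmoothRed.isReduced_of_smooth A C
  haveI : IsReduced (Localization.AtPrime q) := inferInstanceAs (IsReduced (Localization q.primeCompl))
  exact isReduced_of_injective φ.toRingEquiv φ.injective

/-- Elements of the normalisation are combinations of elements of the normalisation of the base. -/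
theorem mem_span_integral {A E : Type u} [CommRing A] [IsLocalRing A] [IsReduced A] [CommRing E] [IsLocalRing E]
    [Algebra A E] [IsLocalHom (algebraMap A E)] (hmin : (minimalPrimes A).Finite)
    (hE : EGA4loc.IsEssentiallyEtale A E) (x : FractionRing E) (hx : IsIntegral E x) :
    x ∈ Submodule.span E {y : FractionRing E | IsIntegral A y ∧ ∃ a ∈ nonZeroDivisors A, ∃ b : A,
      algebraMap A (FractionRing E) a * y = algebraMap A (FractionRing E) b} := by
  classical
  obtain ⟨i1, i2, hart, hfinK⟩ := exists_generic hmin hE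
  letI := i1
  haveI := i2
  have hloc := (S16448.result A E hmin hE).1
  obtain ⟨C, _, _, q, hq, hC, -, ⟨φ⟩⟩ := hE
  haveI := hC
  let Q := FractionRing A
  let K := FractionRing E
  let ι : C →ₐ[A] E := φ.symm.toAlgHom.comp (IsScalarTower.toAlgHom A C (Localization.AtPrime q))
  have hfrac : ∀ e : E, ∃ c s : C, IsUnit (ι s) ∧ e * ι s = ι c := fun e => by
    obtain ⟨⟨c, s⟩, h⟩ := IsLocalization.surj q.primeCompl (φ e)
    refine ⟨c, s, (IsLocalization.map_units (Localization.AtPrime q) s).map φ.symm, ?_⟩
    have h' := congrArg φ.symm h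
    rw [map_mul, φ.symm_apply_apply] at h'
    exact h'
  have hker : ∀ c : C, ι c = 0 → ∃ s : C, IsUnit (ι s) ∧ s * c = 0 := fun c hc => by
    obtain ⟨s, hs⟩ := (IsLocalization.map_eq_zero_iff q.primeCompl (Localization.AtPrime q) c).1
      (φ.symm.injective (hc.trans (map_zero _).symm))
    exact ⟨s, (IsLocalization.map_units (Localization.AtPrime q) s).map φ.symm, hs⟩
  let f : C →ₐ[A] K := (IsScalarTower.toAlgHom A E K).comp ι
  let g : Q →ₐ[A] K := IsScalarTower.toAlgHom A Q K
  let χ : C ⊗[A] Q →ₐ[A] K := Algebra.TensorProduct.lift f g fun _ _ => Commute.all _ _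
  have hχ : ∀ c b, χ (c ⊗ₜ b) = f c * g b := fun c b => Algebra.TensorProduct.lift_tmul _ _ _ c b
  have hrep : ∀ z : C ⊗[A] Q, ∃ a ∈ nonZeroDivisors A, ∃ c : C, ((1 : C) ⊗ₜ algebraMap A Q a) * z = c ⊗ₜ 1 := by
    intro z
    induction z using TensorProduct.induction_on with
    | zero => exact ⟨1, one_mem _, 0, by simp⟩
    | tmul c b =>
      obtain ⟨⟨a₀, m⟩, hm⟩ := IsLocalization.surj (nonZeroDivisors A) b
      refine ⟨m, m.2, a₀ • c, ?_⟩
      rw [Algebra.TensorProduct.tmul_mul_tmul, one_mul, mul_comm _ b, hm, Algebra.algebraMap_eq_smul_one, ← smul_tmul]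
    | add y z hy hz =>
      obtain ⟨a, ha, c, hc⟩ := hy
      obtain ⟨a', ha', c', hc'⟩ := hz
      refine ⟨a * a', mul_mem ha ha', a' • c + a • c', ?_⟩
      have e1 : ∀ r : A, ((1 : C) ⊗ₜ[A] algebraMap A Q r) = (r • (1 : C)) ⊗ₜ (1 : Q) := fun r => by
        rw [Algebra.algebraMap_eq_smul_one, ← smul_tmul]
      calc ((1 : C) ⊗ₜ[A] algebraMap A Q (a * a')) * (y + z)
          = ((1 : C) ⊗ₜ[A] algebraMap A Q a') * (((1 : C) ⊗ₜ[A] algebraMap A Q a) * y) +
            ((1 : C) ⊗ₜ[A] algebraMap A Q a) * (((1 : C) ⊗ₜ[A] algebraMap A Q a') * z) := by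
            rw [show ((1 : C) ⊗ₜ[A] algebraMap A Q (a * a')) =
              ((1 : C) ⊗ₜ[A] algebraMap A Q a) * ((1 : C) ⊗ₜ[A] algebraMap A Q a') by
                rw [Algebra.TensorProduct.tmul_mul_tmul, one_mul, map_mul]]
            ring
        _ = _ := by
            rw [hc, hc', e1, e1, Algebra.TensorProduct.tmul_mul_tmul, Algebra.TensorProduct.tmul_mul_tmul, mul_one,
              ← add_tmul, smul_one_mul, smul_one_mul]
  have hu : ∀ a ∈ nonZeroDivisors A, IsUnit ((1 : C) ⊗ₜ[A] algebraMap A Q a) := fun a ha =>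
    (IsLocalization.map_units Q (⟨a, ha⟩ : nonZeroDivisors A)).map
      (Algebra.TensorProduct.includeRight : Q →ₐ[A] C ⊗[A] Q)
  have hinjE : Function.Injective (algebraMap E K) := IsFractionRing.injective E K
  have hkerχ : ∀ z, χ z = 0 → ∃ s : C, IsUnit (ι s) ∧ (s ⊗ₜ[A] (1 : Q)) * z = 0 := fun z hz => by
    obtain ⟨a, ha, c, hc⟩ := hrep z
    have h1 : f c = 0 := by
      have h2 := congrArg χ hc
      rw [map_mul, hz, mul_zero, hχ, map_one, mul_one] at h2
      exact h2.symm
    obtain ⟨s, hs, hsc⟩ := hker c (hinjE (by rw [map_zero]; exact h1))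
    refine ⟨s, hs, (hu a ha).mul_right_eq_zero.1 ?_⟩
    rw [mul_left_comm, hc, Algebra.TensorProduct.tmul_mul_tmul, hsc, zero_tmul]
  obtain ⟨⟨e, ⟨_, a, ha, rfl⟩⟩, hea⟩ := IsLocalization.surj ((nonZeroDivisors A).map (algebraMap A E)) x
  obtain ⟨p, hp, hpx⟩ := hx
  choose num den hden hnum using hfrac
  let u : C := den e * ∏ i ∈ Finset.range p.natDegree, den (p.coeff i)
  have hu' : IsUnit (ι u) := by
    rw [map_mul, map_prod]
    exact (hden e).mul (Finset.prod_induction _ IsUnit (fun _ _ h h' => h.mul h') isUnit_one fun i _ => hden _)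
  have hcoef : ∀ i, (p.scaleRoots (ι u)).coeff i ∈ Set.range ι := fun i => by
    rw [coeff_scaleRoots]
    rcases lt_trichotomy i p.natDegree with hi | rfl | hi
    · obtain ⟨k, hk⟩ : ∃ k : C, u = den (p.coeff i) * k :=
        ⟨den e * ∏ j ∈ (Finset.range p.natDegree).erase i, den (p.coeff j), by
          rw [mul_left_comm, Finset.mul_prod_erase _ (fun j => den (p.coeff j)) (Finset.mem_range.2 hi)]⟩
      refine ⟨num (p.coeff i) * k * u ^ (p.natDegree - i - 1), ?_⟩
      rw [map_mul, map_mul, map_pow, ← hnum, show p.natDegree - i = p.natDegree - i - 1 + 1 by omega, pow_succ]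
      conv_rhs => rw [hk, map_mul]
      rw [hk, map_mul]
      simp only [Nat.add_sub_cancel]
      ring
    · exact ⟨1, by rw [map_one, hp.coeff_natDegree, Nat.sub_self, pow_zero, one_mul]⟩
    · exact ⟨0, by rw [map_zero, coeff_eq_zero_of_natDegree_lt hi, zero_mul]⟩
  obtain ⟨p₀, hp₀, hdeg, hp₀m⟩ := lifts_and_degree_eq_and_monic (f := (ι : C →+* E))
    ((lifts_iff_coeff_lifts _).2 hcoef) ((monic_scaleRoots_iff (ι u)).2 hp)
  obtain ⟨ai, hai⟩ := (IsLocalization.map_units Q (⟨a, ha⟩ : nonZeroDivisors A)).exists_right_inv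
  let y₀ : C ⊗[A] Q := (num e * ∏ i ∈ Finset.range p.natDegree, den (p.coeff i)) ⊗ₜ ai
  have hy₀ : χ y₀ = algebraMap E K (ι u) * x := by
    have ha' : algebraMap A K a * g ai = 1 := by
      rw [show algebraMap A K a = g (algebraMap A Q a) from (g.commutes a).symm, ← map_mul, hai, map_one]
    have h3 : x * algebraMap A K a = algebraMap E K e := by
      rw [← hea, IsScalarTower.algebraMap_apply A E K]
    rw [hχ]
    show algebraMap E K (ι _) * g ai = _
    rw [map_mul, ← hnum, map_mul, map_mul, map_mul, map_mul]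
    linear_combination (x * algebraMap E K (ι (den e)) * algebraMap E K (ι (∏ i ∈ Finset.range p.natDegree, den (p.coeff i)))) * ha' -
      (g ai * algebraMap E K (ι (den e)) * algebraMap E K (ι (∏ i ∈ Finset.range p.natDegree, den (p.coeff i)))) * h3
  have hroot : χ (aeval y₀ p₀) = 0 := by
    have h4 : χ.toRingHom.comp (algebraMap C (C ⊗[A] Q)) = (algebraMap E K).comp (ι : C →+* E) := RingHom.ext fun c => by
      show χ (c ⊗ₜ 1) = f c
      rw [hχ, map_one, mul_one]
    show χ.toRingHom (aeval y₀ p₀) = 0
    rw [aeval_def, hom_eval₂, h4, ← eval₂_map, hp₀]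
    show eval₂ (algebraMap E K) (χ y₀) _ = 0
    rw [hy₀, scaleRoots_eval₂_mul, hpx, mul_zero]
  have hdeg0 : 0 < p₀.natDegree := by
    refine Nat.pos_of_ne_zero fun h => ?_
    rw [hp₀m.natDegree_eq_zero.1 h, map_one, map_one] at hroot
    exact one_ne_zero hroot
  obtain ⟨s, hs, hs0⟩ := hkerχ _ hroot
  have hy : IsIntegral C ((s ⊗ₜ[A] (1 : Q)) * y₀) := by
    refine ⟨p₀.scaleRoots s, (monic_scaleRoots_iff s).2 hp₀m, ?_⟩
    rw [show (s ⊗ₜ[A] (1 : Q)) = algebraMap C (C ⊗[A] Q) s from rfl, scaleRoots_eval₂_mul, ← aeval_def,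
      ← Nat.sub_add_cancel hdeg0, pow_succ, mul_assoc]
    show _ * ((s ⊗ₜ[A] (1 : Q)) * _) = 0
    rw [hs0, mul_zero]
  obtain ⟨w, hw⟩ := (TensorProduct.toIntegralClosure_bijective_of_smooth (R := A) (S := C) (B := Q)).2 ⟨_, hy⟩
  let Y := Submodule.span E {y : K | IsIntegral A y ∧ ∃ a ∈ nonZeroDivisors A, ∃ b : A,
      algebraMap A K a * y = algebraMap A K b}
  have hmem : ∀ w : C ⊗[A] integralClosure A Q, χ (TensorProduct.toIntegralClosure A C Q w : C ⊗[A] Q) ∈ Y := by
    intro w
    induction w using TensorProduct.induction_on with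
    | zero => rw [map_zero, ZeroMemClass.coe_zero, map_zero]; exact zero_mem _
    | tmul c z =>
      rw [show (TensorProduct.toIntegralClosure A C Q (c ⊗ₜ z) : C ⊗[A] Q) = c ⊗ₜ (z : Q) from rfl, hχ]
      show algebraMap E K (ι c) * g (z : Q) ∈ Y
      rw [← Algebra.smul_def]
      refine Submodule.smul_mem _ _ (Submodule.subset_span ⟨(z.2 : IsIntegral A (z : Q)).map g, ?_⟩)
      obtain ⟨⟨b, m⟩, hm⟩ := IsLocalization.surj (nonZeroDivisors A) (z : Q)
      refine ⟨m, m.2, b, ?_⟩
      have h5 := congrArg g hm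
      rw [map_mul, g.commutes, g.commutes] at h5
      rw [mul_comm]
      exact h5
    | add y z hy hz => rw [map_add, Subalgebra.coe_add, map_add]; exact add_mem hy hz
  have hfinal : ι (s * u) • x ∈ Y := by
    have h6 := hmem w
    rw [hw] at h6
    have h7 : χ ((s ⊗ₜ[A] (1 : Q)) * y₀) = ι (s * u) • x := by
      rw [map_mul, hy₀, hχ, map_one, mul_one, Algebra.smul_def]
      show algebraMap E K (ι s) * _ = algebraMap E K (ι (s * u)) * x
      rw [map_mul ι s u, map_mul (algebraMap E K) (ι s) (ι u)]
      ring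
    exact h7 ▸ h6
  obtain ⟨v, hv⟩ := IsUnit.exists_left_inv (show IsUnit (ι (s * u)) by rw [map_mul]; exact hs.mul hu')
  have := Submodule.smul_mem Y v hfinal
  rwa [smul_smul, hv, one_smul] at this

/-- A reduced Noetherian ring integrally closed in its total ring of fractions is normal at every prime. -/
theorem normal_atPrime_of_closed (C : Type u) [CommRing C] [IsReduced C] [IsNoetherianRing C]
    (hcl : ∀ z : FractionRing C, IsIntegral C z → z ∈ Set.range (algebraMap C (FractionRing C)))
    (P : Ideal C) [P.IsPrime] : IsDomain (Localization.AtPrime P) ∧ IsIntegrallyClosed (Localization.AtPrime P) := by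
  have hb : Function.Bijective (algebraMap C (integralClosure C (FractionRing C))) :=
    ⟨fun a b h => IsFractionRing.injective C (FractionRing C) (congrArg Subtype.val h), fun z => by
      obtain ⟨c, hc⟩ := hcl z z.2
      exact ⟨c, Subtype.ext hc⟩⟩
  let e : C ≃+* integralClosure C (FractionRing C) := RingEquiv.ofBijective _ hb
  let p : PrimeSpectrum (integralClosure C (FractionRing C)) := ⟨P.comap e.symm.toRingHom, Ideal.IsPrime.comap _⟩
  obtain ⟨h1, h2⟩ := NagataOne.isNormal_localization C p
  have hmap : Submonoid.map e.toMonoidHom P.primeCompl = p.asIdeal.primeCompl := by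
    ext z
    constructor
    · rintro ⟨c, hc, rfl⟩
      show ¬ e.symm (e c) ∈ P
      rwa [e.symm_apply_apply]
    · intro hz
      exact ⟨e.symm z, hz, e.apply_symm_apply z⟩
  let E := IsLocalization.ringEquivOfRingEquiv (M := P.primeCompl) (T := p.asIdeal.primeCompl)
    (Localization.AtPrime P) (Localization.AtPrime p.asIdeal) e hmap
  haveI := h2
  exact ⟨E.toMulEquiv.isDomain _, IsIntegrallyClosed.of_equiv (R := Localization.AtPrime p.asIdeal) E.symm⟩

end Groth.Agent.EssSub
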