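/-
Unramified essentially finite type local extensions of normal local domains are flat.
-/
import Mathlib
import Groth.Agent.EssSub.Generic
import Groth.Agent.Hensel.EtaleNormal

set_option autoImplicit false
set_option linter.style.haveILetI false
universe u

open IsLocalRing Polynomial

namespace Groth.Agent.EssSub

/-- A local unramified essentially finite type algebra is a quotient of a local ring of a standard étale algebra. -/
theorem exists_etale_cover (R D : Type u) [CommRing R] [IsLocalRing R] [CommRing D] [IsLocalRing D] [Algebra R D]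
    [IsLocalHom (algebraMap R D)] [Algebra.EssFiniteType R D] [Algebra.FormallyUnramified R D] :
    ∃ (P : StandardEtalePair R) (r : Ideal P.Ring) (_ : r.IsPrime) (ν : Localization.AtPrime r →ₐ[R] D),
      r.comap (algebraMap R P.Ring) = maximalIdeal R ∧ Function.Surjective ν := by
  classical
  let C := Algebra.EssFiniteType.subalgebra R D
  let q : Ideal C := (maximalIdeal D).comap (algebraMap C D)
  haveI : q.IsPrime := Ideal.IsPrime.comap _
  have hM : Algebra.EssFiniteType.submonoid R D = q.primeCompl := by
    ext x
    exact notMem_maximalIdeal.symm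
  haveI : IsLocalization q.primeCompl D := hM ▸ Algebra.EssFiniteType.isLocalization (R := R) (S := D)
  haveI : Algebra.IsUnramifiedAt R q :=
    Algebra.FormallyUnramified.of_equiv ((IsLocalization.algEquiv q.primeCompl D (Localization.AtPrime q)).restrictScalars R)
  obtain ⟨g, hg, P, φ, hφ⟩ := Algebra.IsUnramifiedAt.exists_hasStandardEtaleSurjectionOn (R := R) q
  have hgu : IsUnit (algebraMap C D g) := notMem_maximalIdeal.1 hg
  let θ : Localization.Away g →ₐ[R] D := IsLocalization.Away.liftAlgHom g (f := IsScalarTower.toAlgHom R C D) hgu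
  let ω : P.Ring →ₐ[R] D := θ.comp φ
  let r : Ideal P.Ring := (maximalIdeal D).comap ω.toRingHom
  haveI : r.IsPrime := Ideal.IsPrime.comap _
  let B := Localization.AtPrime r
  have hr : r.comap (algebraMap R P.Ring) = maximalIdeal R := by
    show ((maximalIdeal D).comap ω.toRingHom).comap (algebraMap R P.Ring) = _
    rw [Ideal.comap_comap, AlgHom.toRingHom_eq_coe, AlgHom.comp_algebraMap]
    exact ((IsLocalRing.local_hom_TFAE (algebraMap R D)).out 0 4).mp ‹IsLocalHom (algebraMap R D)›
  let ν : B →ₐ[R] D := IsLocalization.liftAlgHom (M := r.primeCompl) (f := ω) fun x => notMem_maximalIdeal.1 x.2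
  have hν : ∀ x, ν (algebraMap P.Ring B x) = ω x := fun x => IsLocalization.lift_eq _ x
  refine ⟨P, r, inferInstance, ν, hr, fun d => ?_⟩
  obtain ⟨c, s, rfl⟩ := IsLocalization.exists_mk'_eq q.primeCompl d
  obtain ⟨b, hb⟩ := hφ (algebraMap C (Localization.Away g) c)
  obtain ⟨t, ht⟩ := hφ (algebraMap C (Localization.Away g) s)
  have hθ : ∀ x : C, θ (algebraMap C (Localization.Away g) x) = algebraMap C D x := fun x =>
    IsLocalization.Away.lift_eq g hgu x
  have hωt : ω t = algebraMap C D s := by show θ (φ t) = _; rw [ht, hθ]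
  have htr : t ∈ r.primeCompl := fun h => s.2 (show algebraMap C D s ∈ maximalIdeal D by rw [← hωt]; exact h)
  refine ⟨IsLocalization.mk' B b ⟨t, htr⟩, ?_⟩
  refine (IsLocalization.map_units D s).mul_left_inj.1 ?_
  have hbt : IsLocalization.mk' B b ⟨t, htr⟩ * algebraMap P.Ring B t = algebraMap P.Ring B b :=
    IsLocalization.mk'_spec B b ⟨t, htr⟩
  rw [IsLocalization.mk'_spec, ← hωt, ← hν t, ← map_mul, hbt, hν]
  show θ (φ b) = _
  rw [hb, hθ]

/-- An unramified local extension of a normal local domain is flat. -/
theorem flat_of_unramified_normal (R D : Type u) [CommRing R] [IsLocalRing R] [IsDomain R] [IsIntegrallyClosed R]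
    [CommRing D] [IsLocalRing D] [Algebra R D] [IsLocalHom (algebraMap R D)] [Algebra.EssFiniteType R D]
    [Algebra.FormallyUnramified R D] (hinj : Function.Injective (algebraMap R D)) : Module.Flat R D := by
  obtain ⟨P, r, hrp, ν, hr, hν⟩ := exists_etale_cover R D
  haveI := hrp
  let B := Localization.AtPrime r
  haveI hBl : IsLocalHom (algebraMap R B) :=
    ⟨fun a ha => isUnit_of_map_unit (algebraMap R D) a (by have := ha.map ν; rwa [ν.commutes] at this)⟩
  have hB : EGA4loc.IsEssentiallyEtale R B :=
    ⟨P.Ring, inferInstance, inferInstance, r, hrp, inferInstance, hr, ⟨AlgEquiv.refl⟩⟩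
  have hdom : IsDomain B := (Hensel.normal_localization_standardEtale P B (IsScalarTower.toAlgHom R P.Ring B)
    (fun z => by
      obtain ⟨⟨b, c⟩, h⟩ := IsLocalization.surj r.primeCompl z
      exact ⟨b, c, IsLocalization.map_units B c, h⟩)
    (fun b hb => by
      obtain ⟨c, hc⟩ := (IsLocalization.map_eq_zero_iff r.primeCompl B b).1 hb
      exact ⟨c, IsLocalization.map_units B c, by rw [mul_comm]; exact hc⟩)).1
  haveI := hdom
  have hmin : (minimalPrimes R).Finite := by
    rw [IsDomain.minimalPrimes_eq_singleton_bot]
    exact Set.finite_singleton _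
  have hinjν : Function.Injective ν := (injective_iff_map_eq_zero _).2 fun b hb => by
    by_contra hb0
    obtain ⟨f, a, ha, h⟩ := exists_mul_eq hmin hB b fun f hf => (mul_eq_zero.1 hf).resolve_right hb0
    have h1 := congrArg ν h
    rw [map_mul, hb, mul_zero, ν.commutes] at h1
    exact nonZeroDivisors.ne_zero ha (hinj (by rw [← h1, map_zero]))
  haveI : Module.Flat R B := Module.Flat.trans R P.Ring B
  exact Module.Flat.of_linearEquiv (AlgEquiv.ofBijective ν ⟨hinjν, hν⟩).symm.toLinearEquiv

end Groth.Agent.EssSub
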