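/-
Finite subalgebras closed in the generic fibre are seen by the normalisation.
-/
import Mathlib
import Groth.Agent.EssSub.NormGen
import Groth.Agent.EssSub.UnramNormal

set_option autoImplicit false
set_option linter.style.haveILetI false
universe u

open IsLocalRing Polynomial TensorProduct

namespace Groth.Agent.EssSub

section Local

/-- An unramified extension of a normal ring with the branches matched is flat at every prime. -/
theorem flat_atPrime_of_unramified (C T : Type u) [CommRing C] [CommRing T] [Algebra C T] [IsReduced C] [IsNoetherianRing C]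
    (hcl : ∀ z : FractionRing C, IsIntegral C z → z ∈ Set.range (algebraMap C (FractionRing C)))
    [Algebra.EssFiniteType C T] [Algebra.FormallyUnramified C T] (M : Ideal T) [M.IsPrime]
    (hker : ∀ c : C, ∀ v : T, v ∉ M → v * algebraMap C T c = 0 →
      ∃ u : C, algebraMap C T u ∉ M ∧ u * c = 0) : Module.Flat C (Localization.AtPrime M) := by
  let P : Ideal C := M.comap (algebraMap C T)
  haveI : P.IsPrime := Ideal.IsPrime.comap _
  let R := Localization.AtPrime P
  let B := Localization.AtPrime M
  letI : Algebra R B := (Localization.localRingHom P M (algebraMap C T) rfl).toAlgebra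
  haveI : IsScalarTower C R B := IsScalarTower.of_algebraMap_eq fun x => by
    rw [IsScalarTower.algebraMap_apply C T B]
    exact (Localization.localRingHom_to_map P M (algebraMap C T) rfl x).symm
  haveI : IsLocalHom (algebraMap R B) := Localization.isLocalHom_localRingHom P M (algebraMap C T) rfl
  haveI : Algebra.EssFiniteType T B := Algebra.EssFiniteType.of_isLocalization B M.primeCompl
  haveI : Algebra.FormallyUnramified T B := Algebra.FormallyUnramified.of_isLocalization M.primeCompl
  haveI : Algebra.EssFiniteType C B := Algebra.EssFiniteType.comp C T B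
  haveI : Algebra.FormallyUnramified C B := Algebra.FormallyUnramified.comp C T B
  haveI : Algebra.EssFiniteType R B := Algebra.EssFiniteType.of_comp C R B
  haveI : Algebra.FormallyUnramified R B := Algebra.FormallyUnramified.of_restrictScalars C R B
  obtain ⟨hd, hi⟩ := normal_atPrime_of_closed C hcl P
  haveI := hd
  haveI := hi
  have hRB : ∀ x : C, algebraMap R B (algebraMap C R x) = algebraMap T B (algebraMap C T x) := fun x => by
    rw [← IsScalarTower.algebraMap_apply C R B, ← IsScalarTower.algebraMap_apply C T B]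
  have hinj : Function.Injective (algebraMap R B) := (injective_iff_map_eq_zero _).2 fun r hr => by
    obtain ⟨c, s, rfl⟩ := IsLocalization.exists_mk'_eq P.primeCompl r
    have h0 := congrArg (algebraMap R B) (IsLocalization.mk'_spec R c s)
    rw [map_mul, hr, zero_mul, hRB] at h0
    obtain ⟨v, hv⟩ := (IsLocalization.map_eq_zero_iff M.primeCompl B _).1 h0.symm
    obtain ⟨u, hu, huc⟩ := hker c v v.2 hv
    exact (IsLocalization.mk'_eq_zero_iff c s).2 ⟨⟨u, hu⟩, huc⟩
  haveI := flat_of_unramified_normal R B hinj
  haveI : Module.Flat C R := IsLocalization.flat R P.primeCompl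
  exact Module.Flat.trans C R B

/-- Division in a localisation of a normal ring inside an unramified extension. -/
theorem exists_dvd_of_unramified (C T : Type u) [CommRing C] [CommRing T] [Algebra C T] [IsReduced C] [IsNoetherianRing C]
    (hcl : ∀ z : FractionRing C, IsIntegral C z → z ∈ Set.range (algebraMap C (FractionRing C)))
    [Algebra.EssFiniteType C T] [Algebra.FormallyUnramified C T] (M : Ideal T) [M.IsPrime]
    (hker : ∀ c : C, ∀ v : T, v ∉ M → v * algebraMap C T c = 0 →
      ∃ u : C, algebraMap C T u ∉ M ∧ u * c = 0)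
    (a c : C) (h : ∃ t : T, algebraMap C T c = algebraMap C T a * t) :
    ∃ u y : C, algebraMap C T u ∉ M ∧ u * c = a * y := by
  let P : Ideal C := M.comap (algebraMap C T)
  haveI : P.IsPrime := Ideal.IsPrime.comap _
  let R := Localization.AtPrime P
  let B := Localization.AtPrime M
  letI : Algebra R B := (Localization.localRingHom P M (algebraMap C T) rfl).toAlgebra
  haveI : IsScalarTower C R B := IsScalarTower.of_algebraMap_eq fun x => by
    rw [IsScalarTower.algebraMap_apply C T B]
    exact (Localization.localRingHom_to_map P M (algebraMap C T) rfl x).symm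
  haveI : IsLocalHom (algebraMap R B) := Localization.isLocalHom_localRingHom P M (algebraMap C T) rfl
  haveI : Algebra.EssFiniteType T B := Algebra.EssFiniteType.of_isLocalization B M.primeCompl
  haveI : Algebra.FormallyUnramified T B := Algebra.FormallyUnramified.of_isLocalization M.primeCompl
  haveI : Algebra.EssFiniteType C B := Algebra.EssFiniteType.comp C T B
  haveI : Algebra.FormallyUnramified C B := Algebra.FormallyUnramified.comp C T B
  haveI : Algebra.EssFiniteType R B := Algebra.EssFiniteType.of_comp C R B
  haveI : Algebra.FormallyUnramified R B := Algebra.FormallyUnramified.of_restrictScalars C R B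
  obtain ⟨hd, hi⟩ := normal_atPrime_of_closed C hcl P
  haveI := hd
  haveI := hi
  have hRB : ∀ x : C, algebraMap R B (algebraMap C R x) = algebraMap T B (algebraMap C T x) := fun x => by
    rw [← IsScalarTower.algebraMap_apply C R B, ← IsScalarTower.algebraMap_apply C T B]
  have hinj : Function.Injective (algebraMap R B) := (injective_iff_map_eq_zero _).2 fun r hr => by
    obtain ⟨c, s, rfl⟩ := IsLocalization.exists_mk'_eq P.primeCompl r
    have h0 := congrArg (algebraMap R B) (IsLocalization.mk'_spec R c s)
    rw [map_mul, hr, zero_mul, hRB] at h0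
    obtain ⟨v, hv⟩ := (IsLocalization.map_eq_zero_iff M.primeCompl B _).1 h0.symm
    obtain ⟨u, hu, huc⟩ := hker c v v.2 hv
    exact (IsLocalization.mk'_eq_zero_iff c s).2 ⟨⟨u, hu⟩, huc⟩
  haveI := flat_of_unramified_normal R B hinj
  haveI : Module.FaithfullyFlat R B := Module.FaithfullyFlat.of_flat_of_isLocalHom
  obtain ⟨t, ht⟩ := h
  have h1 : algebraMap C R c ∈ Ideal.span {algebraMap C R a} := by
    rw [← Ideal.comap_map_eq_self_of_faithfullyFlat (B := B) (Ideal.span {algebraMap C R a}), Ideal.mem_comap,
      Ideal.map_span, Set.image_singleton, Ideal.mem_span_singleton]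
    exact ⟨algebraMap T B t, by rw [hRB, hRB, ht, map_mul]⟩
  obtain ⟨r, hr⟩ := Ideal.mem_span_singleton'.1 h1
  obtain ⟨y, s, rfl⟩ := IsLocalization.exists_mk'_eq P.primeCompl r
  have h2 : algebraMap C R ((s : C) * c) = algebraMap C R (y * a) := by
    rw [map_mul, map_mul, ← hr, ← mul_assoc, IsLocalization.mk'_spec']
  obtain ⟨v, hv⟩ := (IsLocalization.eq_iff_exists P.primeCompl R).1 h2
  exact ⟨v * s, v * y, (P.primeCompl.mul_mem v.2 s.2 : (v : C) * s ∈ P.primeCompl), by
    rw [mul_assoc, hv]; ring⟩

end Local

variable {A E : Type u} [CommRing A] [IsLocalRing A] [IsReduced A] [CommRing E] [IsLocalRing E] [Algebra A E]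
  [IsLocalHom (algebraMap A E)]

/-- The normalisation is flat over a finite subalgebra closed in the generic fibre. -/
theorem flat_normalization [IsNoetherianRing A] (hE : EGA4loc.IsEssentiallyEtale A E) (C : Subalgebra A (FractionRing E))
    [Module.Finite A C]
    (hcl : ∀ z : FractionRing E, IsIntegral A z → (∃ a ∈ nonZeroDivisors A, algebraMap A (FractionRing E) a * z ∈ C) → z ∈ C)
    (hbase : ∀ y : FractionRing E, IsIntegral A y → ∀ a ∈ nonZeroDivisors A, ∀ b : A,
      algebraMap A (FractionRing E) a * y = algebraMap A (FractionRing E) b → y ∈ C)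
    [Algebra C (integralClosure E (FractionRing E))]
    (hCT : ∀ c : C, ((algebraMap C (integralClosure E (FractionRing E)) c : integralClosure E (FractionRing E)) : FractionRing E) = c) :
    Module.Flat C (integralClosure E (FractionRing E)) := by
  classical
  have hmin : (minimalPrimes A).Finite := minimalPrimes.finite_of_isNoetherianRing A
  obtain ⟨hu', hft⟩ := Hensel.essEt_unramified hE
  haveI := isReduced_of_essEt hE
  obtain ⟨i1, i2, hart, hfinK⟩ := exists_generic hmin hE
  letI := i1
  haveI := i2
  haveI := hart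
  haveI := hfinK
  let K := FractionRing E
  let T := integralClosure E K
  haveI : IsReduced K := inferInstanceAs (IsReduced (Localization (nonZeroDivisors E)))
  haveI : IsArtinianRing K := IsArtinianRing.of_finite (FractionRing A) K
  haveI : Algebra.IsIntegral A C := Algebra.IsIntegral.of_finite A C
  haveI : IsReduced C := isReduced_of_injective C.val.toRingHom Subtype.val_injective
  haveI : IsNoetherianRing C := IsNoetherianRing.of_finite A C
  have hint : ∀ z : C, IsIntegral A (z : K) := fun z => (Algebra.IsIntegral.isIntegral (R := A) z).map C.val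
  haveI : IsScalarTower C T K := IsScalarTower.of_algebraMap_eq fun c => (hCT c).symm
  haveI : IsScalarTower A C T := IsScalarTower.of_algebraMap_eq fun r => Subtype.ext (hCT (algebraMap A C r)).symm
  let ψ : C ⊗[A] E →ₐ[C] T := Algebra.TensorProduct.lift (Algebra.ofId C T) (IsScalarTower.toAlgHom A E T)
    fun _ _ => Commute.all _ _
  have hψ : ∀ c e, ψ (c ⊗ₜ e) = algebraMap C T c * algebraMap E T e := fun c e =>
    Algebra.TensorProduct.lift_tmul _ _ _ c e
  have hsurj : Function.Surjective ψ := fun z => by
    suffices h : ∀ w ∈ Submodule.span E {y : K | IsIntegral A y ∧ ∃ a ∈ nonZeroDivisors A, ∃ b : A,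
        algebraMap A K a * y = algebraMap A K b}, ∃ v, (ψ v : K) = w by
      obtain ⟨v, hv⟩ := h _ (mem_span_integral hmin hE (z : K) z.2)
      exact ⟨v, Subtype.ext hv⟩
    intro w hw
    induction hw using Submodule.span_induction with
    | mem y hy =>
      obtain ⟨hy, a, ha, b, hab⟩ := hy
      exact ⟨(⟨y, hbase y hy a ha b hab⟩ : C) ⊗ₜ 1, by rw [hψ, map_one, mul_one]; exact hCT _⟩
    | zero => exact ⟨0, by rw [map_zero]; rfl⟩
    | add y z _ _ hy hz =>
      obtain ⟨v, rfl⟩ := hy
      obtain ⟨v', rfl⟩ := hz
      exact ⟨v + v', by rw [map_add]; rfl⟩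
    | smul e y _ hy =>
      obtain ⟨v, rfl⟩ := hy
      refine ⟨((1 : C) ⊗ₜ e) * v, ?_⟩
      rw [map_mul, hψ, map_one, one_mul, Algebra.smul_def]
      rfl
  haveI : Algebra.FormallyUnramified A E := hu'
  haveI : Algebra.EssFiniteType A E := hft
  haveI : Algebra.FormallyUnramified C T := Algebra.FormallyUnramified.of_surjective (R := C) (A := C ⊗[A] E) ψ hsurj
  haveI : Algebra.EssFiniteType C T := Algebra.EssFiniteType.of_surjective (R := C) (S := C ⊗[A] E) ψ hsurj
  have hunit : ∀ a ∈ nonZeroDivisors A, IsUnit (algebraMap A K a) := fun a ha => by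
    rw [IsScalarTower.algebraMap_apply A (FractionRing A) K]
    exact (IsLocalization.map_units (FractionRing A) (⟨a, ha⟩ : nonZeroDivisors A)).map _
  -- elements of the finite algebra divide non-zero-divisors of the base up to an idempotent
  have hidem : ∀ c : C, ∃ e w : C, ∃ a ∈ nonZeroDivisors A, e * e = e ∧ e * c = c ∧
      algebraMap A C a * e = w * c := fun c => by
    let R := Algebra.adjoin (FractionRing A) ((C : Set K))
    haveI : Module.Finite (FractionRing A) R := inferInstanceAs (Module.Finite (FractionRing A) (Subalgebra.toSubmodule R))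
    haveI : IsArtinianRing R := IsArtinianRing.of_finite (FractionRing A) R
    haveI : IsReduced R := isReduced_of_injective R.val.toRingHom Subtype.val_injective
    have hRC : ∀ y ∈ R, ∃ a ∈ nonZeroDivisors A, algebraMap A K a * y ∈ C := by
      intro y hy
      induction hy using Algebra.adjoin_induction with
      | mem z hz => exact ⟨1, one_mem _, by rw [map_one, one_mul]; exact hz⟩
      | algebraMap r =>
        obtain ⟨⟨b, m⟩, hm⟩ := IsLocalization.surj (nonZeroDivisors A) r
        refine ⟨m, m.2, ?_⟩
        have h5 := congrArg (algebraMap (FractionRing A) K) hm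
        rw [map_mul, ← IsScalarTower.algebraMap_apply, ← IsScalarTower.algebraMap_apply] at h5
        rw [mul_comm, h5]
        exact C.algebraMap_mem _
      | add y z _ _ hy hz =>
        obtain ⟨a, ha, hy⟩ := hy
        obtain ⟨b, hb, hz⟩ := hz
        refine ⟨a * b, mul_mem ha hb, ?_⟩
        rw [map_mul, show algebraMap A K a * algebraMap A K b * (y + z) =
          algebraMap A K b * (algebraMap A K a * y) + algebraMap A K a * (algebraMap A K b * z) by ring]
        exact add_mem (mul_mem (C.algebraMap_mem _) hy) (mul_mem (C.algebraMap_mem _) hz)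
      | mul y z _ _ hy hz =>
        obtain ⟨a, ha, hy⟩ := hy
        obtain ⟨b, hb, hz⟩ := hz
        refine ⟨a * b, mul_mem ha hb, ?_⟩
        rw [map_mul, show algebraMap A K a * algebraMap A K b * (y * z) =
          (algebraMap A K a * y) * (algebraMap A K b * z) by ring]
        exact mul_mem hy hz
    let cR : R := ⟨c, Algebra.subset_adjoin c.2⟩
    obtain ⟨v, hv⟩ : ∃ v : R, cR * v * cR = cR := by
      haveI : Ring.KrullDimLE 0 R := inferInstance
      obtain ⟨n, v, hv⟩ := IsArtinian.exists_pow_succ_smul_dvd cR (1 : R)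
      simp only [smul_eq_mul, mul_one] at hv
      refine ⟨v, sub_eq_zero.1 (IsReduced.eq_zero _ ⟨n + 1, ?_⟩)⟩
      rw [show cR * v * cR - cR = cR * (cR * v - 1) by ring, mul_pow, pow_succ (cR * v - 1)]
      have hv' : cR ^ (n + 1) * v = cR ^ n := hv
      linear_combination (cR * (cR * v - 1) ^ n) * hv'
    obtain ⟨a, ha, haw⟩ := hRC _ v.2
    have hv' : (c : K) * (v : K) * (c : K) = c := congrArg (fun z : R => (z : K)) hv
    have he2 : (c : K) * v * ((c : K) * v) = (c : K) * v := by linear_combination (v : K) * hv'
    have hememC : (c : K) * v ∈ C := hcl _ ⟨X ^ 2 - X, monic_X_pow_sub (degree_X_le.trans_lt (by norm_num)),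
      by rw [eval₂_sub, eval₂_X_pow, eval₂_X, sq, he2, sub_self]⟩
      ⟨a, ha, by rw [mul_left_comm]; exact mul_mem c.2 haw⟩
    refine ⟨⟨_, hememC⟩, ⟨_, haw⟩, a, ha, Subtype.ext he2, Subtype.ext hv', Subtype.ext ?_⟩
    show algebraMap A K a * ((c : K) * v) = algebraMap A K a * v * c
    ring
  have hclC : ∀ z : FractionRing C, IsIntegral C z → z ∈ Set.range (algebraMap C (FractionRing C)) := by
    have hunitC : ∀ d : nonZeroDivisors C, IsUnit (algebraMap C K d) := fun d => by
      obtain ⟨e, w, a, ha, -, hec, haw⟩ := hidem d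
      have he : e = 1 := sub_eq_zero.1 (mem_nonZeroDivisors_iff_right.1 d.2 _ (by rw [sub_mul, hec, one_mul, sub_self]))
      rw [he, mul_one] at haw
      have h5 := (hunit a ha)
      rw [show algebraMap A K a = algebraMap C K w * algebraMap C K d by
        rw [← map_mul, ← haw, ← IsScalarTower.algebraMap_apply A C K]] at h5
      exact isUnit_of_mul_isUnit_right h5
    intro z hz
    let φ : FractionRing C →ₐ[C] K := IsLocalization.liftAlgHom (M := nonZeroDivisors C) (f := Algebra.ofId C K) hunitC
    have hφ : Function.Injective φ := (injective_iff_map_eq_zero _).2 fun r hr => by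
      obtain ⟨c, d, rfl⟩ := IsLocalization.exists_mk'_eq (nonZeroDivisors C) r
      have h5 := congrArg φ (IsLocalization.mk'_spec (FractionRing C) c d)
      rw [map_mul, hr, zero_mul, AlgHom.commutes] at h5
      rw [show c = 0 from Subtype.ext h5.symm, IsLocalization.mk'_zero]
    have hzC : IsIntegral C (φ z) := hz.map φ
    obtain ⟨c, d, rfl⟩ := IsLocalization.exists_mk'_eq (nonZeroDivisors C) z
    obtain ⟨e, w, a, ha, -, hec, haw⟩ := hidem d
    have he : e = 1 := sub_eq_zero.1 (mem_nonZeroDivisors_iff_right.1 d.2 _ (by rw [sub_mul, hec, one_mul, sub_self]))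
    rw [he, mul_one] at haw
    have hmemz : φ (IsLocalization.mk' _ c d) ∈ C := hcl _ (isIntegral_trans _ hzC) ⟨a, ha, by
      have h5 := congrArg φ (IsLocalization.mk'_spec (FractionRing C) c d)
      rw [map_mul, AlgHom.commutes, AlgHom.commutes] at h5
      rw [IsScalarTower.algebraMap_apply A C K, haw, map_mul, mul_assoc, mul_comm _ (φ _), h5, ← map_mul]
      exact (w * c).2⟩
    exact ⟨⟨_, hmemz⟩, hφ ((φ.commutes _).trans rfl)⟩
  have hker : ∀ (M : Ideal T), M.IsMaximal → ∀ c : C, ∀ v : T, v ∉ M → v * algebraMap C T c = 0 → ∃ u : C, algebraMap C T u ∉ M ∧ u * c = 0 := by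
    intro M hM c v hv hvc
    obtain ⟨e, w, a, ha, he2, hec, haw⟩ := hidem c
    have hev : (v : K) * (e : K) = 0 := (hunit a ha).mul_right_eq_zero.1 (by
      have h5 : algebraMap A K a * (e : K) = (w : K) * c := congrArg (fun z : C => (z : K)) haw
      have h6 : (v : K) * (c : K) = 0 := (congrArg ((v : K) * ·) (hCT c)).symm.trans (congrArg (fun z : T => (z : K)) hvc)
      linear_combination (v : K) * h5 + (w : K) * h6)
    have heM : algebraMap C T e ∈ M :=
      (hM.isPrime.mem_or_mem (show v * algebraMap C T e ∈ M by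
        rw [show v * algebraMap C T e = 0 from Subtype.ext ((congrArg ((v : K) * ·) (hCT e)).trans hev)]; exact M.zero_mem)).resolve_left hv
    refine ⟨1 - e, fun h => hM.isPrime.ne_top ((Ideal.eq_top_iff_one _).2 ?_), by rw [sub_mul, hec, one_mul, sub_self]⟩
    have h7 := M.add_mem h heM
    rwa [map_sub, map_one, sub_add_cancel] at h7
  haveI hloc : ∀ (M : Ideal T) [M.IsMaximal], IsLocalizedModule.AtPrime M (Algebra.linearMap T (Localization.AtPrime M)) :=
    fun M _ => inferInstance
  refine Module.flat_of_isLocalized_maximal (R := C) T T (fun (M : Ideal T) (_ : M.IsMaximal) => Localization.AtPrime M)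
    (fun (M : Ideal T) (_ : M.IsMaximal) => Algebra.linearMap T (Localization.AtPrime M)) fun M hM => ?_
  exact flat_atPrime_of_unramified C T hclC M (hker M hM)

/-- A finite subalgebra closed in the generic fibre and containing the normalised base catches the normalisation. -/
theorem exists_mul_mem [IsNoetherianRing A] (hE : EGA4loc.IsEssentiallyEtale A E) (C : Subalgebra A (FractionRing E))
    [Module.Finite A C]
    (hcl : ∀ z : FractionRing E, IsIntegral A z → (∃ a ∈ nonZeroDivisors A, algebraMap A (FractionRing E) a * z ∈ C) → z ∈ C)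
    (hbase : ∀ y : FractionRing E, IsIntegral A y → ∀ a ∈ nonZeroDivisors A, ∀ b : A,
      algebraMap A (FractionRing E) a * y = algebraMap A (FractionRing E) b → y ∈ C)
    (M : Ideal (integralClosure E (FractionRing E))) [M.IsPrime] (x : FractionRing E) (hx : IsIntegral E x)
    (hax : ∃ a ∈ nonZeroDivisors A, algebraMap A (FractionRing E) a * x ∈ C) :
    ∃ u : C, (∀ hu : IsIntegral E (u : FractionRing E), (⟨u, hu⟩ : integralClosure E (FractionRing E)) ∉ M) ∧
      (u : FractionRing E) * x ∈ C := by
  classical
  have hmin : (minimalPrimes A).Finite := minimalPrimes.finite_of_isNoetherianRing A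
  obtain ⟨hu', hft⟩ := Hensel.essEt_unramified hE
  haveI := isReduced_of_essEt hE
  obtain ⟨i1, i2, hart, hfinK⟩ := exists_generic hmin hE
  letI := i1
  haveI := i2
  haveI := hart
  haveI := hfinK
  let K := FractionRing E
  let T := integralClosure E K
  haveI : IsReduced K := inferInstanceAs (IsReduced (Localization (nonZeroDivisors E)))
  haveI : IsArtinianRing K := IsArtinianRing.of_finite (FractionRing A) K
  haveI : Algebra.IsIntegral A C := Algebra.IsIntegral.of_finite A C
  haveI : IsReduced C := isReduced_of_injective C.val.toRingHom Subtype.val_injective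
  haveI : IsNoetherianRing C := IsNoetherianRing.of_finite A C
  have hint : ∀ z : C, IsIntegral A (z : K) := fun z => (Algebra.IsIntegral.isIntegral (R := A) z).map C.val
  letI : Algebra C T :=
    (RingHom.codRestrict C.val.toRingHom T.toSubsemiring fun z => (hint z).tower_top).toAlgebra
  haveI : IsScalarTower A C T := IsScalarTower.of_algebraMap_eq fun r => Subtype.ext rfl
  let ψ : C ⊗[A] E →ₐ[C] T := Algebra.TensorProduct.lift (Algebra.ofId C T) (IsScalarTower.toAlgHom A E T)
    fun _ _ => Commute.all _ _
  have hψ : ∀ c e, ψ (c ⊗ₜ e) = algebraMap C T c * algebraMap E T e := fun c e =>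
    Algebra.TensorProduct.lift_tmul _ _ _ c e
  have hsurj : Function.Surjective ψ := fun z => by
    suffices h : ∀ w ∈ Submodule.span E {y : K | IsIntegral A y ∧ ∃ a ∈ nonZeroDivisors A, ∃ b : A,
        algebraMap A K a * y = algebraMap A K b}, ∃ v, (ψ v : K) = w by
      obtain ⟨v, hv⟩ := h _ (mem_span_integral hmin hE (z : K) z.2)
      exact ⟨v, Subtype.ext hv⟩
    intro w hw
    induction hw using Submodule.span_induction with
    | mem y hy =>
      obtain ⟨hy, a, ha, b, hab⟩ := hy
      exact ⟨(⟨y, hbase y hy a ha b hab⟩ : C) ⊗ₜ 1, by rw [hψ, map_one, mul_one]; rfl⟩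
    | zero => exact ⟨0, by rw [map_zero]; rfl⟩
    | add y z _ _ hy hz =>
      obtain ⟨v, rfl⟩ := hy
      obtain ⟨v', rfl⟩ := hz
      exact ⟨v + v', by rw [map_add]; rfl⟩
    | smul e y _ hy =>
      obtain ⟨v, rfl⟩ := hy
      refine ⟨((1 : C) ⊗ₜ e) * v, ?_⟩
      rw [map_mul, hψ, map_one, one_mul, Algebra.smul_def]
      rfl
  haveI : Algebra.FormallyUnramified A E := hu'
  haveI : Algebra.EssFiniteType A E := hft
  haveI : Algebra.FormallyUnramified C T := Algebra.FormallyUnramified.of_surjective (R := C) (A := C ⊗[A] E) ψ hsurj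
  haveI : Algebra.EssFiniteType C T := Algebra.EssFiniteType.of_surjective (R := C) (S := C ⊗[A] E) ψ hsurj
  have hunit : ∀ a ∈ nonZeroDivisors A, IsUnit (algebraMap A K a) := fun a ha => by
    rw [IsScalarTower.algebraMap_apply A (FractionRing A) K]
    exact (IsLocalization.map_units (FractionRing A) (⟨a, ha⟩ : nonZeroDivisors A)).map _
  -- elements of the finite algebra divide non-zero-divisors of the base up to an idempotent
  have hidem : ∀ c : C, ∃ e w : C, ∃ a ∈ nonZeroDivisors A, e * e = e ∧ e * c = c ∧
      algebraMap A C a * e = w * c := fun c => by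
    let R := Algebra.adjoin (FractionRing A) ((C : Set K))
    haveI : Module.Finite (FractionRing A) R := inferInstanceAs (Module.Finite (FractionRing A) (Subalgebra.toSubmodule R))
    haveI : IsArtinianRing R := IsArtinianRing.of_finite (FractionRing A) R
    haveI : IsReduced R := isReduced_of_injective R.val.toRingHom Subtype.val_injective
    have hRC : ∀ y ∈ R, ∃ a ∈ nonZeroDivisors A, algebraMap A K a * y ∈ C := by
      intro y hy
      induction hy using Algebra.adjoin_induction with
      | mem z hz => exact ⟨1, one_mem _, by rw [map_one, one_mul]; exact hz⟩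
      | algebraMap r =>
        obtain ⟨⟨b, m⟩, hm⟩ := IsLocalization.surj (nonZeroDivisors A) r
        refine ⟨m, m.2, ?_⟩
        have h5 := congrArg (algebraMap (FractionRing A) K) hm
        rw [map_mul, ← IsScalarTower.algebraMap_apply, ← IsScalarTower.algebraMap_apply] at h5
        rw [mul_comm, h5]
        exact C.algebraMap_mem _
      | add y z _ _ hy hz =>
        obtain ⟨a, ha, hy⟩ := hy
        obtain ⟨b, hb, hz⟩ := hz
        refine ⟨a * b, mul_mem ha hb, ?_⟩
        rw [map_mul, show algebraMap A K a * algebraMap A K b * (y + z) =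
          algebraMap A K b * (algebraMap A K a * y) + algebraMap A K a * (algebraMap A K b * z) by ring]
        exact add_mem (mul_mem (C.algebraMap_mem _) hy) (mul_mem (C.algebraMap_mem _) hz)
      | mul y z _ _ hy hz =>
        obtain ⟨a, ha, hy⟩ := hy
        obtain ⟨b, hb, hz⟩ := hz
        refine ⟨a * b, mul_mem ha hb, ?_⟩
        rw [map_mul, show algebraMap A K a * algebraMap A K b * (y * z) =
          (algebraMap A K a * y) * (algebraMap A K b * z) by ring]
        exact mul_mem hy hz
    let cR : R := ⟨c, Algebra.subset_adjoin c.2⟩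
    obtain ⟨v, hv⟩ : ∃ v : R, cR * v * cR = cR := by
      haveI : Ring.KrullDimLE 0 R := inferInstance
      obtain ⟨n, v, hv⟩ := IsArtinian.exists_pow_succ_smul_dvd cR (1 : R)
      simp only [smul_eq_mul, mul_one] at hv
      refine ⟨v, sub_eq_zero.1 (IsReduced.eq_zero _ ⟨n + 1, ?_⟩)⟩
      rw [show cR * v * cR - cR = cR * (cR * v - 1) by ring, mul_pow, pow_succ (cR * v - 1)]
      have hv' : cR ^ (n + 1) * v = cR ^ n := hv
      linear_combination (cR * (cR * v - 1) ^ n) * hv'
    obtain ⟨a, ha, haw⟩ := hRC _ v.2
    have hv' : (c : K) * (v : K) * (c : K) = c := congrArg (fun z : R => (z : K)) hv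
    have he2 : (c : K) * v * ((c : K) * v) = (c : K) * v := by linear_combination (v : K) * hv'
    have hememC : (c : K) * v ∈ C := hcl _ ⟨X ^ 2 - X, monic_X_pow_sub (degree_X_le.trans_lt (by norm_num)),
      by rw [eval₂_sub, eval₂_X_pow, eval₂_X, sq, he2, sub_self]⟩
      ⟨a, ha, by rw [mul_left_comm]; exact mul_mem c.2 haw⟩
    refine ⟨⟨_, hememC⟩, ⟨_, haw⟩, a, ha, Subtype.ext he2, Subtype.ext hv', Subtype.ext ?_⟩
    show algebraMap A K a * ((c : K) * v) = algebraMap A K a * v * c
    ring
  have hclC : ∀ z : FractionRing C, IsIntegral C z → z ∈ Set.range (algebraMap C (FractionRing C)) := by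
    have hunitC : ∀ d : nonZeroDivisors C, IsUnit (algebraMap C K d) := fun d => by
      obtain ⟨e, w, a, ha, -, hec, haw⟩ := hidem d
      have he : e = 1 := sub_eq_zero.1 (mem_nonZeroDivisors_iff_right.1 d.2 _ (by rw [sub_mul, hec, one_mul, sub_self]))
      rw [he, mul_one] at haw
      have h5 := (hunit a ha)
      rw [show algebraMap A K a = algebraMap C K w * algebraMap C K d by
        rw [← map_mul, ← haw, ← IsScalarTower.algebraMap_apply A C K]] at h5
      exact isUnit_of_mul_isUnit_right h5
    intro z hz
    let φ : FractionRing C →ₐ[C] K := IsLocalization.liftAlgHom (M := nonZeroDivisors C) (f := Algebra.ofId C K) hunitC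
    have hφ : Function.Injective φ := (injective_iff_map_eq_zero _).2 fun r hr => by
      obtain ⟨c, d, rfl⟩ := IsLocalization.exists_mk'_eq (nonZeroDivisors C) r
      have h5 := congrArg φ (IsLocalization.mk'_spec (FractionRing C) c d)
      rw [map_mul, hr, zero_mul, AlgHom.commutes] at h5
      rw [show c = 0 from Subtype.ext h5.symm, IsLocalization.mk'_zero]
    have hzC : IsIntegral C (φ z) := hz.map φ
    obtain ⟨c, d, rfl⟩ := IsLocalization.exists_mk'_eq (nonZeroDivisors C) z
    obtain ⟨e, w, a, ha, -, hec, haw⟩ := hidem d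
    have he : e = 1 := sub_eq_zero.1 (mem_nonZeroDivisors_iff_right.1 d.2 _ (by rw [sub_mul, hec, one_mul, sub_self]))
    rw [he, mul_one] at haw
    have hmemz : φ (IsLocalization.mk' _ c d) ∈ C := hcl _ (isIntegral_trans _ hzC) ⟨a, ha, by
      have h5 := congrArg φ (IsLocalization.mk'_spec (FractionRing C) c d)
      rw [map_mul, AlgHom.commutes, AlgHom.commutes] at h5
      rw [IsScalarTower.algebraMap_apply A C K, haw, map_mul, mul_assoc, mul_comm _ (φ _), h5, ← map_mul]
      exact (w * c).2⟩
    exact ⟨⟨_, hmemz⟩, hφ ((φ.commutes _).trans rfl)⟩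
  have hker : ∀ c : C, ∀ v : T, v ∉ M → v * algebraMap C T c = 0 → ∃ u : C, algebraMap C T u ∉ M ∧ u * c = 0 := by
    intro c v hv hvc
    obtain ⟨e, w, a, ha, he2, hec, haw⟩ := hidem c
    have hev : (v : K) * (e : K) = 0 := (hunit a ha).mul_right_eq_zero.1 (by
      have h5 : algebraMap A K a * (e : K) = (w : K) * c := congrArg (fun z : C => (z : K)) haw
      have h6 : (v : K) * (c : K) = 0 := congrArg (fun z : T => (z : K)) hvc
      linear_combination (v : K) * h5 + (w : K) * h6)
    have heM : algebraMap C T e ∈ M :=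
      ((‹M.IsPrime›).mem_or_mem (show v * algebraMap C T e ∈ M by
        rw [show v * algebraMap C T e = 0 from Subtype.ext hev]; exact M.zero_mem)).resolve_left hv
    refine ⟨1 - e, fun h => (‹M.IsPrime›).ne_top ((Ideal.eq_top_iff_one _).2 ?_), by rw [sub_mul, hec, one_mul, sub_self]⟩
    have h7 := M.add_mem h heM
    rwa [map_sub, map_one, sub_add_cancel] at h7
  obtain ⟨a, ha, haC⟩ := hax
  obtain ⟨u, y, hu, huy⟩ := exists_dvd_of_unramified C T hclC M hker (algebraMap A C a) ⟨_, haC⟩ ⟨⟨x, hx⟩, Subtype.ext rfl⟩
  refine ⟨u, fun _ => hu, ?_⟩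
  have h8 : (u : K) * (algebraMap A K a * x) = algebraMap A K a * y := congrArg (fun z : C => (z : K)) huy
  rw [show (u : K) * x = y from (hunit a ha).mul_left_cancel (by rw [← h8]; ring)]
  exact y.2

end Groth.Agent.EssSub
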