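/-
A semilocal normalisation makes a dominated subalgebra essentially of finite type.
-/
import Mathlib
import Groth.Agent.EssSub.SemilocalNorm
import Groth.Agent.EssSub.NormalUnion

set_option autoImplicit false
set_option linter.style.haveILetI false
universe u

open IsLocalRing Polynomial

namespace Groth.Agent.EssSub

variable {A E : Type u} [CommRing A] [IsLocalRing A] [CommRing E] [IsLocalRing E] [Algebra A E]
  [IsLocalHom (algebraMap A E)]

/-- The localisation at the closed point of a finitely generated subalgebra is essentially of finite type. -/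
theorem essFiniteType_localizeIn_adjoin (F : Finset E) :
    Algebra.EssFiniteType A (localizeIn (Algebra.adjoin A (F : Set E))) := by
  classical
  let B := Algebra.adjoin A (F : Set E)
  haveI := isLocalHom_localizeIn B
  let σ : Finset (localizeIn B) := F.attach.image fun g => ⟨g.1, le_localizeIn B (Algebra.subset_adjoin g.2)⟩
  have hσ : B ≤ (Algebra.adjoin A (σ : Set (localizeIn B))).map (localizeIn B).val :=
    Algebra.adjoin_le fun g hg =>
      ⟨_, Algebra.subset_adjoin (Finset.mem_coe.2 (Finset.mem_image_of_mem _ (Finset.mem_attach _ ⟨g, hg⟩))), rfl⟩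
  have hB : ∀ b (hb : b ∈ B), (⟨b, le_localizeIn B hb⟩ : localizeIn B) ∈ Algebra.adjoin A (σ : Set (localizeIn B)) := by
    intro b hb
    obtain ⟨y, hy, hyb⟩ := hσ hb
    rwa [show (⟨b, le_localizeIn B hb⟩ : localizeIn B) = y from Subtype.ext hyb.symm]
  refine ⟨⟨σ, (Algebra.essFiniteType_cond_iff A (localizeIn B) σ).2 fun x => ?_⟩⟩
  obtain ⟨b, hb, c, hc, hu, h⟩ := x.2
  refine ⟨⟨c, le_localizeIn B hc⟩, hB c hc, isUnit_of_map_unit (algebraMap (localizeIn B) E) _ hu, ?_⟩
  rw [show x * ⟨c, le_localizeIn B hc⟩ = ⟨b, le_localizeIn B hb⟩ from Subtype.ext h]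
  exact hB b hb

/-- A semilocal normalisation makes a dominated subalgebra essentially of finite type. -/
theorem essFiniteType_of_normalization [IsReduced A] (hA : EGA4.IsExcellent A) (hE : EGA4loc.IsEssentiallyEtale A E)
    (D : Subalgebra A E) [IsLocalRing D] [IsLocalHom (algebraMap D E)]
    (D' : Subalgebra A (FractionRing E))
    (hD' : ∀ x : (FractionRing E), x ∈ D' ↔ (IsIntegral D x ∧
      ∃ a ∈ nonZeroDivisors A, ∃ d ∈ D, algebraMap A (FractionRing E) a * x = algebraMap E (FractionRing E) d))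
    (hint : ∀ x ∈ D', IsIntegral E x)
    (hgood : ∀ N : Ideal D', N.IsMaximal → ∃ M : Ideal (integralClosure E (FractionRing E)), M.IsPrime ∧
      M.comap (algebraMap E (integralClosure E (FractionRing E))) = maximalIdeal E ∧
      ∀ z : D', z ∈ N ↔ (⟨(z : FractionRing E), hint z z.2⟩ : integralClosure E (FractionRing E)) ∈ M) :
    Algebra.EssFiniteType A D ∧
      ∃ G : Finset (FractionRing E), ∀ x ∈ D', x ∈ Submodule.span D (G : Set (FractionRing E)) := by
  classical
  haveI : IsNoetherianRing A := hA.1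
  have hmin : (minimalPrimes A).Finite := minimalPrimes.finite_of_isNoetherianRing A
  haveI := isReduced_of_essEt hE
  obtain ⟨i1, i2, hart, hfinK⟩ := exists_generic hmin hE
  letI := i1
  haveI := i2
  haveI := hart
  haveI := hfinK
  let K := FractionRing E
  haveI : IsReduced K := inferInstanceAs (IsReduced (Localization (nonZeroDivisors E)))
  haveI : IsArtinianRing K := IsArtinianRing.of_finite (FractionRing A) K
  haveI : Algebra.IsIntegral (FractionRing A) K := Algebra.IsIntegral.of_finite _ _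
  haveI := finite_integralClosure_artinian A K (S2654.result A ⟨hA.1, hA.2.2.1, hA.2.2.2⟩)
  let C : Subalgebra A K := D' ⊓ integralClosure A K
  haveI : Module.Finite A C :=
    Module.Finite.of_injective (Subalgebra.inclusion (inf_le_right : C ≤ integralClosure A K)).toLinearMap
      (Subalgebra.inclusion_injective inf_le_right)
  haveI : Algebra.IsIntegral A C := Algebra.IsIntegral.of_finite A C
  have hcl : ∀ z : K, IsIntegral A z → (∃ a ∈ nonZeroDivisors A, algebraMap A K a * z ∈ C) → z ∈ C := by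
    intro z hz ⟨a, ha, haz⟩
    obtain ⟨b, hb, d, hd, hbd⟩ := ((hD' _).1 haz.1).2
    refine ⟨(hD' z).2 ⟨hz.tower_top, b * a, mul_mem hb ha, d, hd, ?_⟩, hz⟩
    rw [map_mul, mul_assoc]
    exact hbd
  have hbase : ∀ y : K, IsIntegral A y → ∀ a ∈ nonZeroDivisors A, ∀ b : A,
      algebraMap A K a * y = algebraMap A K b → y ∈ C := fun y hy a ha b hab =>
    ⟨(hD' y).2 ⟨hy.tower_top, a, ha, algebraMap A E b, D.algebraMap_mem b, by
      rw [hab, ← IsScalarTower.algebraMap_apply A E K]⟩, hy⟩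
  have hax : ∀ x ∈ D', ∃ a ∈ nonZeroDivisors A, algebraMap A K a * x ∈ C := fun x hx => by
    obtain ⟨m, hm⟩ := IsIntegral.exists_multiple_integral_of_isLocalization (Rₘ := FractionRing A) (nonZeroDivisors A) x
      (Algebra.IsIntegral.isIntegral x)
    refine ⟨m, m.2, mul_mem (D'.algebraMap_mem _) hx, ?_⟩
    rw [← Algebra.smul_def]
    exact hm
  -- the good primes of `C`
  let ρ : C →ₐ[A] D' := Subalgebra.inclusion inf_le_left
  let good : Set (Ideal C) := {Q | ∃ N : Ideal D', N.IsMaximal ∧ Q = N.comap ρ}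
  have hgoodmul : ∀ N : Ideal D', N.IsMaximal → ∀ x ∈ D', ∃ u : C, u ∉ N.comap ρ ∧ (u : K) * x ∈ C := fun N hN x hx => by
    obtain ⟨M, hM, -, hMN⟩ := hgood N hN
    obtain ⟨u, hu, hux⟩ := exists_mul_mem hE C hcl hbase M x (hint x hx) (hax x hx)
    exact ⟨u, fun h => hu _ ((hMN (ρ u)).1 h), hux⟩
  have hover : ∀ Q : Ideal C, Q.IsPrime → Q.comap (algebraMap A C) = maximalIdeal A → Q.IsMaximal := fun Q hQ h =>
    Ideal.isMaximal_of_isIntegral_of_isMaximal_comap Q (by rw [h]; infer_instance)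
  have hgoodprime : ∀ Q ∈ good, Q.IsPrime ∧ Q.comap (algebraMap A C) = maximalIdeal A := by
    rintro Q ⟨N, hN, rfl⟩
    obtain ⟨M, hM, hMm, hMN⟩ := hgood N hN
    haveI := hN.isPrime
    refine ⟨Ideal.IsPrime.comap _, ?_⟩
    ext r
    have h4 : (maximalIdeal E).comap (algebraMap A E) = maximalIdeal A :=
      ((local_hom_TFAE (algebraMap A E)).out 0 4).mp ‹IsLocalHom (algebraMap A E)›
    rw [← h4, ← hMm]
    exact hMN (ρ (algebraMap A C r))
  have hfinmax : {Q : Ideal C | Q.IsPrime ∧ Q.comap (algebraMap A C) = maximalIdeal A}.Finite := by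
    refine (Algebra.QuasiFinite.finite_primesOver (S := C) (maximalIdeal A)).subset fun Q hQ => ⟨hQ.1, ⟨hQ.2.symm⟩⟩
  have hgoodfin : good.Finite := hfinmax.subset hgoodprime
  let bad : Set (Ideal C) := {Q | (Q.IsPrime ∧ Q.comap (algebraMap A C) = maximalIdeal A) ∧ Q ∉ good}
  have hbadfin : bad.Finite := hfinmax.subset fun Q hQ => hQ.1
  have hkill : ∀ Q ∈ bad, ∃ s ∈ Q, ∃ t ∈ D', ((s : C) : K) * t = 1 := by
    rintro Q ⟨⟨hQ, hQm⟩, hQg⟩
    have hnot : ¬ ((Q : Set C) ⊆ ⋃ P ∈ (hgoodfin.toFinset : Set (Ideal C)), (P : Set C)) := fun hsub => by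
      obtain ⟨P, hP, hle⟩ := (Ideal.subset_union_prime (s := hgoodfin.toFinset) (f := id) ⊥ ⊥
        fun P hP _ _ => (hgoodprime P (hgoodfin.mem_toFinset.1 hP)).1).1 hsub
      have hPg := hgoodfin.mem_toFinset.1 hP
      have heq := (hover Q hQ hQm).eq_of_le (hgoodprime P hPg).1.ne_top hle
      exact hQg (show Q ∈ good by rw [heq]; exact hPg)
    obtain ⟨s, hs, hs'⟩ := Set.not_subset.1 hnot
    simp only [Set.mem_iUnion, Set.Finite.coe_toFinset, not_exists] at hs'
    have hu : IsUnit (ρ s) := by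
      by_contra hnu
      obtain ⟨N, hN, hsN⟩ := exists_max_ideal_of_mem_nonunits hnu
      exact hs' _ ⟨N, hN, rfl⟩ hsN
    obtain ⟨w, hw⟩ := hu.exists_right_inv
    exact ⟨s, hs, w, w.2, congrArg (fun z : D' => (z : K)) hw⟩
  choose s hs t ht hst using hkill
  obtain ⟨G₀, hG₀⟩ := (Module.Finite.iff_fg (N := Subalgebra.toSubmodule C)).1 inferInstance
  let G : Finset K := G₀ ∪ hbadfin.toFinset.attach.image fun Q => t Q.1 (hbadfin.mem_toFinset.1 Q.2)
  have hGD : ∀ g ∈ G, g ∈ D' := by
    intro g hg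
    rcases Finset.mem_union.1 hg with hg | hg
    · have hgC : g ∈ Subalgebra.toSubmodule C := hG₀ ▸ Submodule.subset_span hg
      exact hgC.1
    · obtain ⟨Q, -, rfl⟩ := Finset.mem_image.1 hg
      exact ht _ _
  choose p hp hpg using fun g : G => ((hD' _).1 (hGD g g.2)).1
  let F : Finset E := Finset.univ.biUnion fun g : G => (p g).support.image fun i => (((p g).coeff i : D) : E)
  let C₁ : Subalgebra A E := localizeIn (Algebra.adjoin A (F : Set E))
  haveI : IsLocalHom (algebraMap C₁ E) := isLocalHom_localizeIn _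
  haveI : IsLocalRing C₁ := isLocalRing_localizeIn _
  haveI : Algebra.EssFiniteType A C₁ := essFiniteType_localizeIn_adjoin F
  haveI : IsNoetherianRing C₁ := Algebra.EssFiniteType.isNoetherianRing A C₁
  haveI := isLocalHom_base C₁
  have hFD : Algebra.adjoin A (F : Set E) ≤ D := Algebra.adjoin_le fun x hx => by
    obtain ⟨g, -, hx⟩ := Finset.mem_biUnion.1 hx
    obtain ⟨i, -, rfl⟩ := Finset.mem_image.1 hx
    exact ((p g).coeff i).2
  have hC₁D : C₁ ≤ D := by
    rintro x ⟨b, hb, c, hc, hu, h⟩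
    obtain ⟨w, hw⟩ := (isUnit_of_map_unit (algebraMap D E) (⟨c, hFD hc⟩ : D) hu).exists_right_inv
    have hw' : c * (w : E) = 1 := congrArg (fun z : D => (z : E)) hw
    rw [show x = b * (w : E) by rw [← h, mul_assoc, hw', mul_one]]
    exact mul_mem (hFD hb) w.2
  have hGint : ∀ g ∈ (G : Set K), IsIntegral C₁ g := by
    intro g hg
    let ι : C₁ →+* D := (Subalgebra.inclusion hC₁D).toRingHom
    have hlift : ∀ i, (p ⟨g, hg⟩).coeff i ∈ Set.range ι := fun i => by
      by_cases hi : (p ⟨g, hg⟩).coeff i = 0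
      · exact ⟨0, by rw [map_zero, hi]⟩
      · exact ⟨⟨_, le_localizeIn _ (Algebra.subset_adjoin (Finset.mem_coe.2 (Finset.mem_biUnion.2
          ⟨⟨g, hg⟩, Finset.mem_univ _, Finset.mem_image.2 ⟨i, Polynomial.mem_support_iff.2 hi, rfl⟩⟩)))⟩, Subtype.ext rfl⟩
    obtain ⟨q, hq, -, hqm⟩ := lifts_and_degree_eq_and_monic ((lifts_iff_coeff_lifts _).2 hlift) (hp ⟨g, hg⟩)
    refine ⟨q, hqm, ?_⟩
    have h1 : eval₂ (algebraMap D K) g (p ⟨g, hg⟩) = 0 := hpg ⟨g, hg⟩
    rw [← hq, eval₂_map] at h1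
    exact h1
  let W := Algebra.adjoin C₁ (G : Set K)
  haveI hWfin : Module.Finite C₁ W := Module.Finite.iff_fg.2 (fg_adjoin_of_finite G.finite_toSet hGint)
  haveI : Algebra.IsIntegral C₁ W := Algebra.IsIntegral.of_finite C₁ W
  have hCW : ∀ z ∈ C, z ∈ W := fun z hz => by
    have hz' : z ∈ Submodule.span A (G₀ : Set K) := hG₀ ▸ hz
    refine Submodule.span_le (p := Subalgebra.toSubmodule (W.restrictScalars A)) |>.2 (fun g hg => ?_) hz'
    exact Algebra.subset_adjoin (Finset.mem_coe.2 (Finset.mem_union_left _ hg))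
  let η : C →ₐ[A] W.restrictScalars A := (C.val).codRestrict _ fun z => hCW z z.2
  have hWD : ∀ x ∈ D', x ∈ W := fun x hx => by
    let J : Ideal W :=
      { carrier := {w | (w : K) * x ∈ W}
        add_mem' := fun {a b} ha hb => by
          show ((a : K) + b) * x ∈ W
          rw [add_mul]; exact add_mem ha hb
        zero_mem' := by show (0 : K) * x ∈ W; rw [zero_mul]; exact zero_mem _
        smul_mem' := fun c {a} ha => by
          show ((c : K) * a) * x ∈ W
          rw [mul_assoc]; exact mul_mem c.2 ha }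
    by_contra hxW
    have hJ : J ≠ ⊤ := fun h => hxW (by
      have h1 : ((1 : W) : K) * x ∈ W := (h ▸ Submodule.mem_top : (1 : W) ∈ J)
      rwa [OneMemClass.coe_one, one_mul] at h1)
    obtain ⟨P, hP, hJP⟩ := Ideal.exists_le_maximal J hJ
    haveI := hP
    have hP1 : P.comap (algebraMap C₁ W) = maximalIdeal C₁ :=
      eq_maximalIdeal (Ideal.isMaximal_comap_of_isIntegral_of_isMaximal P)
    let Q : Ideal C := P.comap η.toRingHom
    have hQm : Q.comap (algebraMap A C) = maximalIdeal A := by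
      have h4 : (maximalIdeal C₁).comap (algebraMap A C₁) = maximalIdeal A :=
        ((local_hom_TFAE (algebraMap A C₁)).out 0 4).mp ‹IsLocalHom (algebraMap A C₁)›
      rw [← h4, ← hP1]
      rfl
    by_cases hQg : Q ∈ good
    · obtain ⟨N, hN, hQN⟩ := hQg
      obtain ⟨u, hu, hux⟩ := hgoodmul N hN x hx
      refine hu (hQN ▸ ?_)
      exact hJP (show (u : K) * x ∈ W from hCW _ hux)
    · have hQb : Q ∈ bad := ⟨⟨Ideal.IsPrime.comap _, hQm⟩, hQg⟩
      have htW : t Q hQb ∈ W := Algebra.subset_adjoin (Finset.mem_coe.2 (Finset.mem_union_right _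
        (Finset.mem_image.2 ⟨⟨Q, hbadfin.mem_toFinset.2 hQb⟩, Finset.mem_attach _ _, rfl⟩)))
      exact hP.ne_top ((Ideal.eq_top_iff_one _).2 (by
        have h2 : (⟨(η (s Q hQb) : K), (η (s Q hQb)).2⟩ : W) * ⟨_, htW⟩ ∈ P := P.mul_mem_right _ (hs Q hQb)
        have h3 : (⟨(η (s Q hQb) : K), (η (s Q hQb)).2⟩ : W) * ⟨_, htW⟩ = 1 := Subtype.ext (hst Q hQb)
        rwa [h3] at h2))
  letI : Algebra C₁ D := (Subalgebra.inclusion hC₁D).toRingHom.toAlgebra
  haveI : IsScalarTower A C₁ D := IsScalarTower.of_algebraMap_eq fun r => rfl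
  have hDW : ∀ d : D, algebraMap E K (d : E) ∈ W := fun d => hWD _ ((hD' _).2
    ⟨(isIntegral_algebraMap : IsIntegral D (algebraMap D K d)), 1, one_mem _, d, d.2, by rw [map_one, one_mul]⟩)
  haveI : IsNoetherian C₁ W := isNoetherian_of_isNoetherianRing_of_finite C₁ W
  haveI : Module.Finite C₁ D := Module.Finite.of_injective
    ({ toFun := fun d => ⟨algebraMap E K (d : E), hDW d⟩
       map_add' := fun a b => Subtype.ext (map_add (algebraMap E K) (a : E) b)
       map_smul' := fun c d => Subtype.ext (by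
        show algebraMap E K ((c : E) * (d : E)) = c • algebraMap E K (d : E)
        rw [map_mul, Algebra.smul_def]
        rfl) } : D →ₗ[C₁] W)
    fun a b h => Subtype.ext (IsFractionRing.injective E K (congrArg Subtype.val h))
  refine ⟨Algebra.EssFiniteType.comp A C₁ D, ?_⟩
  obtain ⟨G₁, hG₁⟩ := (Module.Finite.iff_fg (N := Subalgebra.toSubmodule W)).1 hWfin
  haveI : IsScalarTower C₁ D K := IsScalarTower.of_algebraMap_eq fun c => rfl
  refine ⟨G₁, fun x hx => ?_⟩
  have h1 : x ∈ Submodule.span C₁ (G₁ : Set K) := hG₁ ▸ hWD x hx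
  exact Submodule.span_le_restrictScalars C₁ D (G₁ : Set K) h1

end Groth.Agent.EssSub
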