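/-
Maximal ideals of normalisations of Noetherian local rings and their contractions.
-/
import Mathlib
import Groth.Agent.EssSub.NormGen
import Groth.Agent.Hensel.BranchCount
import Groth.Agent.Hensel.HenselizationNoeth

set_option autoImplicit false
set_option linter.style.haveILetI false
universe u

open IsLocalRing Polynomial

namespace Groth.Agent.EssSub

/-- The normalisation of a Noetherian reduced local ring is semilocal. -/
theorem finite_maximal_normalization (E : Type u) [CommRing E] [IsLocalRing E] [IsReduced E] [IsNoetherianRing E] :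
    {M : Ideal (integralClosure E (FractionRing E)) | M.IsMaximal}.Finite := by
  classical
  have hmin : (minimalPrimes E).Finite := minimalPrimes.finite_of_isNoetherianRing E
  -- finitely many maximal ideals of `normRed E`
  obtain ⟨hlA, hAh⟩ := Hensel.exists_henselization E
  haveI := hlA
  haveI := hAh
  let S := Hensel.Env E (ResidueField E)
  haveI : IsNoetherianRing S := (Hensel.henselization_isNoetherianRing_iff E S).1 inferInstance
  have h1 := Hensel.card_minimalPrimes_henselization (A := E) (S := S)
  rw [Brnch.numBranches, if_pos hmin] at h1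
  have h2 : ENat.card (MaximalSpectrum (CAlg2.normRed E)) < ⊤ := by
    rw [← h1, ENat.card_lt_top]
    exact (minimalPrimes.finite_of_isNoetherianRing S).to_subtype
  haveI : Finite (MaximalSpectrum (CAlg2.normRed E)) := ENat.card_lt_top.1 h2
  -- a surjection onto the normalisation
  let e : CAlg2.red E ≃+* E :=
    (Ideal.quotEquivOfEq (nilradical_eq_zero E)).trans (RingEquiv.quotientBot E)
  have he : ∀ x : E, e (Ideal.Quotient.mk (nilradical E) x) = x := fun x => rfl
  let eK : FractionRing (CAlg2.red E) ≃+* FractionRing E := IsFractionRing.ringEquivOfRingEquiv e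
  have heK : ∀ x, eK (algebraMap (CAlg2.red E) _ x) = algebraMap E _ (e x) := fun x =>
    IsFractionRing.ringEquivOfRingEquiv_algebraMap e x
  have hmap : ∀ z : CAlg2.normRed E, IsIntegral E (eK z.1) := fun z => by
    obtain ⟨f, hf, hfz⟩ := z.2
    refine ⟨f.map e.toRingHom, hf.map _, ?_⟩
    have h3 := congrArg eK hfz
    rw [map_zero] at h3
    rw [eval₂_map, show (algebraMap E (FractionRing E)).comp e.toRingHom = eK.toRingHom.comp (algebraMap _ _) from
      RingHom.ext fun x => (heK x).symm]
    exact (hom_eval₂ f _ eK.toRingHom _).symm.trans h3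
  let g : CAlg2.normRed E →+* integralClosure E (FractionRing E) :=
    (eK.toRingHom.comp (integralClosure (CAlg2.red E) (FractionRing (CAlg2.red E))).val.toRingHom).codRestrict
      (integralClosure E (FractionRing E)).toSubsemiring hmap
  have hg : Function.Surjective g := fun w => by
    obtain ⟨f, hf, hfw⟩ := w.2
    refine ⟨⟨eK.symm w.1, f.map e.symm.toRingHom, hf.map _, eK.injective ?_⟩, Subtype.ext (eK.apply_symm_apply w.1)⟩
    rw [map_zero, eval₂_map]
    show eK.toRingHom (eval₂ _ _ f) = 0
    rw [hom_eval₂, show eK.toRingHom.comp ((algebraMap (CAlg2.red E) (FractionRing (CAlg2.red E))).comp e.symm.toRingHom) =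
      algebraMap E (FractionRing E) from RingHom.ext fun x => by
        show eK (algebraMap _ _ (e.symm x)) = _
        rw [heK, e.apply_symm_apply],
      show eK.toRingHom (eK.symm w.1) = w.1 from eK.apply_symm_apply w.1]
    exact hfw
  let F : {M : Ideal (integralClosure E (FractionRing E)) | M.IsMaximal} → MaximalSpectrum (CAlg2.normRed E) := fun M =>
    ⟨M.1.comap g, (haveI : M.1.IsMaximal := M.2; Ideal.comap_isMaximal_of_surjective g hg)⟩
  haveI := Finite.of_injective F fun M M' h => Subtype.ext
    (Ideal.comap_injective_of_surjective g hg (congrArg MaximalSpectrum.asIdeal h))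
  exact Set.toFinite _

variable {A E : Type u} [CommRing A] [IsLocalRing A] [CommRing E] [IsLocalRing E] [Algebra A E]
  [IsLocalHom (algebraMap A E)]

/-- Maximal ideals of an integral extension of a dominated algebra contract to maximal ideals. -/
theorem isMaximal_comap_of_residue (hE : EGA4loc.IsEssentiallyEtale A E) (C : Type u) [CommRing C] [Algebra A C]
    (T : Type u) [CommRing T] [Algebra A T] [Algebra E T] [IsScalarTower A E T] [Algebra.IsIntegral E T]
    (j : C →ₐ[A] T) (M : Ideal T) [M.IsMaximal] : (M.comap j.toRingHom).IsMaximal := by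
  obtain ⟨hu, hft⟩ := Hensel.essEt_unramified hE
  haveI := hu
  haveI := hft
  letI := Ideal.Quotient.field M
  have hm : M.comap (algebraMap E T) = maximalIdeal E :=
    eq_maximalIdeal (Ideal.isMaximal_comap_of_isIntegral_of_isMaximal M)
  letI : Algebra (ResidueField E) (T ⧸ M) := (Ideal.Quotient.lift (maximalIdeal E) (algebraMap E (T ⧸ M)) fun a ha => by
    rw [IsScalarTower.algebraMap_apply E T (T ⧸ M)]
    exact Ideal.Quotient.eq_zero_iff_mem.2 (show a ∈ M.comap (algebraMap E T) by rwa [hm])).toAlgebra
  haveI : IsScalarTower E (ResidueField E) (T ⧸ M) := IsScalarTower.of_algebraMap_eq fun a => rfl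
  letI : Algebra (ResidueField A) (T ⧸ M) :=
    ((algebraMap (ResidueField E) (T ⧸ M)).comp (algebraMap (ResidueField A) (ResidueField E))).toAlgebra
  haveI : IsScalarTower (ResidueField A) (ResidueField E) (T ⧸ M) := IsScalarTower.of_algebraMap_eq fun a => rfl
  haveI : IsScalarTower A (ResidueField A) (T ⧸ M) := IsScalarTower.of_algebraMap_eq fun a => by
    show _ = algebraMap E (T ⧸ M) (algebraMap A E a)
    rw [← IsScalarTower.algebraMap_apply A E (T ⧸ M)]
  haveI : Algebra.IsIntegral E (T ⧸ M) := Algebra.IsIntegral.of_surjective (R := E) (IsScalarTower.toAlgHom E T (T ⧸ M)) Ideal.Quotient.mk_surjective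
  haveI : Algebra.IsIntegral (ResidueField E) (T ⧸ M) := ⟨fun y => (Algebra.IsIntegral.isIntegral (R := E) y).tower_top⟩
  haveI : Algebra.IsIntegral (ResidueField A) (ResidueField E) := Algebra.IsIntegral.of_finite _ _
  haveI : Algebra.IsIntegral (ResidueField A) (T ⧸ M) := Algebra.IsIntegral.trans (ResidueField E)
  rw [Ideal.isMaximal_def]
  refine ⟨fun h => (‹M.IsMaximal›).ne_top ((Ideal.eq_top_iff_one _).2 ?_), fun J hJ => ?_⟩
  · have h1 : (1 : C) ∈ M.comap j.toRingHom := h ▸ Submodule.mem_top
    rwa [Ideal.mem_comap, map_one] at h1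
  · obtain ⟨x, hxJ, hxM⟩ := Set.exists_of_ssubset hJ
    let y : T ⧸ M := Ideal.Quotient.mk M (j x)
    have hy : y ≠ 0 := fun h => hxM (show j x ∈ M from Ideal.Quotient.eq_zero_iff_mem.1 h)
    have hinv := (Algebra.IsIntegral.isIntegral (R := ResidueField A) y).inv_mem_adjoin
    rw [Algebra.adjoin_singleton_eq_range_aeval] at hinv
    obtain ⟨q, hq⟩ := hinv
    obtain ⟨q₀, rfl⟩ := Polynomial.map_surjective (residue A) residue_surjective q
    have h2 : (Ideal.Quotient.mk M) (j (aeval x q₀ * x)) = 1 := by
      rw [map_mul, map_mul, ← aeval_algHom_apply]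
      show (Ideal.Quotient.mkₐ A M) (aeval (j x) q₀) * y = 1
      rw [← aeval_algHom_apply]
      show aeval y q₀ * y = 1
      rw [← inv_mul_cancel₀ hy, ← hq]
      exact congrArg (· * y) (aeval_map_algebraMap (ResidueField A) y q₀).symm
    have h3 : aeval x q₀ * x - 1 ∈ M.comap j.toRingHom := by
      rw [Ideal.mem_comap]
      show j (aeval x q₀ * x - 1) ∈ M
      rw [map_sub, map_one, ← Ideal.Quotient.eq_zero_iff_mem, map_sub, h2, map_one, sub_self]
    rw [Ideal.eq_top_iff_one]
    have h4 := J.sub_mem (J.mul_mem_left (aeval x q₀) hxJ) (hJ.le h3)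
    rwa [sub_sub_cancel] at h4

end Groth.Agent.EssSub
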