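/-
Noetherian dominated subalgebras with maximal ideal from the base are essentially of finite type.
-/
import Mathlib
import Groth.Agent.EssSub.EssFt
import Groth.Agent.S0392

set_option autoImplicit false
set_option linter.style.haveILetI false
universe u

open IsLocalRing Polynomial TensorProduct

namespace Groth.Agent.EssSub

/-- The elements integral over a subalgebra with a denominator from the base form a subalgebra. -/
def normalizationIn {A E : Type u} [CommRing A] [CommRing E] [Algebra A E] (D : Subalgebra A E) :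
    Subalgebra A (FractionRing E) where
  carrier := {x | IsIntegral D x ∧
    ∃ a ∈ nonZeroDivisors A, ∃ d ∈ D, algebraMap A (FractionRing E) a * x = algebraMap E (FractionRing E) d}
  mul_mem' := fun {x y} ⟨hx, a, ha, d, hd, h⟩ ⟨hy, b, hb, e, he, h'⟩ =>
    ⟨hx.mul hy, a * b, mul_mem ha hb, d * e, mul_mem hd he, by rw [map_mul, map_mul, ← h, ← h']; ring⟩
  add_mem' := fun {x y} ⟨hx, a, ha, d, hd, h⟩ ⟨hy, b, hb, e, he, h'⟩ =>
    ⟨hx.add hy, a * b, mul_mem ha hb, algebraMap A E b * d + algebraMap A E a * e,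
      add_mem (mul_mem (D.algebraMap_mem _) hd) (mul_mem (D.algebraMap_mem _) he), by
      rw [map_mul, map_add, map_mul, map_mul, ← h, ← h', ← IsScalarTower.algebraMap_apply A E (FractionRing E),
        ← IsScalarTower.algebraMap_apply A E (FractionRing E)]
      ring⟩
  algebraMap_mem' := fun r => ⟨isIntegral_algebraMap.tower_top, 1, one_mem _, algebraMap A E r, D.algebraMap_mem r, by
    rw [map_one, one_mul, ← IsScalarTower.algebraMap_apply A E (FractionRing E)]⟩

theorem mem_normalizationIn {A E : Type u} [CommRing A] [CommRing E] [Algebra A E] (D : Subalgebra A E)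
    (x : FractionRing E) : x ∈ normalizationIn D ↔ (IsIntegral D x ∧
    ∃ a ∈ nonZeroDivisors A, ∃ d ∈ D, algebraMap A (FractionRing E) a * x = algebraMap E (FractionRing E) d) := Iff.rfl

variable {A E : Type u} [CommRing A] [IsLocalRing A] [CommRing E] [IsLocalRing E] [Algebra A E]
  [IsLocalHom (algebraMap A E)]

/-- An essentially étale algebra is flat. -/
theorem flat_of_essEt (hE : EGA4loc.IsEssentiallyEtale A E) : Module.Flat A E := by
  obtain ⟨C, _, _, q, _, hC, -, ⟨φ⟩⟩ := hE
  haveI := hC
  haveI : Module.Flat A (Localization.AtPrime q) := Module.Flat.trans A C _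
  exact Module.Flat.of_linearEquiv φ.toLinearEquiv

theorem flat_over_quotient_of_isMaximal {R M : Type u} [CommRing R] (I : Ideal R) [I.IsMaximal] [AddCommGroup M]
    [Module (R ⧸ I) M] : Module.Flat (R ⧸ I) M := by
  letI := Ideal.Quotient.field I
  infer_instance

/-- A Noetherian dominated subalgebra with maximal ideal from the base has the ambient algebra faithfully flat over it. -/
theorem faithfullyFlat_of_max [IsNoetherianRing A] (hE : EGA4loc.IsEssentiallyEtale A E) (D : Subalgebra A E)
    [IsLocalRing D] [IsLocalHom (algebraMap D E)] [IsNoetherianRing D]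
    (hm : (maximalIdeal A).map (algebraMap A D) = maximalIdeal D) : Module.FaithfullyFlat D E := by
  obtain ⟨hu, hft⟩ := Hensel.essEt_unramified hE
  haveI := hft
  haveI : IsNoetherianRing E := Algebra.EssFiniteType.isNoetherianRing A E
  haveI := flat_of_essEt hE
  haveI := isLocalHom_base D
  have hmax : ((maximalIdeal A).map (algebraMap A D)).IsMaximal := by rw [hm]; infer_instance
  haveI := hmax
  haveI := (S0392.result (R := A) (S := D) (S' := E) (M := E) (flat_over_quotient_of_isMaximal _)).2
  exact Module.FaithfullyFlat.of_flat_of_isLocalHom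

/-- A Noetherian dominated subalgebra with maximal ideal from the base is essentially of finite type. -/
theorem essFiniteType_of_max [IsReduced A] (hA : EGA4.IsExcellent A) (hE : EGA4loc.IsEssentiallyEtale A E)
    (D : Subalgebra A E) [IsLocalRing D] [IsLocalHom (algebraMap D E)] [IsNoetherianRing D]
    (hm : (maximalIdeal A).map (algebraMap A D) = maximalIdeal D) : Algebra.EssFiniteType A D := by
  classical
  haveI := hA.1
  haveI := faithfullyFlat_of_max hE D hm
  obtain ⟨hu, hft⟩ := Hensel.essEt_unramified hE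
  haveI := hu
  haveI := hft
  have hEmax : (maximalIdeal A).map (algebraMap A E) = maximalIdeal E :=
    Algebra.FormallyUnramified.map_maximalIdeal
  have hmin : (minimalPrimes A).Finite := minimalPrimes.finite_of_isNoetherianRing A
  haveI := isReduced_of_essEt hE
  obtain ⟨i1, i2, hart, hfinK⟩ := exists_generic hmin hE
  letI := i1
  haveI := i2
  let K := FractionRing E
  let D' := normalizationIn D
  have hint : ∀ x ∈ D', IsIntegral E x := fun x hx => hx.1.tower_top
  refine (essFiniteType_of_normalization hA hE D D' (mem_normalizationIn D) hint fun N hN => ?_).1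
  let ι : D →+* D' := ((algebraMap E K).comp (algebraMap D E)).codRestrict D'.toSubsemiring fun d =>
    ⟨isIntegral_algebraMap, 1, one_mem _, d, d.2, by rw [map_one, one_mul]; rfl⟩
  letI : Algebra D D' := ι.toAlgebra
  haveI : IsScalarTower D D' K := IsScalarTower.of_algebraMap_eq fun d => rfl
  haveI hD'int : Algebra.IsIntegral D D' :=
    ⟨fun z => (isIntegral_algHom_iff (IsScalarTower.toAlgHom D D' K) Subtype.val_injective).1 z.2.1⟩
  let ψ : D' ⊗[D] E →ₐ[D] K := Algebra.TensorProduct.lift (IsScalarTower.toAlgHom D D' K) (IsScalarTower.toAlgHom D E K)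
    fun _ _ => Commute.all _ _
  have hψ : ∀ x e, ψ (x ⊗ₜ e) = (x : K) * algebraMap E K e := fun x e => Algebra.TensorProduct.lift_tmul _ _ _ x e
  have hunit : ∀ a ∈ nonZeroDivisors A, IsUnit (algebraMap A K a) := fun a ha => by
    rw [IsScalarTower.algebraMap_apply A (FractionRing A) K]
    exact (IsLocalization.map_units (FractionRing A) (⟨a, ha⟩ : nonZeroDivisors A)).map _
  let α : A → D' := algebraMap A D'
  have hrep : ∀ z : D' ⊗[D] E, ∃ a ∈ nonZeroDivisors A, ∃ e : E, (α a ⊗ₜ[D] (1 : E)) * z = (1 : D') ⊗ₜ e := by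
    intro z
    induction z using TensorProduct.induction_on with
    | zero => exact ⟨1, one_mem _, 0, by rw [mul_zero, tmul_zero]⟩
    | tmul x e =>
      obtain ⟨-, a, ha, d, hd, hd'⟩ := x.2
      refine ⟨a, ha, (⟨d, hd⟩ : D) • e, ?_⟩
      rw [Algebra.TensorProduct.tmul_mul_tmul, one_mul,
        show α a * x = (⟨d, hd⟩ : D) • (1 : D') from by
          rw [Algebra.smul_def, mul_one]
          exact Subtype.ext hd',
        smul_tmul]
    | add y z hy hz =>
      obtain ⟨a, ha, e, he⟩ := hy
      obtain ⟨b, hb, e', he'⟩ := hz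
      refine ⟨a * b, mul_mem ha hb, algebraMap A E b * e + algebraMap A E a * e', ?_⟩
      have e1 : ∀ r : A, (α r ⊗ₜ[D] (1 : E)) = (1 : D') ⊗ₜ[D] algebraMap A E r := fun r => by
        rw [show α r = algebraMap A D r • (1 : D') from by rw [Algebra.smul_def, mul_one]; exact Subtype.ext (IsScalarTower.algebraMap_apply A E K r),
          smul_tmul, Algebra.smul_def, mul_one]
        rfl
      rw [show α (a * b) ⊗ₜ[D] (1 : E) = (α b ⊗ₜ 1) * (α a ⊗ₜ 1) by
          rw [Algebra.TensorProduct.tmul_mul_tmul, one_mul]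
          exact congrArg (· ⊗ₜ[D] (1 : E)) ((congrArg α (mul_comm a b)).trans (map_mul (algebraMap A D') b a)), mul_add]
      rw [mul_assoc, he, show (α b ⊗ₜ[D] (1 : E)) * (α a ⊗ₜ 1) * z = (α a ⊗ₜ 1) * ((α b ⊗ₜ 1) * z) by ring, he',
        e1, e1, Algebra.TensorProduct.tmul_mul_tmul, Algebra.TensorProduct.tmul_mul_tmul, one_mul, ← tmul_add]
  haveI : Module.FaithfullyFlat D' (D' ⊗[D] E) := inferInstance
  have hreg : ∀ a ∈ nonZeroDivisors A, ∀ z : D' ⊗[D] E, (α a ⊗ₜ[D] (1 : E)) * z = 0 → z = 0 := fun a ha z hz => by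
    have hr : IsSMulRegular D' (α a) := fun x y h => Subtype.ext ((hunit a ha).mul_left_cancel
      (congrArg (fun w : D' => (w : K)) h))
    refine (hr.of_flat (S := D' ⊗[D] E)) ?_
    show algebraMap D' (D' ⊗[D] E) (α a) • z = algebraMap D' (D' ⊗[D] E) (α a) • (0 : D' ⊗[D] E)
    rw [smul_zero, smul_eq_mul, Algebra.TensorProduct.algebraMap_apply]
    exact hz
  have hinj : Function.Injective ψ := (injective_iff_map_eq_zero _).2 fun z hz => by
    obtain ⟨a, ha, e, he⟩ := hrep z
    refine hreg a ha z ?_
    have h1 := congrArg ψ he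
    rw [map_mul, hz, mul_zero, hψ, OneMemClass.coe_one, one_mul] at h1
    rw [he, show e = 0 from IsFractionRing.injective E K (h1.symm.trans (map_zero _).symm), tmul_zero]
  letI : Algebra E (D' ⊗[D] E) := Algebra.TensorProduct.rightAlgebra
  have hWT : ∀ z, IsIntegral E (ψ z) := fun z => by
    induction z using TensorProduct.induction_on with
    | zero => rw [map_zero]; exact isIntegral_zero
    | tmul x e => rw [hψ]; exact (hint _ x.2).mul isIntegral_algebraMap
    | add y z hy hz => rw [map_add]; exact hy.add hz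
  let T := integralClosure E K
  haveI : Algebra.IsIntegral E T := ⟨fun z => IsIntegralClosure.isIntegral E K z⟩
  obtain ⟨P, hP⟩ := PrimeSpectrum.comap_surjective_of_faithfullyFlat (B := D' ⊗[D] E)
    (⟨N, hN.isPrime⟩ : PrimeSpectrum D')
  let g : D' ⊗[D] E →+* T := { toFun := fun z => ⟨ψ z, hWT z⟩, map_one' := Subtype.ext (map_one ψ), map_mul' := fun y z => Subtype.ext (map_mul ψ y z), map_zero' := Subtype.ext (map_zero ψ), map_add' := fun y z => Subtype.ext (map_add ψ y z) }
  have hginj : Function.Injective g := fun y z h => hinj (congrArg Subtype.val h)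
  letI : Algebra (D' ⊗[D] E) T := g.toAlgebra
  haveI : IsScalarTower E (D' ⊗[D] E) T := IsScalarTower.of_algebraMap_eq fun e => Subtype.ext (by
    show algebraMap E K e = ψ ((1 : D') ⊗ₜ e)
    rw [hψ, OneMemClass.coe_one, one_mul])
  haveI : Algebra.IsIntegral (D' ⊗[D] E) T := ⟨fun z => (Algebra.IsIntegral.isIntegral (R := E) z).tower_top⟩
  obtain ⟨M, -, hM, hMP⟩ := Ideal.exists_ideal_over_prime_of_isIntegral P.asIdeal (⊥ : Ideal T) (fun z hz => by
    rw [Ideal.mem_comap, Ideal.mem_bot] at hz
    have h0 : z = 0 := hginj (hz.trans (map_zero g).symm)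
    rw [h0]
    exact P.asIdeal.zero_mem)
  have hPN : ∀ x : D', x ∈ N ↔ (x ⊗ₜ[D] (1 : E)) ∈ P.asIdeal := fun x => by
    rw [show N = (PrimeSpectrum.comap (algebraMap D' (D' ⊗[D] E)) P).asIdeal by rw [hP]]
    rfl
  refine ⟨M, hM, ?_, fun x => ?_⟩
  · haveI := hN
    have hND : N.comap (algebraMap D D') = maximalIdeal D := eq_maximalIdeal (Ideal.isMaximal_comap_of_isIntegral_of_isMaximal N)
    refine le_antisymm (IsLocalRing.le_maximalIdeal (Ideal.comap_ne_top _ hM.ne_top)) ?_
    rw [← hEmax, Ideal.map_le_iff_le_comap]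
    intro a ha
    have h1 : algebraMap A D a ∈ maximalIdeal D := hm ▸ Ideal.mem_map_of_mem _ ha
    rw [← hND, Ideal.mem_comap, hPN, ← hMP, Ideal.mem_comap] at h1
    rw [Ideal.mem_comap, Ideal.mem_comap]
    convert h1 using 1
    refine Subtype.ext ?_
    show algebraMap E K (algebraMap A E a) = ψ (ι (algebraMap A D a) ⊗ₜ 1)
    rw [hψ, map_one, mul_one]
    rfl
  · rw [hPN, ← hMP, Ideal.mem_comap]
    have : algebraMap (D' ⊗[D] E) T (x ⊗ₜ[D] (1 : E)) = ⟨(x : K), hint x x.2⟩ := Subtype.ext (by
      show ψ (x ⊗ₜ 1) = _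
      rw [hψ, map_one, mul_one])
    rw [this]

end Groth.Agent.EssSub
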