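/-
The normalisation of an essentially étale algebra as a base change.
-/
import Mathlib
import Groth.Agent.EssSub.NormGen
import Groth.Agent.EssSub.NoethEssEt

set_option autoImplicit false
set_option linter.style.haveILetI false
universe u

open IsLocalRing Polynomial TensorProduct

namespace Groth.Agent.EssSub

/-- The normalisation of the base inside the total fractions of an algebra. -/
def baseNorm (A E : Type u) [CommRing A] [CommRing E] [Algebra A E] : Subalgebra A (FractionRing E) where
  carrier := {y | IsIntegral A y ∧ ∃ a ∈ nonZeroDivisors A, ∃ b : A,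
      algebraMap A (FractionRing E) a * y = algebraMap A (FractionRing E) b}
  mul_mem' := fun {x y} ⟨hx, a, ha, b, h⟩ ⟨hy, c, hc, d, h'⟩ =>
    ⟨hx.mul hy, a * c, mul_mem ha hc, b * d, by rw [map_mul, map_mul, ← h, ← h']; ring⟩
  add_mem' := fun {x y} ⟨hx, a, ha, b, h⟩ ⟨hy, c, hc, d, h'⟩ =>
    ⟨hx.add hy, a * c, mul_mem ha hc, c * b + a * d, by rw [map_mul, map_add, map_mul, map_mul, ← h, ← h']; ring⟩
  algebraMap_mem' := fun r => ⟨isIntegral_algebraMap, 1, one_mem _, r, by rw [map_one, one_mul]⟩

/-- The base change of a reduced algebra along an essentially étale one is reduced. -/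
theorem isReduced_tensor_essEt {A E R : Type u} [CommRing A] [IsLocalRing A] [CommRing E] [Algebra A E]
    [CommRing R] [Algebra A R] [IsReduced R] (hE : EGA4loc.IsEssentiallyEtale A E) : IsReduced (R ⊗[A] E) := by
  obtain ⟨C, _, _, q, hq, hC, -, ⟨φ⟩⟩ := hE
  haveI := hC
  haveI := SmoothRed.isReduced_of_smooth R (R ⊗[A] C)
  haveI : IsReduced (C ⊗[A] R) :=
    isReduced_of_injective (Algebra.TensorProduct.comm A C R).toRingEquiv (Algebra.TensorProduct.comm A C R).injective
  let L := Localization.AtPrime q
  letI := (Algebra.TensorProduct.map (Algebra.ofId C L) (AlgHom.id A R)).toAlgebra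
  haveI : IsLocalization (Algebra.algebraMapSubmonoid (C ⊗[A] R) q.primeCompl) (L ⊗[A] R) :=
    IsLocalization.tensorProduct_tensorProduct A R q.primeCompl L (by ext x; simp [RingHom.algebraMap_toAlgebra])
  haveI : IsReduced (L ⊗[A] R) := isReduced_of_injective
    (IsLocalization.algEquiv (Algebra.algebraMapSubmonoid (C ⊗[A] R) q.primeCompl) (L ⊗[A] R)
      (Localization (Algebra.algebraMapSubmonoid (C ⊗[A] R) q.primeCompl))).toRingEquiv (AlgEquiv.injective _)
  let e := (Algebra.TensorProduct.congr (AlgEquiv.refl : R ≃ₐ[A] R) φ).trans (Algebra.TensorProduct.comm A R L)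
  exact isReduced_of_injective e.toRingEquiv e.injective

/-- Membership in an extended radical ideal of a base change along an essentially étale algebra. -/
theorem mem_map_of_forall_prime {A E B R : Type u} [CommRing A] [IsLocalRing A] [CommRing E] [Algebra A E]
    [CommRing B] [Algebra A B] [CommRing R] [Algebra A R] [IsReduced R] (hE : EGA4loc.IsEssentiallyEtale A E)
    (q : B →ₐ[A] R) (hq : Function.Surjective q) (w : B ⊗[A] E)
    (h : ∀ P : Ideal (B ⊗[A] E), P.IsPrime →
      (RingHom.ker q).map (Algebra.TensorProduct.includeLeft : B →ₐ[A] B ⊗[A] E) ≤ P → w ∈ P) :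
    w ∈ (RingHom.ker q).map (Algebra.TensorProduct.includeLeft : B →ₐ[A] B ⊗[A] E) := by
  haveI : IsReduced (R ⊗[A] E) := isReduced_tensor_essEt hE
  let π : B ⊗[A] E →ₐ[A] R ⊗[A] E := Algebra.TensorProduct.map q (AlgHom.id A E)
  have hker : RingHom.ker π = (RingHom.ker q).map (Algebra.TensorProduct.includeLeft : B →ₐ[A] B ⊗[A] E) :=
    Algebra.TensorProduct.rTensor_ker q hq
  rw [← hker, RingHom.mem_ker]
  refine IsReduced.eq_zero _ (nilpotent_iff_mem_prime.2 fun Q hQ => ?_)
  haveI := hQ
  refine h (Q.comap π.toRingHom) (Ideal.IsPrime.comap _) fun z hz => ?_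
  rw [← hker, RingHom.mem_ker] at hz
  show π z ∈ Q
  rw [hz]
  exact Q.zero_mem

theorem mem_map_of_isRadical {A E B : Type u} [CommRing A] [IsLocalRing A] [CommRing E] [Algebra A E]
    [CommRing B] [Algebra A B] (hE : EGA4loc.IsEssentiallyEtale A E) (I : Ideal B) (hI : I.IsRadical) (w : B ⊗[A] E)
    (h : ∀ P : Ideal (B ⊗[A] E), P.IsPrime →
      I.map (Algebra.TensorProduct.includeLeft : B →ₐ[A] B ⊗[A] E) ≤ P → w ∈ P) :
    w ∈ I.map (Algebra.TensorProduct.includeLeft : B →ₐ[A] B ⊗[A] E) := by
  haveI : IsReduced (B ⧸ I) := (Ideal.isRadical_iff_quotient_reduced I).1 hI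
  have hmk : RingHom.ker (Ideal.Quotient.mkₐ A I) = I := Ideal.mk_ker
  have haux := mem_map_of_forall_prime hE (Ideal.Quotient.mkₐ A I) Ideal.Quotient.mk_surjective w
  rw [hmk] at haux
  exact haux h

variable {A E : Type u} [CommRing A] [IsLocalRing A] [IsReduced A] [IsNoetherianRing A] [CommRing E] [IsLocalRing E]
  [Algebra A E] [IsLocalHom (algebraMap A E)]

theorem mem_baseNorm {y : FractionRing E} : y ∈ baseNorm A E ↔ IsIntegral A y ∧ ∃ a ∈ nonZeroDivisors A, ∃ b : A,
      algebraMap A (FractionRing E) a * y = algebraMap A (FractionRing E) b := Iff.rfl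

theorem isUnit_base (hE : EGA4loc.IsEssentiallyEtale A E) {a : A} (ha : a ∈ nonZeroDivisors A) :
    IsUnit (algebraMap A (FractionRing E) a) := by
  obtain ⟨i1, i2, -, -⟩ := exists_generic (minimalPrimes.finite_of_isNoetherianRing A) hE
  letI := i1
  haveI := i2
  rw [IsScalarTower.algebraMap_apply A (FractionRing A) (FractionRing E)]
  exact (IsLocalization.map_units (FractionRing A) (⟨a, ha⟩ : nonZeroDivisors A)).map _

/-- The comparison map to the normalisation. -/
noncomputable def normMap (A E : Type u) [CommRing A] [CommRing E] [Algebra A E] :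
    baseNorm A E ⊗[A] E →ₐ[A] FractionRing E :=
  Algebra.TensorProduct.lift (baseNorm A E).val (IsScalarTower.toAlgHom A E (FractionRing E)) fun _ _ => Commute.all _ _

omit [IsLocalRing A] [IsReduced A] [IsNoetherianRing A] [IsLocalRing E] [IsLocalHom (algebraMap A E)] in
theorem normMap_tmul (x : baseNorm A E) (e : E) :
    normMap A E (x ⊗ₜ e) = (x : FractionRing E) * algebraMap E (FractionRing E) e :=
  Algebra.TensorProduct.lift_tmul _ _ _ x e

omit [IsLocalRing A] [IsReduced A] [IsNoetherianRing A] [IsLocalRing E] [IsLocalHom (algebraMap A E)] in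
theorem isIntegral_normMap (z : baseNorm A E ⊗[A] E) : IsIntegral E (normMap A E z) := by
  induction z using TensorProduct.induction_on with
  | zero => rw [map_zero]; exact isIntegral_zero
  | tmul x e => rw [normMap_tmul]; exact x.2.1.tower_top.mul isIntegral_algebraMap
  | add y z hy hz => rw [map_add]; exact hy.add hz

theorem normMap_injective (hE : EGA4loc.IsEssentiallyEtale A E) : Function.Injective (normMap A E) := by
  haveI := flat_of_essEt hE
  have hrep : ∀ z : baseNorm A E ⊗[A] E, ∃ a ∈ nonZeroDivisors A, ∃ e : E,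
      ((algebraMap A (baseNorm A E) a) ⊗ₜ[A] (1 : E)) * z = (1 : baseNorm A E) ⊗ₜ e := by
    intro z
    induction z using TensorProduct.induction_on with
    | zero => exact ⟨1, one_mem _, 0, by rw [mul_zero, tmul_zero]⟩
    | tmul x e =>
      obtain ⟨-, a, ha, b, hab⟩ := x.2
      refine ⟨a, ha, b • e, ?_⟩
      rw [Algebra.TensorProduct.tmul_mul_tmul, one_mul, show algebraMap A (baseNorm A E) a * x = b • (1 : baseNorm A E) from by
        rw [Algebra.smul_def, mul_one]; exact Subtype.ext hab, smul_tmul]
    | add y z hy hz =>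
      obtain ⟨a, ha, e, he⟩ := hy
      obtain ⟨b, hb, e', he'⟩ := hz
      refine ⟨a * b, mul_mem ha hb, b • e + a • e', ?_⟩
      have e1 : ∀ r : A, ∀ x : E, (algebraMap A (baseNorm A E) r ⊗ₜ[A] (1 : E)) * ((1 : baseNorm A E) ⊗ₜ x) = (1 : baseNorm A E) ⊗ₜ (r • x) := fun r x => by
        rw [Algebra.TensorProduct.tmul_mul_tmul, mul_one, one_mul, Algebra.algebraMap_eq_smul_one, smul_tmul]
      rw [show (algebraMap A (baseNorm A E) (a * b)) ⊗ₜ[A] (1 : E) =
        (algebraMap A (baseNorm A E) a ⊗ₜ 1) * (algebraMap A (baseNorm A E) b ⊗ₜ 1) by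
          rw [Algebra.TensorProduct.tmul_mul_tmul, one_mul, map_mul], mul_add, mul_assoc, mul_assoc, he',
        mul_left_comm _ (_ ⊗ₜ _) y, he, e1, e1, tmul_add]
  refine (injective_iff_map_eq_zero _).2 fun z hz => ?_
  obtain ⟨a, ha, e, he⟩ := hrep z
  have hr : IsSMulRegular (baseNorm A E) (algebraMap A (baseNorm A E) a) := fun x y h =>
    Subtype.ext ((isUnit_base hE ha).mul_left_cancel (congrArg (fun w : baseNorm A E => (w : FractionRing E)) h))
  have h1 := congrArg (normMap A E) he
  rw [map_mul, hz, mul_zero, normMap_tmul, OneMemClass.coe_one, one_mul] at h1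
  rw [show e = 0 from IsFractionRing.injective E (FractionRing E) (h1.symm.trans (map_zero _).symm), tmul_zero] at he
  haveI : Module.Flat (baseNorm A E) (baseNorm A E ⊗[A] E) := inferInstance
  refine (hr.of_flat (S := baseNorm A E ⊗[A] E)) ?_
  show algebraMap (baseNorm A E) _ (algebraMap A (baseNorm A E) a) • z = algebraMap (baseNorm A E) _ (algebraMap A (baseNorm A E) a) • (0 : baseNorm A E ⊗[A] E)
  rw [smul_zero, smul_eq_mul, Algebra.TensorProduct.algebraMap_apply]
  exact he

theorem exists_normMap_eq (hE : EGA4loc.IsEssentiallyEtale A E) {x : FractionRing E} (hx : IsIntegral E x) :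
    ∃ z, normMap A E z = x := by
  have h := mem_span_integral (minimalPrimes.finite_of_isNoetherianRing A) hE x hx
  clear hx
  induction h using Submodule.span_induction with
  | mem y hy => exact ⟨(⟨y, hy⟩ : baseNorm A E) ⊗ₜ 1, by rw [normMap_tmul, map_one, mul_one]⟩
  | zero => exact ⟨0, map_zero _⟩
  | add y z _ _ ihy ihz =>
    obtain ⟨v, rfl⟩ := ihy
    obtain ⟨w, rfl⟩ := ihz
    exact ⟨v + w, map_add _ _ _⟩
  | smul e y _ ih =>
    obtain ⟨v, rfl⟩ := ih
    exact ⟨((1 : baseNorm A E) ⊗ₜ e) * v, by rw [map_mul, normMap_tmul, OneMemClass.coe_one, one_mul, Algebra.smul_def]⟩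

/-- The normalisation of the base is finite. -/
theorem finite_baseNorm (hA : EGA4.IsExcellent A) (hE : EGA4loc.IsEssentiallyEtale A E) : Module.Finite A (baseNorm A E) := by
  haveI := isReduced_of_essEt hE
  obtain ⟨i1, i2, hart, hfinK⟩ := exists_generic (minimalPrimes.finite_of_isNoetherianRing A) hE
  letI := i1
  haveI := i2
  haveI := hart
  haveI := hfinK
  let K := FractionRing E
  haveI : IsReduced K := inferInstanceAs (IsReduced (Localization (nonZeroDivisors E)))
  haveI : IsArtinianRing K := IsArtinianRing.of_finite (FractionRing A) K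
  haveI := finite_integralClosure_artinian A K (S2654.result A ⟨hA.1, hA.2.2.1, hA.2.2.2⟩)
  have hle : baseNorm A E ≤ integralClosure A K := fun y hy => hy.1
  exact Module.Finite.of_injective (Subalgebra.inclusion hle).toLinearMap (Subalgebra.inclusion_injective hle)

/-- An element lying in all maximal ideals of the normalisation comes from the radical of the base. -/
theorem exists_mem_map_radical [Module.Finite A (baseNorm A E)] (hE : EGA4loc.IsEssentiallyEtale A E) (x : FractionRing E)
    (hx : IsIntegral E x) (hmem : ∀ M : Ideal (integralClosure E (FractionRing E)), M.IsMaximal →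
      (⟨x, hx⟩ : integralClosure E (FractionRing E)) ∈ M) :
    ∃ w ∈ (Ideal.jacobson (⊥ : Ideal (baseNorm A E))).map
      (Algebra.TensorProduct.includeLeft : baseNorm A E →ₐ[A] baseNorm A E ⊗[A] E), normMap A E w = x := by
  let B := baseNorm A E
  let I := Ideal.jacobson (⊥ : Ideal B)
  let U := B ⊗[A] E
  obtain ⟨w, hw⟩ := exists_normMap_eq hE hx
  refine ⟨w, ?_, hw⟩
  obtain ⟨hu, hft⟩ := Hensel.essEt_unramified hE
  haveI := hu
  haveI := hft
  haveI : Algebra.IsIntegral A B := Algebra.IsIntegral.of_finite A B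
  let J := I.map (Algebra.TensorProduct.includeLeft : B →ₐ[A] U)
  show w ∈ J
  refine mem_map_of_isRadical hE I (Ideal.isRadical_jacobson (⊥ : Ideal B)) w fun P hP hJP => ?_
  haveI := hP
  -- transport to the normalisation
  let T := integralClosure E (FractionRing E)
  let g : U →+* T :=
    { toFun := fun z => ⟨normMap A E z, isIntegral_normMap z⟩
      map_one' := Subtype.ext (map_one (normMap A E))
      map_mul' := fun y z => Subtype.ext (map_mul (normMap A E) y z)
      map_zero' := Subtype.ext (map_zero (normMap A E))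
      map_add' := fun y z => Subtype.ext (map_add (normMap A E) y z) }
  have hg : Function.Bijective g := ⟨fun y z h => normMap_injective hE (congrArg Subtype.val h),
    fun t => (exists_normMap_eq hE t.2).imp fun z hz => Subtype.ext hz⟩
  let e := RingEquiv.ofBijective g hg
  let M : Ideal T := P.comap e.symm.toRingHom
  haveI : M.IsPrime := Ideal.IsPrime.comap _
  have hmax : M.IsMaximal := by
    haveI : Algebra.IsIntegral E T := ⟨fun z => IsIntegralClosure.isIntegral E (FractionRing E) z⟩
    refine Ideal.isMaximal_of_isIntegral_of_isMaximal_comap (R := E) M ?_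
    suffices h : M.comap (algebraMap E T) = maximalIdeal E by rw [h]; infer_instance
    refine le_antisymm (IsLocalRing.le_maximalIdeal (Ideal.comap_ne_top _ (Ideal.IsPrime.ne_top ‹_›))) ?_
    rw [← Algebra.FormallyUnramified.map_maximalIdeal (R := A) (S := E), Ideal.map_le_iff_le_comap]
    intro a ha
    rw [Ideal.mem_comap, Ideal.mem_comap]
    show e.symm (algebraMap E T (algebraMap A E a)) ∈ P
    have h1 : e (algebraMap A B a ⊗ₜ (1 : E)) = algebraMap E T (algebraMap A E a) := Subtype.ext (by
      show normMap A E _ = algebraMap E (FractionRing E) (algebraMap A E a)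
      rw [normMap_tmul, map_one, mul_one, ← IsScalarTower.algebraMap_apply A E (FractionRing E)]
      rfl)
    rw [← h1, RingEquiv.symm_apply_apply]
    refine hJP (Ideal.mem_map_of_mem _ ?_)
    show algebraMap A B a ∈ Ideal.jacobson (⊥ : Ideal B)
    refine Ideal.mem_sInf.2 fun {N} hN => ?_
    haveI := hN.2
    have h2 : N.comap (algebraMap A B) = maximalIdeal A :=
      eq_maximalIdeal (Ideal.isMaximal_comap_of_isIntegral_of_isMaximal N)
    rw [← h2] at ha
    exact ha
  have h3 := hmem M hmax
  have h4 : e w = (⟨x, hx⟩ : T) := Subtype.ext hw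
  rw [← h4] at h3
  have h5 : e.symm (e w) ∈ P := h3
  rw [RingEquiv.symm_apply_apply] at h5
  exact h5

end Groth.Agent.EssSub
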