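/-
The residue criterion: a dominated subalgebra with the residual product has the ambient algebra faithfully flat over it.
-/
import Mathlib
import Groth.Agent.EssSub.NormTensor
import Groth.Agent.EssSub.NormMax
import Groth.Agent.EssSub.UnramNormal

set_option autoImplicit false
set_option linter.style.haveILetI false
set_option maxHeartbeats 800000
universe u

open IsLocalRing Polynomial TensorProduct

namespace Groth.Agent.EssSub

/-- Maximal ideals of an integral base change lie over the maximal ideal. -/
theorem comap_includeRight_of_integral {D D' L : Type u} [CommRing D] [CommRing D'] [CommRing L] [Algebra D D']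
    [Algebra D L] [Algebra.IsIntegral D D'] [IsLocalRing L] (P : Ideal (D' ⊗[D] L)) (hP : P.IsMaximal) :
    P.comap (Algebra.TensorProduct.includeRight : L →ₐ[D] D' ⊗[D] L).toRingHom = maximalIdeal L := by
  letI : Algebra L (D' ⊗[D] L) := Algebra.TensorProduct.rightAlgebra
  haveI : IsScalarTower D L (D' ⊗[D] L) := IsScalarTower.of_algebraMap_eq fun d =>
    (Algebra.TensorProduct.includeRight : L →ₐ[D] D' ⊗[D] L).commutes d |>.symm
  haveI : Algebra.IsIntegral L (D' ⊗[D] L) := ⟨fun z => by
    induction z using TensorProduct.induction_on with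
    | zero => exact isIntegral_zero
    | add y z hy hz => exact hy.add hz
    | tmul x l =>
      have hx : IsIntegral L (x ⊗ₜ[D] (1 : L) : D' ⊗[D] L) :=
        ((Algebra.IsIntegral.isIntegral (R := D) x).map (Algebra.TensorProduct.includeLeft : D' →ₐ[D] D' ⊗[D] L)).tower_top
      rw [show (x ⊗ₜ[D] l : D' ⊗[D] L) = (x ⊗ₜ 1) * ((1 : D') ⊗ₜ l) by rw [Algebra.TensorProduct.tmul_mul_tmul, mul_one, one_mul]]
      exact hx.mul isIntegral_algebraMap⟩
  haveI := hP
  exact eq_maximalIdeal (Ideal.isMaximal_comap_of_isIntegral_of_isMaximal (R := L) P)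

theorem injective_of_faithfullyFlat {W T : Type u} [CommRing W] [CommRing T] [Algebra W T] [Module.FaithfullyFlat W T] :
    Function.Injective (algebraMap W T) := FaithfulSMul.algebraMap_injective W T

variable {A E : Type u} [CommRing A] [IsLocalRing A] [IsReduced A] [CommRing E] [IsLocalRing E] [Algebra A E]
  [IsLocalHom (algebraMap A E)]

/-- The inclusion of the normalisation of a subalgebra. -/
noncomputable def normIncl (D : Subalgebra A E) : normalizationIn D →+* integralClosure E (FractionRing E) where
  toFun x := ⟨(x : FractionRing E), x.2.1.tower_top⟩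
  map_one' := rfl
  map_mul' _ _ := rfl
  map_zero' := rfl
  map_add' _ _ := rfl

omit [IsLocalRing A] [IsReduced A] [IsLocalRing E] [IsLocalHom (algebraMap A E)] in
theorem normIncl_injective (D : Subalgebra A E) : Function.Injective (normIncl D) := fun x y h =>
  Subtype.ext (congrArg (fun z : integralClosure E (FractionRing E) => (z : FractionRing E)) h)

omit [IsLocalRing A] [IsReduced A] [IsLocalRing E] [IsLocalHom (algebraMap A E)] in
theorem baseNorm_le (D : Subalgebra A E) : baseNorm A E ≤ normalizationIn D :=
  fun _ ⟨hy, a, ha, b, h⟩ => ⟨hy.tower_top, a, ha, algebraMap A E b, D.algebraMap_mem b,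
    h.trans (IsScalarTower.algebraMap_apply A E (FractionRing E) b)⟩

omit [IsLocalRing A] [IsReduced A] [IsLocalRing E] [IsLocalHom (algebraMap A E)] in
theorem mem_normalizationIn_of_mem (D : Subalgebra A E) (d : D) :
    algebraMap E (FractionRing E) (d : E) ∈ normalizationIn D :=
  ⟨(isIntegral_algebraMap : IsIntegral D (algebraMap D (FractionRing E) d)), 1, one_mem _, d, d.2, by
    rw [map_one, one_mul]⟩

omit [IsLocalRing A] [IsReduced A] [IsLocalRing E] [IsLocalHom (algebraMap A E)] in
theorem span_le_normalizationIn (D : Subalgebra A E) {x : FractionRing E}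
    (hx : x ∈ Submodule.span D (baseNorm A E : Set (FractionRing E))) : x ∈ normalizationIn D := by
  induction hx using Submodule.span_induction with
  | mem y hy => exact baseNorm_le D hy
  | zero => exact zero_mem _
  | add y z _ _ hy hz => exact add_mem hy hz
  | smul d y _ hy =>
    rw [Algebra.smul_def]
    exact mul_mem (mem_normalizationIn_of_mem D d) hy

omit [IsLocalRing A] [IsReduced A] [IsLocalRing E] [IsLocalHom (algebraMap A E)] in
theorem mul_mem_span_base (D : Subalgebra A E) {b x : FractionRing E} (hb : b ∈ baseNorm A E)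
    (hx : x ∈ Submodule.span D (baseNorm A E : Set (FractionRing E))) :
    b * x ∈ Submodule.span D (baseNorm A E : Set (FractionRing E)) := by
  induction hx using Submodule.span_induction with
  | mem y hy => exact Submodule.subset_span (mul_mem hb hy)
  | zero => rw [mul_zero]; exact zero_mem _
  | add y z _ _ hy hz => rw [mul_add]; exact add_mem hy hz
  | smul d y _ hy => rw [mul_smul_comm]; exact Submodule.smul_mem _ d hy

/-- Primes of the normalisation above the ones of a subalgebra with residual product. -/
theorem exists_max_over [IsNoetherianRing A] (hE : EGA4loc.IsEssentiallyEtale A E)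
    (D : Subalgebra A E) [IsLocalRing D] [IsLocalHom (algebraMap D E)]
    (hres : ∀ x : normalizationIn D, ∃ z : normalizationIn D,
      (z : FractionRing E) ∈ Submodule.span D (baseNorm A E : Set (FractionRing E)) ∧
        x - z ∈ Ideal.jacobson (⊥ : Ideal (normalizationIn D)))
    (N : Ideal (normalizationIn D)) (hN : N.IsMaximal) :
    ∃ M : Ideal (integralClosure E (FractionRing E)), M.IsMaximal ∧ M.comap (normIncl D) = N := by
  classical
  haveI := hN
  obtain ⟨hu, hft⟩ := Hensel.essEt_unramified hE
  haveI := hu
  haveI := hft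
  let K := FractionRing E
  let T := integralClosure E K
  let D' := normalizationIn D
  letI := Ideal.Quotient.field N
  let ι : D →+* D' := ((algebraMap E K).comp (algebraMap D E)).codRestrict D'.toSubsemiring fun d =>
    mem_normalizationIn_of_mem D d
  letI : Algebra D D' := ι.toAlgebra
  haveI : IsScalarTower D D' K := IsScalarTower.of_algebraMap_eq fun d => rfl
  haveI : Algebra.IsIntegral D D' :=
    ⟨fun z => (isIntegral_algHom_iff (IsScalarTower.toAlgHom D D' K) Subtype.val_injective).1 z.2.1⟩
  have hND : N.comap (algebraMap D D') = maximalIdeal D :=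
    eq_maximalIdeal (Ideal.isMaximal_comap_of_isIntegral_of_isMaximal N)
  let Ω := AlgebraicClosure (D' ⧸ N)
  let χ : D' →ₐ[A] Ω := (IsScalarTower.toAlgHom A (D' ⧸ N) Ω).comp (Ideal.Quotient.mkₐ A N)
  haveI := isLocalHom_base D
  let ρ : ResidueField D →+* Ω := Ideal.Quotient.lift (maximalIdeal D) (χ.toRingHom.comp ι) fun d hd => by
    rw [RingHom.comp_apply]
    show algebraMap (D' ⧸ N) Ω (Ideal.Quotient.mk N (ι d)) = 0
    rw [Ideal.Quotient.eq_zero_iff_mem.2 (show ι d ∈ N from (hND ▸ hd : d ∈ N.comap (algebraMap D D'))), map_zero]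
  letI : Algebra (ResidueField D) Ω := ρ.toAlgebra
  haveI : IsScalarTower (ResidueField A) (ResidueField D) (ResidueField E) := IsScalarTower.of_algebraMap_eq fun z => by
    obtain ⟨a, rfl⟩ := residue_surjective z
    rfl
  haveI : Algebra.IsAlgebraic (ResidueField D) (ResidueField E) := by
    haveI : Algebra.IsAlgebraic (ResidueField A) (ResidueField E) := Algebra.IsAlgebraic.of_finite _ _
    exact Algebra.IsAlgebraic.tower_top (K := ResidueField A) (L := ResidueField D)
  let ψ : ResidueField E →ₐ[ResidueField D] Ω := IsAlgClosed.lift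
  let θE : E →ₐ[A] Ω :=
    { ψ.toRingHom.comp (residue E) with
      commutes' := fun a => by
        show ψ (residue E (algebraMap A E a)) = algebraMap A Ω a
        rw [show residue E (algebraMap A E a) = algebraMap (ResidueField D) (ResidueField E) (residue D (algebraMap A D a))
          from rfl, ψ.commutes]
        exact χ.commutes a }
  let θU : baseNorm A E ⊗[A] E →ₐ[A] Ω :=
    Algebra.TensorProduct.lift (χ.comp (Subalgebra.inclusion (baseNorm_le D))) θE fun _ _ => Commute.all _ _
  let g : baseNorm A E ⊗[A] E →+* T :=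
    { toFun := fun z => ⟨normMap A E z, isIntegral_normMap z⟩
      map_one' := Subtype.ext (map_one (normMap A E))
      map_mul' := fun y z => Subtype.ext (map_mul (normMap A E) y z)
      map_zero' := Subtype.ext (map_zero (normMap A E))
      map_add' := fun y z => Subtype.ext (map_add (normMap A E) y z) }
  let e := RingEquiv.ofBijective g ⟨fun y z h => normMap_injective hE (congrArg Subtype.val h),
    fun t => (exists_normMap_eq hE t.2).imp fun z hz => Subtype.ext hz⟩
  let θ : T →+* Ω := θU.toRingHom.comp e.symm.toRingHom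
  have hθ : ∀ z, θ (g z) = θU z := fun z => congrArg θU (e.symm_apply_apply z)
  let M : Ideal T := RingHom.ker θ
  have hMp : M.IsPrime := RingHom.ker_isPrime _
  haveI : Algebra.IsIntegral E T := ⟨fun z => IsIntegralClosure.isIntegral E K z⟩
  have hθE : ∀ x : E, θ (algebraMap E T x) = ψ (residue E x) := fun x => by
    rw [show algebraMap E T x = g ((1 : baseNorm A E) ⊗ₜ x) from Subtype.ext (by
      show algebraMap E K x = normMap A E _
      rw [normMap_tmul, OneMemClass.coe_one, one_mul]), hθ]
    show Algebra.TensorProduct.lift (χ.comp (Subalgebra.inclusion (baseNorm_le D))) θE _ (1 ⊗ₜ x) = _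
    rw [Algebra.TensorProduct.lift_tmul, map_one, one_mul]
    rfl
  have hMm : M.IsMaximal := by
    haveI := hMp
    refine Ideal.isMaximal_of_isIntegral_of_isMaximal_comap (R := E) M ?_
    suffices h : M.comap (algebraMap E T) = maximalIdeal E by rw [h]; infer_instance
    ext x
    rw [Ideal.mem_comap, RingHom.mem_ker, hθE, map_eq_zero_iff ψ (RingHom.injective ψ.toRingHom), residue_eq_zero_iff]
  haveI := hMm
  have hj : ∀ x : D', normIncl D x = ⟨(x : K), x.2.1.tower_top⟩ := fun x => rfl
  let jA : D' →ₐ[A] T :=
    { normIncl D with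
      commutes' := fun a => Subtype.ext (IsScalarTower.algebraMap_apply A E K a) }
  haveI : IsScalarTower A E T :=
    IsScalarTower.of_algebraMap_eq fun a => Subtype.ext (IsScalarTower.algebraMap_apply A E K a)
  have hcm : (M.comap (normIncl D)).IsMaximal := isMaximal_comap_of_residue hE D' T jA M
  have hagree : ∀ y ∈ Submodule.span D (baseNorm A E : Set K), ∃ h : y ∈ D', θ (normIncl D ⟨y, h⟩) = χ ⟨y, h⟩ := by
    intro y hy
    induction hy using Submodule.span_induction with
    | mem b hb =>
      refine ⟨baseNorm_le D hb, ?_⟩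
      rw [show normIncl D ⟨b, baseNorm_le D hb⟩ = g (⟨b, hb⟩ ⊗ₜ 1) from Subtype.ext (by
        show b = normMap A E _
        rw [normMap_tmul, map_one, mul_one]), hθ]
      show Algebra.TensorProduct.lift (χ.comp (Subalgebra.inclusion (baseNorm_le D))) θE _ (_ ⊗ₜ 1) = _
      rw [Algebra.TensorProduct.lift_tmul, map_one, mul_one]
      rfl
    | zero =>
      refine ⟨zero_mem _, ?_⟩
      rw [show (⟨(0 : K), zero_mem _⟩ : D') = 0 from rfl, map_zero, map_zero, map_zero]
    | add y z _ _ hy hz =>
      obtain ⟨h, hy⟩ := hy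
      obtain ⟨h', hz⟩ := hz
      refine ⟨add_mem h h', ?_⟩
      rw [show (⟨y + z, add_mem h h'⟩ : D') = ⟨y, h⟩ + ⟨z, h'⟩ from rfl, map_add, map_add, map_add, hy, hz]
    | smul d y _ hy =>
      obtain ⟨h, hy⟩ := hy
      have h' : d • y ∈ D' := by rw [Algebra.smul_def]; exact mul_mem (mem_normalizationIn_of_mem D d) h
      refine ⟨h', ?_⟩
      rw [show (⟨d • y, h'⟩ : D') = ι d * ⟨y, h⟩ from Subtype.ext (Algebra.smul_def d y), map_mul, map_mul, map_mul, hy]
      congr 1
      rw [show normIncl D (ι d) = algebraMap E T (d : E) from rfl, hθE,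
        show residue E (d : E) = algebraMap (ResidueField D) (ResidueField E) (residue D d) from rfl, ψ.commutes]
      rfl
  refine ⟨M, hMm, ((hN.eq_of_le hcm.ne_top) fun x hx => ?_).symm⟩
  obtain ⟨z, hz, hr⟩ := hres x
  obtain ⟨hz', hθz⟩ := hagree _ hz
  have hrN : x - z ∈ N := Ideal.mem_sInf.1 hr ⟨bot_le, hN⟩
  have hrM : x - z ∈ M.comap (normIncl D) := Ideal.mem_sInf.1 hr ⟨bot_le, hcm⟩
  have hzN : z ∈ N := by simpa using N.sub_mem hx hrN
  have hzM : z ∈ M.comap (normIncl D) := by
    rw [Ideal.mem_comap, RingHom.mem_ker, show z = ⟨(z : K), hz'⟩ from rfl, hθz]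
    show algebraMap (D' ⧸ N) Ω (Ideal.Quotient.mk N z) = 0
    rw [Ideal.Quotient.eq_zero_iff_mem.2 hzN, map_zero]
  simpa using Ideal.add_mem _ hrM hzM

/-- The ambient algebra is flat over the normalisation of the subalgebra. -/
theorem flat_normIncl [IsNoetherianRing A] (hA : EGA4.IsExcellent A) (hE : EGA4loc.IsEssentiallyEtale A E)
    (D : Subalgebra A E) [IsLocalRing D] [IsLocalHom (algebraMap D E)]
    (hres : ∀ x : normalizationIn D, ∃ z : normalizationIn D,
      (z : FractionRing E) ∈ Submodule.span D (baseNorm A E : Set (FractionRing E)) ∧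
        x - z ∈ Ideal.jacobson (⊥ : Ideal (normalizationIn D))) :
    letI := (normIncl D).toAlgebra
    Module.Flat (normalizationIn D) (integralClosure E (FractionRing E)) := by
  classical
  letI := (normIncl D).toAlgebra
  haveI := isReduced_of_essEt hE
  obtain ⟨hu, hft⟩ := Hensel.essEt_unramified hE
  haveI := hft
  haveI : IsNoetherianRing E := Algebra.EssFiniteType.isNoetherianRing A E
  obtain ⟨i1, i2, hart, hfinK⟩ := exists_generic (minimalPrimes.finite_of_isNoetherianRing A) hE
  letI := i1
  haveI := i2
  haveI := hart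
  haveI := hfinK
  let K := FractionRing E
  haveI : IsReduced K := inferInstanceAs (IsReduced (Localization (nonZeroDivisors E)))
  haveI : IsArtinianRing K := IsArtinianRing.of_finite (FractionRing A) K
  haveI : Algebra.IsIntegral (FractionRing A) K := Algebra.IsIntegral.of_finite _ _
  haveI := finite_integralClosure_artinian A K (S2654.result A ⟨hA.1, hA.2.2.1, hA.2.2.2⟩)
  let D' := normalizationIn D
  let T := integralClosure E K
  let C : Subalgebra A K := D' ⊓ integralClosure A K
  haveI : Module.Finite A C :=
    Module.Finite.of_injective (Subalgebra.inclusion (inf_le_right : C ≤ integralClosure A K)).toLinearMap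
      (Subalgebra.inclusion_injective inf_le_right)
  have hcl : ∀ z : K, IsIntegral A z → (∃ a ∈ nonZeroDivisors A, algebraMap A K a * z ∈ C) → z ∈ C := by
    intro z hz ⟨a, ha, haz⟩
    obtain ⟨b, hb, d, hd, hbd⟩ := haz.1.2
    refine ⟨⟨hz.tower_top, b * a, mul_mem hb ha, d, hd, ?_⟩, hz⟩
    rw [map_mul, mul_assoc]
    exact hbd
  have hbase : ∀ y : K, IsIntegral A y → ∀ a ∈ nonZeroDivisors A, ∀ b : A,
      algebraMap A K a * y = algebraMap A K b → y ∈ C := fun y hy a ha b hab =>
    ⟨baseNorm_le D ⟨hy, a, ha, b, hab⟩, hy⟩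
  have hax : ∀ x ∈ D', ∃ a ∈ nonZeroDivisors A, algebraMap A K a * x ∈ C := fun x hx => by
    obtain ⟨m, hm⟩ := IsIntegral.exists_multiple_integral_of_isLocalization (Rₘ := FractionRing A) (nonZeroDivisors A) x
      (Algebra.IsIntegral.isIntegral x)
    refine ⟨m, m.2, mul_mem (D'.algebraMap_mem _) hx, ?_⟩
    rw [← Algebra.smul_def]
    exact hm
  let ρ : C →+* D' := (Subalgebra.inclusion (inf_le_left : C ≤ D')).toRingHom
  letI : Algebra C D' := ρ.toAlgebra
  letI : Algebra C T := ((normIncl D).comp ρ).toAlgebra
  haveI : IsScalarTower C D' T := IsScalarTower.of_algebraMap_eq fun c => rfl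
  haveI : Module.Flat C T := flat_normalization hE C hcl hbase fun c => rfl
  -- maximal ideals of the normalisation of `D` are finitely many
  have hTfin : {M : Ideal T | M.IsMaximal}.Finite := finite_maximal_normalization E
  have hNfin : {N : Ideal D' | N.IsMaximal}.Finite := by
    refine (hTfin.image fun M => M.comap (normIncl D)).subset fun N (hN : N.IsMaximal) => ?_
    obtain ⟨M, hM, h⟩ := exists_max_over hE D hres N hN
    exact ⟨M, hM, h⟩
  haveI : IsLocalization ((IsUnit.submonoid D').comap ρ.toMonoidHom) D' := by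
    refine ⟨fun c => c.2, fun x => ?_, fun {x y} h => ⟨1, ?_⟩⟩
    · let J : Ideal C :=
        { carrier := {u | (u : K) * (x : K) ∈ C}
          add_mem' := fun {a b} ha hb => by
            show ((a : K) + b) * (x : K) ∈ C
            rw [add_mul]; exact add_mem ha hb
          zero_mem' := by show (0 : K) * (x : K) ∈ C; rw [zero_mul]; exact zero_mem _
          smul_mem' := fun c {a} ha => by
            show ((c : K) * a) * (x : K) ∈ C
            rw [mul_assoc]; exact mul_mem c.2 ha }
      have hnot : ¬ ((J : Set C) ⊆ ⋃ N ∈ (hNfin.toFinset : Set (Ideal D')), (N.comap ρ : Set C)) := fun hsub => by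
        obtain ⟨N, hN, hle⟩ := (Ideal.subset_union_prime (s := hNfin.toFinset) (f := fun N => N.comap ρ) ⊥ ⊥
          fun N hN _ _ => by
            haveI := (hNfin.mem_toFinset.1 hN).isPrime
            exact Ideal.IsPrime.comap _).1 hsub
        obtain ⟨M, hM, hMN⟩ := exists_max_over hE D hres N (hNfin.mem_toFinset.1 hN)
        haveI := hM.isPrime
        obtain ⟨u, hu, hux⟩ := exists_mul_mem hE C hcl hbase M x x.2.1.tower_top (hax x x.2)
        refine hu ((u.2.1.1).tower_top) ?_
        have h1 := hle (show u ∈ J from hux)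
        rw [← hMN] at h1
        exact h1
      obtain ⟨u, huJ, hu⟩ := Set.not_subset.1 hnot
      simp only [Set.mem_iUnion, Set.Finite.coe_toFinset, not_exists] at hu
      have huu : IsUnit (ρ u) := by
        by_contra hnu
        obtain ⟨N, hN, huN⟩ := exists_max_ideal_of_mem_nonunits hnu
        exact hu N hN huN
      exact ⟨⟨⟨_, huJ⟩, ⟨u, huu⟩⟩, Subtype.ext (mul_comm _ _)⟩
    · have h' : (x : K) = y := congrArg (fun z : D' => (z : K)) h
      rw [Subtype.ext h']
  haveI : Algebra.EssFiniteType C D' := Algebra.EssFiniteType.of_isLocalization D' ((IsUnit.submonoid D').comap ρ.toMonoidHom)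
  haveI : Algebra.FormallyUnramified C D' :=
    Algebra.FormallyUnramified.of_isLocalization ((IsUnit.submonoid D').comap ρ.toMonoidHom)
  exact UnramLib.flat_of_formallyUnramified C D' T

/-- The residue criterion. -/
theorem faithfullyFlat_of_residue (hA : EGA4.IsExcellent A) (hE : EGA4loc.IsEssentiallyEtale A E)
    (D : Subalgebra A E) [IsLocalRing D] [IsLocalHom (algebraMap D E)]
    (hres : ∀ x : normalizationIn D, ∃ z : normalizationIn D,
      (z : FractionRing E) ∈ Submodule.span D (baseNorm A E : Set (FractionRing E)) ∧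
        x - z ∈ Ideal.jacobson (⊥ : Ideal (normalizationIn D))) :
    Algebra.EssFiniteType A D ∧ Module.FaithfullyFlat D E := by
  classical
  haveI : IsNoetherianRing A := hA.1
  let K := FractionRing E
  let D' := normalizationIn D
  let T := integralClosure E K
  haveI : Algebra.IsIntegral E T := ⟨fun z => IsIntegralClosure.isIntegral E K z⟩
  haveI : IsScalarTower A E T :=
    IsScalarTower.of_algebraMap_eq fun a => Subtype.ext (IsScalarTower.algebraMap_apply A E K a)
  let jA : D' →ₐ[A] T :=
    { normIncl D with commutes' := fun a => Subtype.ext (IsScalarTower.algebraMap_apply A E K a) }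
  obtain ⟨hDft, G, hG⟩ := essFiniteType_of_normalization hA hE D D' (mem_normalizationIn D)
    (fun x hx => hx.1.tower_top) fun N hN => by
      obtain ⟨M, hM, hMN⟩ := exists_max_over hE D hres N hN
      haveI := hM
      refine ⟨M, hM.isPrime, eq_maximalIdeal (Ideal.isMaximal_comap_of_isIntegral_of_isMaximal M), fun z => ?_⟩
      rw [← hMN]
      rfl
  refine ⟨hDft, ?_⟩
  haveI := hDft
  haveI : IsNoetherianRing D := Algebra.EssFiniteType.isNoetherianRing A D
  letI : Algebra D' T := (normIncl D).toAlgebra
  haveI : Module.Flat D' T := flat_normIncl hA hE D hres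
  haveI : Module.FaithfullyFlat D' T := ⟨fun N hN htop => by
    obtain ⟨M, hM, hMN⟩ := exists_max_over hE D hres N hN
    have h1 : (1 : T) ∈ (Ideal.map (algebraMap D' T) N : Ideal T) := by
      have h2 : (1 : T) ∈ N • (⊤ : Submodule D' T) := by rw [htop]; exact Submodule.mem_top
      rw [Ideal.smul_top_eq_map] at h2
      exact h2
    exact hM.ne_top ((Ideal.eq_top_iff_one _).2 (Ideal.map_le_iff_le_comap.2 hMN.ge h1))⟩
  haveI := finite_baseNorm hA hE
  let B := baseNorm A E
  let I := Ideal.jacobson (⊥ : Ideal B)
  let inc : B →ₐ[A] D' := Subalgebra.inclusion (baseNorm_le D)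
  let M₀ := Submodule.span D (B : Set K)
  -- the radical comes from the base
  have hrad : ∀ x : D', x ∈ Ideal.jacobson (⊥ : Ideal D') → x ∈ I.map inc := fun x hx => by
    obtain ⟨w, hw, hwx⟩ := exists_mem_map_radical hE (x : K) x.2.1.tower_top fun M hM => by
      haveI := hM
      exact Ideal.mem_sInf.1 hx ⟨bot_le, isMaximal_comap_of_residue hE D' T jA M⟩
    rw [← Ideal.comap_map_eq_self_of_faithfullyFlat (B := T) (I.map inc), Ideal.mem_comap]
    have hkey : ∀ w ∈ I.map (Algebra.TensorProduct.includeLeft : B →ₐ[A] B ⊗[A] E),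
        (⟨normMap A E w, isIntegral_normMap w⟩ : T) ∈ (I.map inc).map (algebraMap D' T) := by
      intro w hw
      induction hw using Submodule.span_induction with
      | mem y hy =>
        obtain ⟨i, hi, rfl⟩ := hy
        convert Ideal.mem_map_of_mem (algebraMap D' T) (Ideal.mem_map_of_mem inc hi) using 1
        refine Subtype.ext ?_
        show normMap A E (i ⊗ₜ 1) = (i : K)
        rw [normMap_tmul, map_one, mul_one]
      | zero =>
        convert Ideal.zero_mem _ using 1
        exact Subtype.ext (map_zero (normMap A E))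
      | add y z _ _ hy hz =>
        convert Ideal.add_mem _ hy hz using 1
        exact Subtype.ext (map_add (normMap A E) y z)
      | smul c y _ hy =>
        convert Ideal.mul_mem_left _ (⟨normMap A E c, isIntegral_normMap c⟩ : T) hy using 1
        exact Subtype.ext (map_mul (normMap A E) c y)
    have hxw : algebraMap D' T x = (⟨normMap A E w, isIntegral_normMap w⟩ : T) := Subtype.ext hwx.symm
    rw [hxw]
    exact hkey w hw
  -- successive approximation
  have hstep : ∀ n : ℕ, ∀ x : D', ∃ r ∈ (I ^ n).map inc, (x : K) - (r : K) ∈ M₀ := by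
    intro n
    induction n with
    | zero => exact fun x => ⟨x, by rw [pow_zero, Ideal.one_eq_top, Ideal.map_top]; trivial, by rw [sub_self]; exact zero_mem _⟩
    | succ n ih =>
      intro x
      obtain ⟨r, hr, hxr⟩ := ih x
      have key : ∀ r ∈ (I ^ n).map inc, ∀ c : D', ∃ r' ∈ (I ^ (n + 1)).map inc, ((c * r : D') : K) - (r' : K) ∈ M₀ := by
        intro r hr
        induction hr using Submodule.span_induction with
        | mem y hy =>
          obtain ⟨i, hi, rfl⟩ := hy
          intro c
          obtain ⟨z, hz, hr⟩ := hres c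
          refine ⟨inc i * (c - z), ?_, ?_⟩
          · rw [pow_succ, Ideal.map_mul]
            exact Ideal.mul_mem_mul (Ideal.mem_map_of_mem inc hi) (hrad _ hr)
          · show (c : K) * (i : K) - (i : K) * ((c : K) - (z : K)) ∈ M₀
            rw [show (c : K) * (i : K) - (i : K) * ((c : K) - (z : K)) = (i : K) * (z : K) by ring]
            exact mul_mem_span_base D i.2 hz
        | zero => exact fun c => ⟨0, zero_mem _, by rw [mul_zero, sub_self]; exact zero_mem _⟩
        | add y z _ _ hy hz =>
          intro c
          obtain ⟨r1, h1, h1'⟩ := hy c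
          obtain ⟨r2, h2, h2'⟩ := hz c
          refine ⟨r1 + r2, add_mem h1 h2, ?_⟩
          convert add_mem h1' h2' using 1
          rw [mul_add, Subalgebra.coe_add, Subalgebra.coe_add]
          ring
        | smul a y _ hy =>
          intro c
          obtain ⟨r1, h1, h1'⟩ := hy (c * a)
          exact ⟨r1, h1, by rwa [smul_eq_mul, ← mul_assoc]⟩
      obtain ⟨r', hr', hrr⟩ := key r hr 1
      refine ⟨r', hr', ?_⟩
      convert add_mem hxr hrr using 1
      rw [one_mul]
      ring
  haveI : Algebra.IsIntegral A B := Algebra.IsIntegral.of_finite A B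
  haveI : IsNoetherianRing B := IsNoetherianRing.of_finite A B
  obtain ⟨n, hn⟩ := Ideal.exists_pow_le_of_le_radical_of_fg (I := I) (J := (maximalIdeal A).map (algebraMap A B)) (by
      rw [Ideal.radical_eq_sInf]
      refine le_sInf fun P hP => sInf_le ⟨bot_le, ?_⟩
      haveI := hP.2
      refine Ideal.isMaximal_of_isIntegral_of_isMaximal_comap (R := A) P ?_
      rw [le_antisymm (IsLocalRing.le_maximalIdeal (Ideal.comap_ne_top _ hP.2.ne_top))
        (Ideal.map_le_iff_le_comap.1 hP.1)]
      infer_instance) (IsNoetherian.noetherian I)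
  -- the normalisation is spanned by the base
  let N₀ : Submodule D K :=
    { carrier := (D' : Set K)
      add_mem' := fun ha hb => D'.add_mem ha hb
      zero_mem' := D'.zero_mem
      smul_mem' := fun d x hx => by rw [Algebra.smul_def]; exact D'.mul_mem (mem_normalizationIn_of_mem D d) hx }
  have hN₀fg : N₀.FG := by
    have hle : N₀ ≤ Submodule.span D (G : Set K) := fun x hx => hG x hx
    haveI : IsNoetherian D (Submodule.span D (G : Set K)) := isNoetherian_span_of_finite D G.finite_toSet
    have h := (IsNoetherian.noetherian (N₀.comap (Submodule.span D (G : Set K)).subtype)).map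
      (Submodule.span D (G : Set K)).subtype
    rw [Submodule.map_comap_subtype, inf_eq_right.2 hle] at h
    exact h
  have hspan : ∀ x : D', (x : K) ∈ M₀ := by
    have h : N₀ ≤ M₀ := by
      refine Submodule.le_of_le_smul_of_le_jacobson_bot hN₀fg
        (by rw [IsLocalRing.jacobson_eq_maximalIdeal ⊥ bot_ne_top]) fun x hx => ?_
      obtain ⟨r, hr, hxr⟩ := hstep n ⟨x, hx⟩
      have hr' : r ∈ ((maximalIdeal A).map (algebraMap A B)).map inc := Ideal.map_mono hn hr
      rw [show ((maximalIdeal A).map (algebraMap A B)).map inc = ((maximalIdeal A).map (algebraMap A B)).map inc.toRingHom from rfl,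
        Ideal.map_map, AlgHom.toRingHom_eq_coe, AlgHom.comp_algebraMap] at hr'
      have hsm : ∀ r ∈ (maximalIdeal A).map (algebraMap A D'), (r : K) ∈ maximalIdeal D • N₀ := by
        intro r hr
        induction hr using Submodule.span_induction with
        | mem y hy =>
          obtain ⟨a, ha, rfl⟩ := hy
          have haD : algebraMap A D a ∈ maximalIdeal D := by
            haveI := isLocalHom_base D
            exact map_nonunit (algebraMap A D) a ha
          have h1 := Submodule.smul_mem_smul haD (show (1 : K) ∈ N₀ from D'.one_mem)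
          rw [Algebra.smul_def, mul_one, ← IsScalarTower.algebraMap_apply A D K] at h1
          exact h1
        | zero => exact zero_mem _
        | add y z _ _ hy hz => exact add_mem hy hz
        | smul c y _ hy =>
          show (c : K) * (y : K) ∈ _
          refine Submodule.smul_induction_on hy (fun d hd w hw => ?_) fun v w hv hw => ?_
          · rw [Algebra.smul_def, mul_left_comm, ← Algebra.smul_def]
            exact Submodule.smul_mem_smul hd (D'.mul_mem c.2 hw)
          · rw [mul_add]; exact add_mem hv hw
      rw [show x = (x - (r : K)) + (r : K) by ring]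
      exact Submodule.add_mem_sup hxr (hsm r hr')
    exact fun x => h x.2
  -- the comparison with an étale cover
  obtain ⟨hu, hft⟩ := Hensel.essEt_unramified hE
  haveI := hu
  haveI := hft
  haveI : Algebra.EssFiniteType D E := Algebra.EssFiniteType.of_comp A D E
  haveI : Algebra.FormallyUnramified D E := Algebra.FormallyUnramified.of_restrictScalars A D E
  obtain ⟨P, q, hq, ν, -, hν⟩ := exists_etale_cover D E
  haveI := hq
  let L := Localization.AtPrime q
  letI : Algebra A L := ((algebraMap D L).comp (algebraMap A D)).toAlgebra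
  haveI : IsScalarTower A D L := IsScalarTower.of_algebraMap_eq fun a => rfl
  haveI : Module.Flat D L := Module.Flat.trans D P.Ring L
  haveI : Algebra.EssFiniteType P.Ring L := Algebra.EssFiniteType.of_isLocalization L q.primeCompl
  haveI : Algebra.EssFiniteType D L := Algebra.EssFiniteType.comp D P.Ring L
  haveI : Algebra.FormallyUnramified P.Ring L := Algebra.FormallyUnramified.of_isLocalization q.primeCompl
  haveI : Algebra.FormallyUnramified D L := Algebra.FormallyUnramified.comp D P.Ring L
  let ι : D →+* D' := ((algebraMap E K).comp (algebraMap D E)).codRestrict D'.toSubsemiring fun d =>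
    mem_normalizationIn_of_mem D d
  letI : Algebra D D' := ι.toAlgebra
  haveI : IsScalarTower D D' K := IsScalarTower.of_algebraMap_eq fun d => rfl
  haveI : IsScalarTower A D D' := IsScalarTower.of_algebraMap_eq fun a => Subtype.ext (IsScalarTower.algebraMap_apply A E K a)
  haveI : Algebra.IsIntegral D D' :=
    ⟨fun z => (isIntegral_algHom_iff (IsScalarTower.toAlgHom D D' K) Subtype.val_injective).1 z.2.1⟩
  haveI : IsScalarTower D E T := IsScalarTower.of_algebraMap_eq fun d => Subtype.ext rfl
  haveI : IsScalarTower D D' T := IsScalarTower.of_algebraMap_eq fun d => Subtype.ext rfl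
  let W := D' ⊗[D] L
  let χW : W →ₐ[D'] T := Algebra.TensorProduct.lift (Algebra.ofId D' T)
    ((IsScalarTower.toAlgHom D E T).comp ν) fun _ _ => Commute.all _ _
  have hχW : ∀ x l, χW (x ⊗ₜ l) = algebraMap D' T x * algebraMap E T (ν l) := fun x l =>
    Algebra.TensorProduct.lift_tmul _ _ _ x l
  let incW : B ⊗[A] L →ₐ[A] W := Algebra.TensorProduct.lift
    (((Algebra.TensorProduct.includeLeft : D' →ₐ[D] W).restrictScalars A).comp inc)
    ((Algebra.TensorProduct.includeRight : L →ₐ[D] W).restrictScalars A) fun _ _ => Commute.all _ _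
  have hincW : ∀ b l, incW (b ⊗ₜ l) = inc b ⊗ₜ l := fun b l => by
    show Algebra.TensorProduct.lift _ _ _ (b ⊗ₜ l) = _
    rw [Algebra.TensorProduct.lift_tmul]
    show (inc b ⊗ₜ[D] (1 : L)) * ((1 : D') ⊗ₜ[D] l) = _
    rw [Algebra.TensorProduct.tmul_mul_tmul, mul_one, one_mul]
  have hincsurj : Function.Surjective incW := fun z => by
    induction z using TensorProduct.induction_on with
    | zero => exact ⟨0, map_zero _⟩
    | add y z hy hz =>
      obtain ⟨v, rfl⟩ := hy
      obtain ⟨w, rfl⟩ := hz
      exact ⟨v + w, map_add _ _ _⟩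
    | tmul x l =>
      have key : ∀ y ∈ M₀, ∀ hy : y ∈ D', ∀ l : L, ∃ v, incW v = (⟨y, hy⟩ : D') ⊗ₜ l := by
        intro y hy
        induction hy using Submodule.span_induction with
        | mem b hb => exact fun _ l => ⟨(⟨b, hb⟩ : B) ⊗ₜ l, hincW _ l⟩
        | zero => exact fun _ l => ⟨0, by rw [map_zero, show (⟨(0 : K), _⟩ : D') = 0 from rfl, zero_tmul]⟩
        | add y z hy hz ihy ihz =>
          intro h l
          obtain ⟨v, hv⟩ := ihy (span_le_normalizationIn D hy) l
          obtain ⟨w, hw⟩ := ihz (span_le_normalizationIn D hz) l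
          exact ⟨v + w, by rw [map_add, hv, hw, ← add_tmul]; rfl⟩
        | smul d y hy ihy =>
          intro h l
          obtain ⟨v, hv⟩ := ihy (span_le_normalizationIn D hy) (d • l)
          refine ⟨v, hv.trans ?_⟩
          rw [← smul_tmul, show (⟨d • y, h⟩ : D') = d • (⟨y, span_le_normalizationIn D hy⟩ : D') from Subtype.ext (by
            show d • y = ((algebraMap D D' d * ⟨y, _⟩ : D') : K)
            exact Algebra.smul_def d y)]
      exact key _ (hspan x) x.2 l
  have hχsurj : Function.Surjective χW := fun t => by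
    obtain ⟨u, hu⟩ := exists_normMap_eq hE t.2
    suffices h : ∀ u : B ⊗[A] E, ∃ w : W, ((χW w : T) : K) = normMap A E u by
      obtain ⟨w, hw⟩ := h u
      exact ⟨w, Subtype.ext (hw.trans hu)⟩
    intro u
    induction u using TensorProduct.induction_on with
    | zero => exact ⟨0, by rw [map_zero, map_zero]; rfl⟩
    | tmul b x =>
      obtain ⟨l, rfl⟩ := hν x
      refine ⟨inc b ⊗ₜ l, ?_⟩
      rw [hχW, normMap_tmul]
      rfl
    | add y z hy hz =>
      obtain ⟨v, hv⟩ := hy
      obtain ⟨w, hw⟩ := hz
      exact ⟨v + w, by rw [map_add, map_add, Subalgebra.coe_add, hv, hw]⟩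
  letI : Algebra W T := χW.toRingHom.toAlgebra
  haveI : IsScalarTower D' W T := IsScalarTower.of_algebraMap_eq fun x => (χW.commutes x).symm
  haveI : Module.Flat W T := UnramLib.flat_of_formallyUnramified D' W T
  have hJ : ∀ z : W, χW z = 0 → ∀ P : Ideal W, P.IsMaximal → z ∈ P := fun z hz Pm hPm => by
    obtain ⟨w, rfl⟩ := hincsurj z
    let νA : L →ₐ[A] E := ν.restrictScalars A
    let π : B ⊗[A] L →ₐ[A] B ⊗[A] E := Algebra.TensorProduct.map (AlgHom.id A B) νA
    have hπ : ∀ w, ((χW (incW w) : T) : K) = normMap A E (π w) := fun w => by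
      induction w using TensorProduct.induction_on with
      | zero => rw [map_zero, map_zero, map_zero, map_zero]; rfl
      | tmul b l => rw [hincW, hχW, Algebra.TensorProduct.map_tmul, normMap_tmul]; rfl
      | add y z hy hz => rw [map_add, map_add, map_add, map_add, Subalgebra.coe_add, hy, hz]
    have h0 : π w = 0 := normMap_injective hE (by rw [← hπ, hz, map_zero]; rfl)
    have h1 : w ∈ (RingHom.ker νA).map (Algebra.TensorProduct.includeRight : L →ₐ[A] B ⊗[A] L) := by
      rw [← Algebra.TensorProduct.lTensor_ker νA hν, RingHom.mem_ker]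
      exact h0
    have h2 := Ideal.mem_map_of_mem incW.toRingHom h1
    haveI := hPm
    have hPL := comap_includeRight_of_integral (D := D) (D' := D') (L := L) Pm hPm
    have h3 : ((RingHom.ker νA).map (Algebra.TensorProduct.includeRight : L →ₐ[A] B ⊗[A] L)).map incW.toRingHom ≤ Pm := by
      rw [Ideal.map_le_iff_le_comap, Ideal.map_le_iff_le_comap]
      intro l hl
      have hlm : l ∈ maximalIdeal L := IsLocalRing.le_maximalIdeal (RingHom.ker_ne_top νA.toRingHom) hl
      rw [← hPL, Ideal.mem_comap] at hlm
      replace hlm : ((1 : D') ⊗ₜ[D] l : W) ∈ Pm := hlm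
      rw [Ideal.mem_comap, Ideal.mem_comap]
      show incW ((1 : B) ⊗ₜ l) ∈ Pm
      rw [hincW, map_one]
      exact hlm
    exact h3 h2
  haveI : Module.FaithfullyFlat W T := ⟨fun Pm hPm htop => by
    have h2 : (1 : T) ∈ Pm • (⊤ : Submodule W T) := by rw [htop]; exact Submodule.mem_top
    rw [Ideal.smul_top_eq_map] at h2
    obtain ⟨z, hz, hz1⟩ := (Ideal.mem_map_iff_of_surjective (algebraMap W T) hχsurj).1 h2
    have h3 := hJ (1 - z) (by
      show algebraMap W T (1 - z) = 0
      rw [map_sub, hz1, map_one, sub_self]) Pm hPm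
    exact hPm.ne_top ((Ideal.eq_top_iff_one _).2 (by simpa using Pm.add_mem h3 hz))⟩
  have hνinj : Function.Injective ν := (injective_iff_map_eq_zero _).2 fun l hl => by
    have h1 : algebraMap W T ((1 : D') ⊗ₜ l) = 0 := by
      show χW ((1 : D') ⊗ₜ l) = 0
      rw [hχW, hl, map_zero, mul_zero]
    have hW : Function.Injective (algebraMap W T) := injective_of_faithfullyFlat (W := W) (T := T)
    have h2 : ((1 : D') ⊗ₜ l : W) = 0 := hW (h1.trans (map_zero _).symm)
    refine Algebra.TensorProduct.includeRight_injective (R := D) (A := D') ?_ (h2.trans (map_zero _).symm)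
    intro d d' h
    exact Subtype.ext (IsFractionRing.injective E K (congrArg (fun z : D' => (z : K)) h))
  haveI : Module.Flat D E := Module.Flat.of_linearEquiv (AlgEquiv.ofBijective ν ⟨hνinj, hν⟩).symm.toLinearEquiv
  exact Module.FaithfullyFlat.of_flat_of_isLocalHom

end Groth.Agent.EssSub
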