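/-
Normalisations inside the total fractions of a strict henselization.
-/
import Mathlib
import Groth.Agent.EssSub.ResidueCrit

set_option autoImplicit false
set_option linter.style.haveILetI false
set_option maxHeartbeats 800000
universe u

open IsLocalRing Polynomial TensorProduct

namespace Groth.Agent.EssSub

variable {A S : Type u} [CommRing A] [IsLocalRing A] [CommRing S] [IsLocalRing S] [Algebra A S]
  [IsLocalHom (algebraMap A S)] [hS : _root_.Hensel.IsStrictHenselization A S]

include hS in
/-- The total fractions of a dominated essentially étale subalgebra inside those of the strict henselization. -/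
theorem exists_fracIncl (E : Subalgebra A S) [IsLocalRing E] [IsLocalHom (algebraMap E S)]
    (hE : EGA4loc.IsEssentiallyEtale A E) :
    ∃ φ : FractionRing E →ₐ[A] FractionRing S, Function.Injective φ ∧
      (∀ e : E, φ (algebraMap E (FractionRing E) e) = algebraMap S (FractionRing S) (e : S)) := by
  obtain ⟨hu, hft⟩ := Hensel.essEt_unramified hE
  haveI := flat_over (A := A) (S := S) E
  have hreg : ∀ e : nonZeroDivisors E, IsUnit (algebraMap S (FractionRing S) ((e : E) : S)) := fun e => by
    refine IsLocalization.map_units (FractionRing S) (⟨((e : E) : S), ?_⟩ : nonZeroDivisors S)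
    have h1 : IsSMulRegular E (e : E) := fun y z h => by
      have h2 : (y - z) * (e : E) = 0 := by
        simp only [smul_eq_mul] at h
        linear_combination h
      exact sub_eq_zero.1 (mem_nonZeroDivisors_iff_right.1 e.2 _ h2)
    have h3 := h1.of_flat (S := S)
    refine mem_nonZeroDivisors_iff_right.2 fun x hx => h3 ?_
    show algebraMap E S (e : E) • x = algebraMap E S (e : E) • (0 : S)
    rw [smul_zero, smul_eq_mul, mul_comm]
    exact hx
  let f : E →ₐ[A] FractionRing S := (IsScalarTower.toAlgHom A S (FractionRing S)).comp E.val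
  let φ : FractionRing E →ₐ[A] FractionRing S := IsLocalization.liftAlgHom (M := nonZeroDivisors E) (f := f) hreg
  have hφ : ∀ e : E, φ (algebraMap E (FractionRing E) e) = algebraMap S (FractionRing S) (e : S) := fun e =>
    IsLocalization.lift_eq _ e
  refine ⟨φ, (injective_iff_map_eq_zero _).2 fun r hr => ?_, hφ⟩
  obtain ⟨c, d, rfl⟩ := IsLocalization.exists_mk'_eq (nonZeroDivisors E) r
  have h5 := congrArg φ (IsLocalization.mk'_spec (FractionRing E) c d)
  rw [map_mul, hr, zero_mul, hφ] at h5
  rw [show c = 0 from Subtype.ext (IsFractionRing.injective S (FractionRing S) (h5.symm.trans (map_zero _).symm)),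
    IsLocalization.mk'_zero]

variable [IsReduced A] [IsNoetherianRing A]

omit [IsLocalRing A] [IsLocalRing S] [IsLocalHom (algebraMap A S)] hS in
/-- Membership of the normalised base transfers. -/
theorem baseNorm_iff {E : Subalgebra A S} (φ : FractionRing E →ₐ[A] FractionRing S) (hφ : Function.Injective φ)
    (A' : Subalgebra A (FractionRing S))
    (hA' : ∀ x : (FractionRing S), x ∈ A' ↔ (IsIntegral A x ∧
      ∃ a ∈ nonZeroDivisors A, ∃ b : A, algebraMap A (FractionRing S) a * x = algebraMap A (FractionRing S) b))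
    (y : FractionRing E) : y ∈ baseNorm A E ↔ φ y ∈ A' := by
  rw [hA', isIntegral_algHom_iff φ hφ]
  refine and_congr Iff.rfl ⟨fun ⟨a, ha, b, h⟩ => ⟨a, ha, b, ?_⟩, fun ⟨a, ha, b, h⟩ => ⟨a, ha, b, hφ ?_⟩⟩
  · rw [← φ.commutes a, ← φ.commutes b, ← map_mul, h]
  · rw [map_mul, φ.commutes, φ.commutes, h]

include hS in
/-- Elements with denominators from the base and numerators in the subalgebra come from its total fractions. -/
theorem exists_preimage {E : Subalgebra A S} [IsLocalRing E] [IsLocalHom (algebraMap A E)] (hE : EGA4loc.IsEssentiallyEtale A E)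
    (φ : FractionRing E →ₐ[A] FractionRing S)
    (hφe : ∀ e : E, φ (algebraMap E (FractionRing E) e) = algebraMap S (FractionRing S) (e : S))
    {x : FractionRing S} {a : A} (ha : a ∈ nonZeroDivisors A) {e : S} (he : e ∈ E)
    (h : algebraMap A (FractionRing S) a * x = algebraMap S (FractionRing S) e) :
    ∃ y : FractionRing E, φ y = x ∧ algebraMap A (FractionRing E) a * y = algebraMap E (FractionRing E) ⟨e, he⟩ := by
  obtain ⟨w, hw⟩ := (isUnit_base hE ha).exists_left_inv
  refine ⟨w * algebraMap E (FractionRing E) ⟨e, he⟩, ?_, by rw [← mul_assoc, mul_comm _ w, hw, one_mul]⟩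
  have h1 : φ w * algebraMap A (FractionRing S) a = 1 := by rw [← φ.commutes a, ← map_mul, hw, map_one]
  rw [map_mul, hφe]
  show φ w * algebraMap S (FractionRing S) e = x
  rw [← h, ← mul_assoc, h1, one_mul]

omit [IsLocalRing A] [IsLocalHom (algebraMap A S)] hS [IsReduced A] [IsNoetherianRing A] in
/-- Integrality transfers along the comparison. -/
theorem isIntegral_transfer {E D : Subalgebra A S} (hle : D ≤ E) (φ : FractionRing E →ₐ[A] FractionRing S)
    (hφ : Function.Injective φ) (hφe : ∀ e : E, φ (algebraMap E (FractionRing E) e) = algebraMap S (FractionRing S) (e : S))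
    (y : FractionRing E) : IsIntegral (D.comap E.val) y ↔ IsIntegral D (φ y) := by
  let e : (D.comap E.val) →+* D := ((E.val.comp (D.comap E.val).val).codRestrict D fun x => x.2).toRingHom
  have hesurj : Function.Surjective e := fun d => ⟨⟨⟨d, hle d.2⟩, d.2⟩, rfl⟩
  have hcomm : (algebraMap D (FractionRing S)).comp e = φ.toRingHom.comp (algebraMap (D.comap E.val) (FractionRing E)) :=
    RingHom.ext fun x => (hφe (x : E)).symm
  constructor
  · rintro ⟨p, hp, hpy⟩
    refine ⟨p.map e, hp.map _, ?_⟩
    rw [eval₂_map, hcomm]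
    show eval₂ _ (φ.toRingHom y) p = 0
    rw [← hom_eval₂, hpy, map_zero]
  · rintro ⟨p, hp, hpy⟩
    obtain ⟨q, hq, -, hqm⟩ := lifts_and_degree_eq_and_monic ((lifts_iff_coeff_lifts _).2 fun n => hesurj (p.coeff n)) hp
    refine ⟨q, hqm, hφ ?_⟩
    rw [map_zero]
    show φ.toRingHom (eval₂ _ y q) = 0
    rw [hom_eval₂, ← hcomm, ← eval₂_map, hq]
    exact hpy

include hS in
/-- The residue criterion for subalgebras of the strict henselization. -/
theorem essEt_of_residue (hA : EGA4.IsExcellent A) (D : Subalgebra A S) [IsLocalRing D] [IsLocalHom (algebraMap D S)]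
    (t : Finset (FractionRing D)) (ht : ∀ x : FractionRing D, ∃ a ∈ nonZeroDivisors A,
      algebraMap A (FractionRing D) a * x ∈ Algebra.adjoin A (t : Set (FractionRing D)))
    (A' D' : Subalgebra A (FractionRing S))
    (hA' : ∀ x : (FractionRing S), x ∈ A' ↔ (IsIntegral A x ∧
      ∃ a ∈ nonZeroDivisors A, ∃ b : A, algebraMap A (FractionRing S) a * x = algebraMap A (FractionRing S) b))
    (hD' : ∀ x : (FractionRing S), x ∈ D' ↔ (IsIntegral D x ∧
      ∃ a ∈ nonZeroDivisors A, ∃ d ∈ D, algebraMap A (FractionRing S) a * x = algebraMap S (FractionRing S) d))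
    (hres : ∀ x : D', ∃ z : D', (z : FractionRing S) ∈ Submodule.span D (A' : Set (FractionRing S)) ∧
      x - z ∈ Ideal.jacobson (⊥ : Ideal D')) :
    EGA4loc.IsEssentiallyEtale A D := by
  classical
  obtain ⟨E, hle, hEl, hEh, hEe⟩ := exists_le_of_fg (minimalPrimes.finite_of_isNoetherianRing A) D t ht
  haveI := hEl
  haveI := hEh
  haveI := isLocalHom_base E
  obtain ⟨φ, hφ, hφe⟩ := exists_fracIncl E hEe
  let D₀ := D.comap E.val
  let e : D₀ ≃ₐ[A] D :=
    AlgEquiv.ofBijective ((E.val.comp D₀.val).codRestrict D fun x => x.2)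
      ⟨fun x y h => Subtype.ext (Subtype.ext (congrArg (fun z : D => (z : S)) h)), fun d => ⟨⟨⟨d, hle d.2⟩, d.2⟩, rfl⟩⟩
  haveI : IsLocalRing D₀ := e.symm.toRingEquiv.isLocalRing
  haveI : IsLocalHom (algebraMap D₀ E) := ⟨fun x hx => by
    have h1 : IsUnit (algebraMap D S (e x)) := (hx.map (algebraMap E S) : _)
    exact (MulEquiv.isUnit_map e.toMulEquiv).1 (isUnit_of_map_unit (algebraMap D S) (e x) h1)⟩
  have hN : ∀ y : FractionRing E, y ∈ normalizationIn D₀ ↔ φ y ∈ D' := fun y => by
    rw [hD', mem_normalizationIn, isIntegral_transfer hle φ hφ hφe]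
    refine and_congr Iff.rfl ⟨fun ⟨a, ha, d, hd, h⟩ => ⟨a, ha, (d : S), hd, ?_⟩, fun ⟨a, ha, d, hd, h⟩ =>
      ⟨a, ha, ⟨d, hle hd⟩, hd, hφ ?_⟩⟩
    · rw [← φ.commutes a, ← map_mul, h, hφe]
    · rw [map_mul, φ.commutes, h, hφe]
  let ε : normalizationIn D₀ →ₐ[A] D' := (φ.comp (normalizationIn D₀).val).codRestrict D' fun y => (hN y).1 y.2
  have hε : Function.Bijective ε := ⟨fun x y h => Subtype.ext (hφ (congrArg (fun z : D' => (z : FractionRing S)) h)), fun x => by
    obtain ⟨a, ha, d, hd, h⟩ := ((hD' _).1 x.2).2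
    obtain ⟨y, hy, -⟩ := exists_preimage hEe φ hφe ha (hle hd) h
    exact ⟨⟨y, (hN y).2 (hy ▸ x.2)⟩, Subtype.ext hy⟩⟩
  obtain ⟨hft, hff⟩ := faithfullyFlat_of_residue hA hEe D₀ fun x => by
    obtain ⟨z, hz, hxz⟩ := hres (ε x)
    obtain ⟨y, rfl⟩ := hε.2 z
    refine ⟨y, ?_, Ideal.mem_jacobson_bot.2 fun w => ?_⟩
    · have hspan : ∀ v ∈ Submodule.span D (A' : Set (FractionRing S)),
          ∃ u ∈ Submodule.span D₀ (baseNorm A E : Set (FractionRing E)), φ u = v := by
        intro v hv
        induction hv using Submodule.span_induction with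
        | mem b hb =>
          obtain ⟨a, ha, b', hb'⟩ := ((hA' _).1 hb).2
          obtain ⟨u, hu, -⟩ := exists_preimage hEe φ hφe (e := algebraMap A S b') ha (E.algebraMap_mem b')
            (hb'.trans (IsScalarTower.algebraMap_apply A S (FractionRing S) b'))
          exact ⟨u, Submodule.subset_span ((baseNorm_iff φ hφ A' hA' u).2 (hu.symm ▸ hb)), hu⟩
        | zero => exact ⟨0, zero_mem _, map_zero _⟩
        | add v w _ _ hv hw =>
          obtain ⟨u, hu, rfl⟩ := hv
          obtain ⟨u', hu', rfl⟩ := hw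
          exact ⟨u + u', add_mem hu hu', map_add _ _ _⟩
        | smul d v _ hv =>
          obtain ⟨u, hu, rfl⟩ := hv
          refine ⟨(⟨⟨d, hle d.2⟩, d.2⟩ : D₀) • u, Submodule.smul_mem _ _ hu, ?_⟩
          rw [Algebra.smul_def, Algebra.smul_def, map_mul]
          congr 1
          exact hφe ⟨d, hle d.2⟩
      obtain ⟨u, hu, hu'⟩ := hspan _ hz
      rwa [← show u = (y : FractionRing E) from hφ hu']
    · have h := (Ideal.mem_jacobson_bot.1 hxz (ε w))
      rw [← map_sub, ← map_mul, ← map_one ε, ← map_add] at h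
      obtain ⟨v, hv⟩ := h.exists_right_inv
      obtain ⟨v, rfl⟩ := hε.2 v
      exact isUnit_iff_exists_inv.2 ⟨v, hε.1 (by rw [map_mul, hv, map_one])⟩
  haveI := hft
  haveI := hff
  haveI : Algebra.EssFiniteType A D := (Algebra.EssFiniteType.iff_of_algEquiv e).1 hft
  obtain ⟨hu, -⟩ := Hensel.essEt_unramified hEe
  haveI := hu
  haveI := (Hensel.essEt_unramified hEe).2
  haveI := isLocalHom_base D
  have hm : (maximalIdeal A).map (algebraMap A D) = maximalIdeal D := by
    have hm0 : (maximalIdeal A).map (algebraMap A D₀) = maximalIdeal D₀ := by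
      refine le_antisymm ?_ fun d hd => ?_
      · haveI : IsLocalHom (algebraMap A D₀) := isLocalHom_base (S := E) D₀
        exact ((local_hom_TFAE (algebraMap A D₀)).out 0 2).1 ‹IsLocalHom (algebraMap A D₀)›
      · have h1 : algebraMap D₀ E d ∈ maximalIdeal E := map_nonunit (algebraMap D₀ E) d hd
        rw [← Algebra.FormallyUnramified.map_maximalIdeal (R := A) (S := E), IsScalarTower.algebraMap_eq A D₀ E,
          ← Ideal.map_map, ← Ideal.mem_comap, Ideal.comap_map_eq_self_of_faithfullyFlat] at h1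
        exact h1
    rw [show algebraMap A D = e.toAlgHom.toRingHom.comp (algebraMap A D₀) from e.toAlgHom.comp_algebraMap.symm,
      ← Ideal.map_map, hm0]
    exact IsLocalRing.eq_maximalIdeal (Ideal.map_isMaximal_of_equiv (e := e.toRingEquiv))
  haveI := unramified_of_max D hm
  exact essEt_of_unramified D

include hS in
/-- The normalisation of a dominated essentially étale subalgebra has the residual product. -/
theorem residue_of_essEt (hA : EGA4.IsExcellent A) (D : Subalgebra A S) [IsLocalRing D] [IsLocalHom (algebraMap D S)]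
    (hE : EGA4loc.IsEssentiallyEtale A D) (A' D' : Subalgebra A (FractionRing S))
    (hA' : ∀ x : (FractionRing S), x ∈ A' ↔ (IsIntegral A x ∧
      ∃ a ∈ nonZeroDivisors A, ∃ b : A, algebraMap A (FractionRing S) a * x = algebraMap A (FractionRing S) b))
    (hD' : ∀ x : (FractionRing S), x ∈ D' ↔ (IsIntegral D x ∧
      ∃ a ∈ nonZeroDivisors A, ∃ d ∈ D, algebraMap A (FractionRing S) a * x = algebraMap S (FractionRing S) d))
    (π : A' ⊗[A] D →ₐ[A] D')
    (hπ : ∀ a d, (π (a ⊗ₜ d) : FractionRing S) = (a : FractionRing S) * algebraMap S (FractionRing S) (d : S)) :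
    {N : Ideal D' | N.IsMaximal}.Finite ∧ Function.Surjective π ∧
      ∀ z, π z ∈ Ideal.jacobson (⊥ : Ideal D') ↔
        z ∈ (Ideal.jacobson (⊥ : Ideal A')).map (Algebra.TensorProduct.includeLeft : A' →ₐ[A] A' ⊗[A] D) ⊔
          (maximalIdeal D).map (Algebra.TensorProduct.includeRight : D →ₐ[A] A' ⊗[A] D) := by
  classical
  haveI := isLocalHom_base D
  haveI := isReduced_of_essEt hE
  obtain ⟨hu, hft⟩ := Hensel.essEt_unramified hE
  haveI := hu
  haveI := hft
  haveI : IsNoetherianRing D := Algebra.EssFiniteType.isNoetherianRing A D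
  obtain ⟨φ, hφ, hφe⟩ := exists_fracIncl D hE
  let K := FractionRing D
  let T := integralClosure D K
  haveI : Algebra.IsIntegral D T := ⟨fun z => IsIntegralClosure.isIntegral D K z⟩
  have hloc := (S16448.result A D (minimalPrimes.finite_of_isNoetherianRing A) hE).1
  let φD : K →ₐ[D] FractionRing S :=
    { φ.toRingHom with commutes' := fun d => hφe d }
  have hT : ∀ y : K, IsIntegral D y ↔ φ y ∈ D' := fun y => by
    rw [hD']
    refine ⟨fun hy => ⟨hy.map φD, ?_⟩, fun h => (isIntegral_algHom_iff φD hφ).1 h.1⟩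
    obtain ⟨⟨e, ⟨_, a, ha, rfl⟩⟩, hea⟩ := IsLocalization.surj ((nonZeroDivisors A).map (algebraMap A D)) y
    refine ⟨a, ha, (e : S), e.2, ?_⟩
    rw [← φ.commutes a, ← map_mul, ← hφe, ← hea, mul_comm, IsScalarTower.algebraMap_apply A D K]
  let ε0 : T →+* D' :=
    { toFun := fun y => ⟨φ (y : K), (hT _).1 y.2⟩
      map_one' := Subtype.ext (map_one φ)
      map_mul' := fun y z => Subtype.ext (map_mul φ (y : K) z)
      map_zero' := Subtype.ext (map_zero φ)
      map_add' := fun y z => Subtype.ext (map_add φ (y : K) z) }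
  have hεb : Function.Bijective ε0 :=
    ⟨fun y z h => Subtype.ext (hφ (congrArg (fun w : D' => (w : FractionRing S)) h)), fun x => by
      obtain ⟨a, ha, d, hd, h⟩ := ((hD' _).1 x.2).2
      obtain ⟨y, hy, -⟩ := exists_preimage hE φ hφe ha hd h
      exact ⟨⟨y, (hT y).2 (hy ▸ x.2)⟩, Subtype.ext hy⟩⟩
  let α : baseNorm A D →ₐ[A] A' :=
    (φ.comp (baseNorm A D).val).codRestrict A' fun y => (baseNorm_iff φ hφ A' hA' y).1 y.2
  have hα : Function.Bijective α :=
    ⟨fun y z h => Subtype.ext (hφ (congrArg (fun w : A' => (w : FractionRing S)) h)), fun x => by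
      obtain ⟨a, ha, b, h⟩ := ((hA' _).1 x.2).2
      obtain ⟨y, hy, -⟩ := exists_preimage hE φ hφe (e := algebraMap A S b) ha (D.algebraMap_mem b)
        (h.trans (IsScalarTower.algebraMap_apply A S (FractionRing S) b))
      exact ⟨⟨y, (baseNorm_iff φ hφ A' hA' y).2 (hy.symm ▸ x.2)⟩, Subtype.ext hy⟩⟩
  let αe := AlgEquiv.ofBijective α hα
  let ν : baseNorm A D ⊗[A] D →ₐ[A] A' ⊗[A] D := Algebra.TensorProduct.map αe.toAlgHom (AlgHom.id A D)
  have hν : Function.Bijective ν := (Algebra.TensorProduct.congr αe AlgEquiv.refl).bijective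
  have hπν : ∀ u, (π (ν u) : FractionRing S) = φ (normMap A D u) := fun u => by
    induction u using TensorProduct.induction_on with
    | zero => rw [map_zero, map_zero, map_zero, map_zero]; rfl
    | tmul b d =>
      rw [Algebra.TensorProduct.map_tmul, hπ, normMap_tmul, map_mul, hφe]
      rfl
    | add y z hy hz => rw [map_add, map_add, Subalgebra.coe_add, hy, hz, map_add, map_add]
  refine ⟨?_, fun x => ?_, fun z => ⟨fun hz => ?_, fun hz => ?_⟩⟩
  · refine ((finite_maximal_normalization D).image fun M => M.comap (RingEquiv.ofBijective ε0 hεb).symm.toRingHom).subset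
      fun N (hN : N.IsMaximal) => ⟨N.comap ε0, Ideal.comap_isMaximal_of_surjective ε0 hεb.2, ?_⟩
    ext x
    rw [Ideal.mem_comap, Ideal.mem_comap]
    show ε0 ((RingEquiv.ofBijective ε0 hεb).symm x) ∈ N ↔ x ∈ N
    rw [show ε0 ((RingEquiv.ofBijective ε0 hεb).symm x) = x from (RingEquiv.ofBijective ε0 hεb).apply_symm_apply x]
  · obtain ⟨y, rfl⟩ := hεb.2 x
    obtain ⟨u, hu⟩ := exists_normMap_eq hE y.2
    exact ⟨ν u, Subtype.ext ((hπν u).trans (congrArg φ hu))⟩
  · obtain ⟨u, rfl⟩ := hν.2 z
    haveI := finite_baseNorm hA hE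
    obtain ⟨w, hw, hwu⟩ := exists_mem_map_radical hE (normMap A D u) (isIntegral_normMap u) fun M hM => by
      haveI := hM
      have hN : (M.comap (RingEquiv.ofBijective ε0 hεb).symm.toRingHom).IsMaximal :=
        Ideal.comap_isMaximal_of_surjective _ (RingEquiv.ofBijective ε0 hεb).symm.surjective
      have h1 := Ideal.mem_sInf.1 hz ⟨bot_le, hN⟩
      rw [Ideal.mem_comap] at h1
      convert h1 using 1
      refine ((RingEquiv.ofBijective ε0 hεb).symm_apply_eq.2 ?_).symm
      exact Subtype.ext (hπν u)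
    rw [show u = w from normMap_injective hE hwu.symm]
    refine Ideal.mem_sup_left ?_
    have h2 := Ideal.mem_map_of_mem ν hw
    rw [show (Ideal.jacobson (⊥ : Ideal (baseNorm A D))).map
          (Algebra.TensorProduct.includeLeft : baseNorm A D →ₐ[A] baseNorm A D ⊗[A] D) =
        (Ideal.jacobson (⊥ : Ideal (baseNorm A D))).map
          (Algebra.TensorProduct.includeLeft : baseNorm A D →ₐ[A] baseNorm A D ⊗[A] D).toRingHom from rfl] at h2
    change ν w ∈ (Ideal.map _ (Ideal.jacobson (⊥ : Ideal (baseNorm A D)))).map ν.toRingHom at h2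
    rw [Ideal.map_map] at h2
    refine Ideal.map_le_iff_le_comap.2 (fun i hi => ?_) h2
    rw [Ideal.mem_comap]
    show ν (i ⊗ₜ 1) ∈ _
    rw [Algebra.TensorProduct.map_tmul, map_one]
    refine Ideal.mem_map_of_mem (Algebra.TensorProduct.includeLeft : A' →ₐ[A] A' ⊗[A] D) ?_
    refine Ideal.mem_jacobson_bot.2 fun y => ?_
    obtain ⟨y, rfl⟩ := αe.surjective y
    have h3 := (Ideal.mem_jacobson_bot.1 hi y).map αe
    rwa [map_add, map_mul, map_one] at h3
  · refine Ideal.mem_sInf.2 fun {N} hN => ?_
    haveI := hN.2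
    haveI : Algebra.IsIntegral A A' :=
      ⟨fun x => (isIntegral_algHom_iff A'.val Subtype.val_injective).1 ((hA' _).1 x.2).1⟩
    letI : Algebra D D' := (((algebraMap S (FractionRing S)).comp D.val.toRingHom).codRestrict D'.toSubsemiring fun d =>
      (hD' _).2 ⟨(isIntegral_algebraMap : IsIntegral D (algebraMap D (FractionRing S) d)), 1, one_mem _, d, d.2, by
        rw [map_one, one_mul]; rfl⟩).toAlgebra
    haveI : IsScalarTower D D' (FractionRing S) := IsScalarTower.of_algebraMap_eq fun d => rfl
    haveI : Algebra.IsIntegral D D' :=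
      ⟨fun x => (isIntegral_algHom_iff (IsScalarTower.toAlgHom D D' (FractionRing S)) Subtype.val_injective).1 ((hD' _).1 x.2).1⟩
    have hND : N.comap (algebraMap D D') = maximalIdeal D :=
      eq_maximalIdeal (Ideal.isMaximal_comap_of_isIntegral_of_isMaximal N)
    have hNA : ((N.comap π).comap (Algebra.TensorProduct.includeLeft : A' →ₐ[A] A' ⊗[A] D)).IsMaximal := by
      haveI := hN.2.isPrime
      haveI : (N.comap π).IsPrime := Ideal.IsPrime.comap _
      haveI : ((N.comap π).comap (Algebra.TensorProduct.includeLeft : A' →ₐ[A] A' ⊗[A] D)).IsPrime := Ideal.IsPrime.comap _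
      refine Ideal.isMaximal_of_isIntegral_of_isMaximal_comap (R := A) _ ?_
      suffices h : ((N.comap π).comap (Algebra.TensorProduct.includeLeft : A' →ₐ[A] A' ⊗[A] D)).comap (algebraMap A A') =
          maximalIdeal A by rw [h]; infer_instance
      have h4 : (maximalIdeal D).comap (algebraMap A D) = maximalIdeal A :=
        ((local_hom_TFAE (algebraMap A D)).out 0 4).mp ‹IsLocalHom (algebraMap A D)›
      rw [← h4, ← hND]
      ext r
      simp only [Ideal.mem_comap]
      rw [show π (Algebra.TensorProduct.includeLeft (algebraMap A A' r)) = algebraMap D D' (algebraMap A D r) from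
        Subtype.ext (by
          show (π (algebraMap A A' r ⊗ₜ 1) : FractionRing S) = _
          rw [hπ, OneMemClass.coe_one, map_one, mul_one]
          exact IsScalarTower.algebraMap_apply A S (FractionRing S) r)]
    refine (sup_le ?_ ?_ : _ ≤ N.comap π) hz
    · refine Ideal.map_le_iff_le_comap.2 fun i hi => ?_
      exact Ideal.mem_sInf.1 hi ⟨bot_le, hNA⟩
    · refine Ideal.map_le_iff_le_comap.2 fun d hd => ?_
      rw [← hND, Ideal.mem_comap] at hd
      rw [Ideal.mem_comap, Ideal.mem_comap]
      convert hd using 1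
      refine Subtype.ext ?_
      show (π (1 ⊗ₜ d) : FractionRing S) = _
      rw [hπ, OneMemClass.coe_one, one_mul]
      rfl

end Groth.Agent.EssSub
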