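/-
Points of the normalisation of a strict henselization.
-/
import Mathlib
import Groth.Agent.EssSub.ResidueTransfer

set_option autoImplicit false
set_option linter.style.haveILetI false
set_option maxHeartbeats 800000
universe u

open IsLocalRing Polynomial TensorProduct

namespace Groth.Agent.EssSub

variable {A S : Type u} [CommRing A] [IsLocalRing A] [CommRing S] [IsLocalRing S] [Algebra A S]
  [IsLocalHom (algebraMap A S)] [hS : _root_.Hensel.IsStrictHenselization A S]

include hS in
/-- Non-zero-divisors of the base are units in the total fractions of the strict henselization. -/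
theorem isUnit_baseSH {a : A} (ha : a ∈ nonZeroDivisors A) : IsUnit (algebraMap A (FractionRing S) a) := by
  rw [IsScalarTower.algebraMap_apply A S (FractionRing S)]
  refine IsLocalization.map_units (FractionRing S) (⟨algebraMap A S a, ?_⟩ : nonZeroDivisors S)
  refine mem_nonZeroDivisors_iff_right.2 fun x hx => isSMulRegular_base (S := S) ha ?_
  show algebraMap A S a • x = algebraMap A S a • (0 : S)
  rw [smul_zero, smul_eq_mul, mul_comm, hx]

/-- Fractions with denominators in the base and numerators in a subalgebra. -/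
def HasDen (D : Subalgebra A S) (x : FractionRing S) : Prop :=
  ∃ a ∈ nonZeroDivisors A, ∃ d ∈ D, algebraMap A (FractionRing S) a * x = algebraMap S (FractionRing S) d

omit [IsLocalRing A] [IsLocalRing S] [IsLocalHom (algebraMap A S)] hS in
/-- An algebra over a subalgebra inside the total fractions containing it. -/
theorem mem_of_hD' {D : Subalgebra A S} {D' : Subalgebra A (FractionRing S)}
    (hD' : ∀ x : (FractionRing S), x ∈ D' ↔ (IsIntegral D x ∧
      ∃ a ∈ nonZeroDivisors A, ∃ d ∈ D, algebraMap A (FractionRing S) a * x = algebraMap S (FractionRing S) d))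
    (d : D) : algebraMap S (FractionRing S) (d : S) ∈ D' :=
  (hD' _).2 ⟨(isIntegral_algebraMap : IsIntegral D (algebraMap D (FractionRing S) d)), 1, one_mem _, d, d.2, by
    rw [map_one, one_mul]⟩

omit [IsLocalRing A] [IsLocalRing S] [IsLocalHom (algebraMap A S)] hS in
theorem span_le_of_hD' {D : Subalgebra A S} {A' D' : Subalgebra A (FractionRing S)} (hle : A' ≤ D')
    (hD' : ∀ x : (FractionRing S), x ∈ D' ↔ (IsIntegral D x ∧
      ∃ a ∈ nonZeroDivisors A, ∃ d ∈ D, algebraMap A (FractionRing S) a * x = algebraMap S (FractionRing S) d))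
    {x : FractionRing S} (hx : x ∈ Submodule.span D (A' : Set (FractionRing S))) : x ∈ D' := by
  induction hx using Submodule.span_induction with
  | mem y hy => exact hle hy
  | zero => exact zero_mem _
  | add y z _ _ hy hz => exact add_mem hy hz
  | smul d y _ hy =>
    rw [Algebra.smul_def]
    exact mul_mem (mem_of_hD' hD' d) hy

include hS in
/-- Maximal ideals of algebras integral over the strict henselization contract to maximal ideals. -/
theorem isMaximal_comap_of_sepClosure (C : Type u) [CommRing C] [Algebra A C]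
    (T : Type u) [CommRing T] [Algebra A T] [Algebra S T] [IsScalarTower A S T] [Algebra.IsIntegral S T]
    (j : C →ₐ[A] T) (M : Ideal T) [M.IsMaximal] : (M.comap j.toRingHom).IsMaximal := by
  haveI := hS.isSepClosure
  letI := Ideal.Quotient.field M
  have hm : M.comap (algebraMap S T) = maximalIdeal S :=
    eq_maximalIdeal (Ideal.isMaximal_comap_of_isIntegral_of_isMaximal M)
  letI : Algebra (ResidueField S) (T ⧸ M) := (Ideal.Quotient.lift (maximalIdeal S) (algebraMap S (T ⧸ M)) fun a ha => by
    rw [IsScalarTower.algebraMap_apply S T (T ⧸ M)]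
    exact Ideal.Quotient.eq_zero_iff_mem.2 (show a ∈ M.comap (algebraMap S T) by rwa [hm])).toAlgebra
  haveI : IsScalarTower S (ResidueField S) (T ⧸ M) := IsScalarTower.of_algebraMap_eq fun a => rfl
  letI : Algebra (ResidueField A) (T ⧸ M) :=
    ((algebraMap (ResidueField S) (T ⧸ M)).comp (algebraMap (ResidueField A) (ResidueField S))).toAlgebra
  haveI : IsScalarTower (ResidueField A) (ResidueField S) (T ⧸ M) := IsScalarTower.of_algebraMap_eq fun a => rfl
  haveI : IsScalarTower A (ResidueField A) (T ⧸ M) := IsScalarTower.of_algebraMap_eq fun a => by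
    show _ = algebraMap S (T ⧸ M) (algebraMap A S a)
    rw [← IsScalarTower.algebraMap_apply A S (T ⧸ M)]
  haveI : Algebra.IsIntegral S (T ⧸ M) :=
    Algebra.IsIntegral.of_surjective (R := S) (IsScalarTower.toAlgHom S T (T ⧸ M)) Ideal.Quotient.mk_surjective
  haveI : Algebra.IsIntegral (ResidueField S) (T ⧸ M) := ⟨fun y => (Algebra.IsIntegral.isIntegral (R := S) y).tower_top⟩
  haveI : Algebra.IsAlgebraic (ResidueField A) (ResidueField S) := Algebra.IsSeparable.isAlgebraic _ _
  haveI : Algebra.IsIntegral (ResidueField A) (T ⧸ M) := Algebra.IsIntegral.trans (ResidueField S)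
  rw [Ideal.isMaximal_def]
  refine ⟨fun h => (‹M.IsMaximal›).ne_top ((Ideal.eq_top_iff_one _).2 ?_), fun J hJ => ?_⟩
  · have h1 : (1 : C) ∈ M.comap j.toRingHom := h ▸ Submodule.mem_top
    rwa [Ideal.mem_comap, map_one] at h1
  · obtain ⟨x, hxJ, hxM⟩ := Set.exists_of_ssubset hJ
    let y : T ⧸ M := Ideal.Quotient.mk M (j x)
    have hy : y ≠ 0 := fun h => hxM (show j x ∈ M from Ideal.Quotient.eq_zero_iff_mem.1 h)
    have hinv := (Algebra.IsIntegral.isIntegral (R := ResidueField A) y).inv_mem_adjoin
    rw [Algebra.adjoin_singleton_eq_range_aeval] at hinv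
    obtain ⟨q, hq⟩ := hinv
    obtain ⟨q₀, rfl⟩ := Polynomial.map_surjective (residue A) residue_surjective q
    have h2 : (Ideal.Quotient.mk M) (j (aeval x q₀ * x)) = 1 := by
      rw [map_mul, map_mul, ← aeval_algHom_apply]
      show (Ideal.Quotient.mkₐ A M) (aeval (j x) q₀) * y = 1
      rw [← aeval_algHom_apply]
      show aeval y q₀ * y = 1
      rw [← inv_mul_cancel₀ hy, ← hq]
      exact congrArg (· * y) (aeval_map_algebraMap (ResidueField A) y q₀).symm
    have h3 : aeval x q₀ * x - 1 ∈ M.comap j.toRingHom := by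
      rw [Ideal.mem_comap]
      show j (aeval x q₀ * x - 1) ∈ M
      rw [map_sub, map_one, ← Ideal.Quotient.eq_zero_iff_mem, map_sub, h2, map_one, sub_self]
    rw [Ideal.eq_top_iff_one]
    have h4 := J.sub_mem (J.mul_mem_left (aeval x q₀) hxJ) (hJ.le h3)
    rwa [sub_sub_cancel] at h4

/-- The comparison with the normalisation of the strict henselization. -/
noncomputable def shMap (A' : Subalgebra A (FractionRing S)) : A' ⊗[A] S →ₐ[A] FractionRing S :=
  Algebra.TensorProduct.lift A'.val (IsScalarTower.toAlgHom A S (FractionRing S)) fun _ _ => Commute.all _ _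

omit [IsLocalRing A] [IsLocalRing S] [IsLocalHom (algebraMap A S)] hS in
theorem shMap_tmul (A' : Subalgebra A (FractionRing S)) (a : A') (s : S) :
    shMap A' (a ⊗ₜ s) = (a : FractionRing S) * algebraMap S (FractionRing S) s :=
  Algebra.TensorProduct.lift_tmul _ _ _ a s

omit [IsLocalRing A] [IsLocalRing S] [IsLocalHom (algebraMap A S)] hS in
theorem isIntegral_shMap (A' : Subalgebra A (FractionRing S))
    (hA' : ∀ x : (FractionRing S), x ∈ A' ↔ (IsIntegral A x ∧
      ∃ a ∈ nonZeroDivisors A, ∃ b : A, algebraMap A (FractionRing S) a * x = algebraMap A (FractionRing S) b))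
    (z : A' ⊗[A] S) : IsIntegral S (shMap A' z) := by
  induction z using TensorProduct.induction_on with
  | zero => rw [map_zero]; exact isIntegral_zero
  | tmul x e => rw [shMap_tmul]; exact ((hA' _).1 x.2).1.tower_top.mul isIntegral_algebraMap
  | add y z hy hz => rw [map_add]; exact hy.add hz

include hS in
/-- The comparison is injective. -/
theorem shMap_injective (A' : Subalgebra A (FractionRing S))
    (hA' : ∀ x : (FractionRing S), x ∈ A' ↔ (IsIntegral A x ∧
      ∃ a ∈ nonZeroDivisors A, ∃ b : A, algebraMap A (FractionRing S) a * x = algebraMap A (FractionRing S) b)) :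
    Function.Injective (shMap A') := by
  haveI := Hensel.strictHenselization_flat A S
  have hrep : ∀ z : A' ⊗[A] S, ∃ a ∈ nonZeroDivisors A, ∃ e : S,
      ((algebraMap A A' a) ⊗ₜ[A] (1 : S)) * z = (1 : A') ⊗ₜ e := by
    intro z
    induction z using TensorProduct.induction_on with
    | zero => exact ⟨1, one_mem _, 0, by rw [mul_zero, tmul_zero]⟩
    | tmul x e =>
      obtain ⟨-, a, ha, b, hab⟩ := (hA' _).1 x.2
      refine ⟨a, ha, b • e, ?_⟩
      rw [Algebra.TensorProduct.tmul_mul_tmul, one_mul, show algebraMap A A' a * x = b • (1 : A') from by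
        rw [Algebra.smul_def, mul_one]; exact Subtype.ext hab, smul_tmul]
    | add y z hy hz =>
      obtain ⟨a, ha, e, he⟩ := hy
      obtain ⟨b, hb, e', he'⟩ := hz
      refine ⟨a * b, mul_mem ha hb, b • e + a • e', ?_⟩
      have e1 : ∀ r : A, ∀ x : S, (algebraMap A A' r ⊗ₜ[A] (1 : S)) * ((1 : A') ⊗ₜ x) = (1 : A') ⊗ₜ (r • x) := fun r x => by
        rw [Algebra.TensorProduct.tmul_mul_tmul, mul_one, one_mul, Algebra.algebraMap_eq_smul_one, smul_tmul]
      rw [show (algebraMap A A' (a * b)) ⊗ₜ[A] (1 : S) = (algebraMap A A' a ⊗ₜ 1) * (algebraMap A A' b ⊗ₜ 1) by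
          rw [Algebra.TensorProduct.tmul_mul_tmul, one_mul, map_mul], mul_add, mul_assoc, mul_assoc, he',
        mul_left_comm _ (_ ⊗ₜ _) y, he, e1, e1, tmul_add]
  refine (injective_iff_map_eq_zero _).2 fun z hz => ?_
  obtain ⟨a, ha, e, he⟩ := hrep z
  have hr : IsSMulRegular A' (algebraMap A A' a) := fun x y h =>
    Subtype.ext ((isUnit_baseSH ha).mul_left_cancel (congrArg (fun w : A' => (w : FractionRing S)) h))
  have h1 := congrArg (shMap A') he
  rw [map_mul, hz, mul_zero, shMap_tmul, OneMemClass.coe_one, one_mul] at h1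
  rw [show e = 0 from IsFractionRing.injective S (FractionRing S) (h1.symm.trans (map_zero _).symm), tmul_zero] at he
  refine (hr.of_flat (S := A' ⊗[A] S)) ?_
  show algebraMap A' _ (algebraMap A A' a) • z = algebraMap A' _ (algebraMap A A' a) • (0 : A' ⊗[A] S)
  rw [smul_zero, smul_eq_mul, Algebra.TensorProduct.algebraMap_apply]
  exact he

include hS in
/-- Geometric points give maximal ideals of the normalisation. -/
theorem exists_max_of_point (A' : Subalgebra A (FractionRing S))
    (hA' : ∀ x : (FractionRing S), x ∈ A' ↔ (IsIntegral A x ∧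
      ∃ a ∈ nonZeroDivisors A, ∃ b : A, algebraMap A (FractionRing S) a * x = algebraMap A (FractionRing S) b))
    (Ω : Type u) [Field Ω] [Algebra A Ω] (ω : A' ⊗[A] S →ₐ[A] Ω)
    (hω : ∀ s : S, s ∈ maximalIdeal S → ω ((1 : A') ⊗ₜ s) = 0) :
    ∃ M : Ideal (integralClosure S (FractionRing S)), M.IsMaximal ∧
      ∀ (w : A' ⊗[A] S) (h : IsIntegral S (shMap A' w)),
        ((⟨shMap A' w, h⟩ : integralClosure S (FractionRing S)) ∈ M ↔ ω w = 0) := by
  let K := FractionRing S
  let T := integralClosure S K
  let g : A' ⊗[A] S →+* T :=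
    { toFun := fun z => ⟨shMap A' z, isIntegral_shMap A' hA' z⟩
      map_one' := Subtype.ext (map_one (shMap A'))
      map_mul' := fun y z => Subtype.ext (map_mul (shMap A') y z)
      map_zero' := Subtype.ext (map_zero (shMap A'))
      map_add' := fun y z => Subtype.ext (map_add (shMap A') y z) }
  letI : Algebra (A' ⊗[A] S) T := g.toAlgebra
  haveI : Algebra.IsIntegral S T := ⟨fun z => IsIntegralClosure.isIntegral S K z⟩
  haveI : Algebra.IsIntegral (A' ⊗[A] S) T := ⟨fun t => by
    obtain ⟨p, hp, hpt⟩ := Algebra.IsIntegral.isIntegral (R := S) t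
    refine ⟨p.map (Algebra.TensorProduct.includeRight : S →ₐ[A] A' ⊗[A] S).toRingHom, hp.map _, ?_⟩
    rw [eval₂_map, show (algebraMap (A' ⊗[A] S) T).comp
      (Algebra.TensorProduct.includeRight : S →ₐ[A] A' ⊗[A] S).toRingHom = algebraMap S T from RingHom.ext fun s =>
        Subtype.ext (by
          show shMap A' ((1 : A') ⊗ₜ s) = algebraMap S K s
          rw [shMap_tmul, OneMemClass.coe_one, one_mul])]
    exact hpt⟩
  let P : Ideal (A' ⊗[A] S) := RingHom.ker ω.toRingHom
  haveI hP : P.IsPrime := RingHom.ker_isPrime _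
  have hinj : Function.Injective (algebraMap (A' ⊗[A] S) T) := fun y z h =>
    shMap_injective A' hA' (congrArg (fun t : T => (t : K)) h)
  obtain ⟨Q, -, hQ, hQw⟩ := Ideal.exists_ideal_over_prime_of_isIntegral (R := A' ⊗[A] S) (S := T) P ⊥ (by
    rw [← RingHom.ker_eq_comap_bot, (RingHom.injective_iff_ker_eq_bot _).1 hinj]; exact bot_le)
  haveI := hQ
  refine ⟨Q, ?_, fun w h => ?_⟩
  · refine Ideal.isMaximal_of_isIntegral_of_isMaximal_comap (R := S) Q ?_
    suffices h : Q.comap (algebraMap S T) = maximalIdeal S by rw [h]; infer_instance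
    refine le_antisymm (IsLocalRing.le_maximalIdeal (Ideal.comap_ne_top _ hQ.ne_top)) fun s hs => ?_
    have h1 : ((1 : A') ⊗ₜ[A] s) ∈ Q.comap (algebraMap (A' ⊗[A] S) T) := by
      rw [hQw]; exact hω s hs
    rw [Ideal.mem_comap] at h1 ⊢
    rwa [show algebraMap S T s = algebraMap (A' ⊗[A] S) T ((1 : A') ⊗ₜ[A] s) from Subtype.ext (by
      show algebraMap S K s = shMap A' ((1 : A') ⊗ₜ s)
      rw [shMap_tmul, OneMemClass.coe_one, one_mul])]
  · show algebraMap (A' ⊗[A] S) T w ∈ Q ↔ _
    rw [← Ideal.mem_comap, hQw]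
    exact Iff.rfl

include hS in
/-- The normalisation of a reduced strict henselization is semilocal. -/
theorem finite_maximal_normalizationSH [IsReduced A] [IsNoetherianRing A] :
    {M : Ideal (integralClosure S (FractionRing S)) | M.IsMaximal}.Finite := by
  haveI : IsReduced S := (Hensel.strictHenselization_isReduced_iff A S).2 ‹_›
  haveI : IsNoetherianRing S := (Hensel.strictHenselization_isNoetherianRing_iff A S).1 ‹_›
  exact finite_maximal_normalization S

include hS in
/-- Residual surjectivity makes every maximal ideal of the normalised subalgebra a trace. -/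
theorem exists_max_over_of_residue (D : Subalgebra A S) [IsLocalRing D] [IsLocalHom (algebraMap D S)]
    (A' D' : Subalgebra A (FractionRing S))
    (hA' : ∀ x : (FractionRing S), x ∈ A' ↔ (IsIntegral A x ∧
      ∃ a ∈ nonZeroDivisors A, ∃ b : A, algebraMap A (FractionRing S) a * x = algebraMap A (FractionRing S) b))
    (hD' : ∀ x : (FractionRing S), x ∈ D' ↔ (IsIntegral D x ∧
      ∃ a ∈ nonZeroDivisors A, ∃ d ∈ D, algebraMap A (FractionRing S) a * x = algebraMap S (FractionRing S) d))
    (hle : A' ≤ D')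
    (hres : ∀ x : D', ∃ z : D', (z : FractionRing S) ∈ Submodule.span D (A' : Set (FractionRing S)) ∧
      x - z ∈ Ideal.jacobson (⊥ : Ideal D'))
    (N : Ideal D') (hN : N.IsMaximal) :
    ∃ M : Ideal (integralClosure S (FractionRing S)), M.IsMaximal ∧
      ∀ (x : D') (h : IsIntegral S (x : FractionRing S)),
        (x ∈ N ↔ (⟨(x : FractionRing S), h⟩ : integralClosure S (FractionRing S)) ∈ M) := by
  classical
  haveI := hN
  haveI := hS.isSepClosure
  let K := FractionRing S
  let T := integralClosure S K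
  letI := Ideal.Quotient.field N
  let ι : D →+* D' := ((algebraMap S K).comp (algebraMap D S)).codRestrict D'.toSubsemiring fun d => mem_of_hD' hD' d
  letI : Algebra D D' := ι.toAlgebra
  haveI : IsScalarTower D D' K := IsScalarTower.of_algebraMap_eq fun d => rfl
  haveI : Algebra.IsIntegral D D' :=
    ⟨fun z => (isIntegral_algHom_iff (IsScalarTower.toAlgHom D D' K) Subtype.val_injective).1 ((hD' _).1 z.2).1⟩
  have hND : N.comap (algebraMap D D') = maximalIdeal D :=
    eq_maximalIdeal (Ideal.isMaximal_comap_of_isIntegral_of_isMaximal N)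
  let Ω := AlgebraicClosure (D' ⧸ N)
  let χ : D' →ₐ[A] Ω := (IsScalarTower.toAlgHom A (D' ⧸ N) Ω).comp (Ideal.Quotient.mkₐ A N)
  haveI := isLocalHom_base D
  let ρ : ResidueField D →+* Ω := Ideal.Quotient.lift (maximalIdeal D) (χ.toRingHom.comp ι) fun d hd => by
    rw [RingHom.comp_apply]
    show algebraMap (D' ⧸ N) Ω (Ideal.Quotient.mk N (ι d)) = 0
    rw [Ideal.Quotient.eq_zero_iff_mem.2 (show ι d ∈ N from (hND ▸ hd : d ∈ N.comap (algebraMap D D'))), map_zero]
  letI : Algebra (ResidueField D) Ω := ρ.toAlgebra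
  haveI : IsScalarTower (ResidueField A) (ResidueField D) (ResidueField S) := IsScalarTower.of_algebraMap_eq fun z => by
    obtain ⟨a, rfl⟩ := residue_surjective z
    rfl
  haveI : Algebra.IsAlgebraic (ResidueField D) (ResidueField S) := by
    haveI : Algebra.IsAlgebraic (ResidueField A) (ResidueField S) := Algebra.IsSeparable.isAlgebraic _ _
    exact Algebra.IsAlgebraic.tower_top (K := ResidueField A) (L := ResidueField D)
  let ψ : ResidueField S →ₐ[ResidueField D] Ω := IsAlgClosed.lift
  let θS : S →ₐ[A] Ω :=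
    { ψ.toRingHom.comp (residue S) with
      commutes' := fun a => by
        show ψ (residue S (algebraMap A S a)) = algebraMap A Ω a
        rw [show residue S (algebraMap A S a) = algebraMap (ResidueField D) (ResidueField S) (residue D (algebraMap A D a))
          from rfl, ψ.commutes]
        show χ (ι (algebraMap A D a)) = _
        rw [show ι (algebraMap A D a) = algebraMap A D' a from
          Subtype.ext (IsScalarTower.algebraMap_apply A S K a).symm]
        exact χ.commutes a }
  let ω : A' ⊗[A] S →ₐ[A] Ω :=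
    Algebra.TensorProduct.lift (χ.comp (Subalgebra.inclusion hle)) θS fun _ _ => Commute.all _ _
  have hωt : ∀ a s, ω (a ⊗ₜ s) = χ (Subalgebra.inclusion hle a) * θS s := fun a s =>
    Algebra.TensorProduct.lift_tmul _ _ _ a s
  have hθm : ∀ s ∈ maximalIdeal S, ω ((1 : A') ⊗ₜ s) = 0 := fun s hs => by
    rw [hωt, map_one, map_one, one_mul]
    show ψ (residue S s) = 0
    rw [(residue_eq_zero_iff s).2 hs, map_zero]
  obtain ⟨M, hM, hMw⟩ := exists_max_of_point A' hA' Ω ω hθm
  haveI := hM
  have hint : ∀ y ∈ D', IsIntegral S y := fun y hy => ((hD' y).1 hy).1.tower_top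
  let jA : D' →ₐ[A] T :=
    { toFun := fun y => ⟨(y : K), hint y y.2⟩
      map_one' := rfl
      map_mul' := fun _ _ => rfl
      map_zero' := rfl
      map_add' := fun _ _ => rfl
      commutes' := fun a => Subtype.ext (IsScalarTower.algebraMap_apply A S K a) }
  haveI : Algebra.IsIntegral S T := ⟨fun z => IsIntegralClosure.isIntegral S K z⟩
  haveI : IsScalarTower A S T :=
    IsScalarTower.of_algebraMap_eq fun a => Subtype.ext (IsScalarTower.algebraMap_apply A S K a)
  have hcm : (M.comap jA.toRingHom).IsMaximal := isMaximal_comap_of_sepClosure (A := A) (S := S) D' T jA M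
  have hagree : ∀ y ∈ Submodule.span D (A' : Set K), ∃ (h : y ∈ D') (w : A' ⊗[A] S),
      shMap A' w = y ∧ ω w = χ ⟨y, h⟩ := by
    intro y hy
    induction hy using Submodule.span_induction with
    | mem b hb =>
      refine ⟨hle hb, (⟨b, hb⟩ : A') ⊗ₜ 1, by rw [shMap_tmul, map_one, mul_one], ?_⟩
      rw [hωt, map_one, mul_one]
      rfl
    | zero => exact ⟨zero_mem _, 0, map_zero _, by rw [map_zero, show (⟨(0 : K), _⟩ : D') = 0 from rfl, map_zero]⟩
    | add y z _ _ hy hz =>
      obtain ⟨h, v, hv, hv'⟩ := hy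
      obtain ⟨h', w, hw, hw'⟩ := hz
      refine ⟨add_mem h h', v + w, by rw [map_add, hv, hw], ?_⟩
      rw [show (⟨y + z, add_mem h h'⟩ : D') = ⟨y, h⟩ + ⟨z, h'⟩ from rfl, map_add, map_add, hv', hw']
    | smul d y _ hy =>
      obtain ⟨h, v, hv, hv'⟩ := hy
      have h' : d • y ∈ D' := by rw [Algebra.smul_def]; exact mul_mem (mem_of_hD' hD' d) h
      refine ⟨h', ((1 : A') ⊗ₜ (d : S)) * v, by
        rw [map_mul, shMap_tmul, OneMemClass.coe_one, one_mul, hv, Algebra.smul_def]; rfl, ?_⟩
      rw [map_mul, hv', hωt, map_one, map_one, one_mul,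
        show (⟨d • y, h'⟩ : D') = ι d * ⟨y, h⟩ from Subtype.ext (Algebra.smul_def d y), map_mul]
      congr 1
      show ψ (residue S (d : S)) = _
      rw [show residue S (d : S) = algebraMap (ResidueField D) (ResidueField S) (residue D d) from rfl, ψ.commutes]
      rfl
  have heq : M.comap jA.toRingHom = N := ((hN.eq_of_le hcm.ne_top) fun x hx => by
    obtain ⟨z, hz, hr⟩ := hres x
    obtain ⟨hz', w, hw, hw'⟩ := hagree _ hz
    have hrN : x - z ∈ N := Ideal.mem_sInf.1 hr ⟨bot_le, hN⟩
    have hrM : x - z ∈ M.comap jA.toRingHom := Ideal.mem_sInf.1 hr ⟨bot_le, hcm⟩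
    have hzN : z ∈ N := by simpa using N.sub_mem hx hrN
    have hzM : z ∈ M.comap jA.toRingHom := by
      rw [Ideal.mem_comap]
      have h1 : ω w = 0 := by
        rw [hw']
        show algebraMap (D' ⧸ N) Ω (Ideal.Quotient.mk N z) = 0
        rw [Ideal.Quotient.eq_zero_iff_mem.2 hzN, map_zero]
      have h2 := (hMw w (hw ▸ hint _ hz')).2 h1
      convert h2 using 1
      exact Subtype.ext hw.symm
    simpa using Ideal.add_mem _ hrM hzM).symm
  exact ⟨M, hM, fun x h => by rw [← heq]; exact Iff.rfl⟩

end Groth.Agent.EssSub
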