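/-
A henselization which is a union of essentially étale subalgebras gives the residual product.
-/
import Mathlib
import Groth.Agent.EssSub.SHPoint
import Groth.Agent.EssSub.Normal
import Groth.Agent.Hensel.HenselizationProps

set_option autoImplicit false
set_option linter.style.haveILetI false
set_option maxHeartbeats 1600000
universe u

open IsLocalRing Polynomial TensorProduct

namespace Groth.Agent.EssSub

/-- A prime is the kernel of a map to an algebraically closed field. -/
theorem exists_geometric_point {A R : Type u} [CommRing A] [CommRing R] [Algebra A R] (P : Ideal R) [P.IsPrime] :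
    ∃ (Ω : Type u) (_ : Field Ω) (_ : IsAlgClosed Ω) (_ : Algebra A Ω) (ω : R →ₐ[A] Ω), ∀ w, ω w = 0 ↔ w ∈ P := by
  let L := FractionRing (R ⧸ P)
  let ω : R →+* AlgebraicClosure L :=
    ((algebraMap L (AlgebraicClosure L)).comp (algebraMap (R ⧸ P) L)).comp (Ideal.Quotient.mk P)
  letI : Algebra A (AlgebraicClosure L) := (ω.comp (algebraMap A R)).toAlgebra
  refine ⟨AlgebraicClosure L, inferInstance, inferInstance, inferInstance, { ω with commutes' := fun a => rfl },
    fun w => ?_⟩
  show algebraMap L (AlgebraicClosure L) (algebraMap (R ⧸ P) L (Ideal.Quotient.mk P w)) = 0 ↔ _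
  rw [map_eq_zero_iff _ (RingHom.injective _), map_eq_zero_iff _ (IsFractionRing.injective (R ⧸ P) L),
    Ideal.Quotient.eq_zero_iff_mem]

variable {A S : Type u} [CommRing A] [IsLocalRing A] [CommRing S] [IsLocalRing S] [Algebra A S]
  [IsLocalHom (algebraMap A S)] [hS : _root_.Hensel.IsStrictHenselization A S]
  (D : Subalgebra A S) [IsLocalRing D] [IsLocalHom (algebraMap D S)]
  (Dh : Type u) [CommRing Dh] [IsLocalRing Dh] [Algebra D Dh]
  [IsLocalHom (algebraMap D Dh)] [hDh : _root_.Hensel.IsHenselization D Dh] [Algebra Dh S] [IsScalarTower D Dh S]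

include hDh in
/-- The comparison with the strict henselization is local. -/
theorem isLocalHom_comparison : IsLocalHom (algebraMap Dh S) :=
  ((local_hom_TFAE (algebraMap Dh S)).out 0 2).2 (by
    rw [← Hensel.henselization_map_maximalIdeal D Dh, Ideal.map_map, ← IsScalarTower.algebraMap_eq]
    exact ((local_hom_TFAE (algebraMap D S)).out 0 2).1 ‹_›)

include hS hDh in
/-- The henselization of the base maps into that of the subalgebra, over which the strict henselization is integral. -/
theorem exists_envMap :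
    ∃ h : Hensel.Env A (ResidueField A) →ₐ[A] S, IsLocalHom h.toRingHom ∧ (∀ z, h z ∈ Set.range (algebraMap Dh S)) ∧
      Algebra.IsIntegral Dh S := by
  haveI := hS.henselian
  haveI := isLocalHom_base D
  haveI := isLocalHom_comparison D Dh
  haveI hlA : IsLocalHom (algebraMap A (Hensel.Env A (ResidueField A))) := (Hensel.exists_henselization A).choose
  haveI hAh : _root_.Hensel.IsHenselization A (Hensel.Env A (ResidueField A)) :=
    (Hensel.exists_henselization A).choose_spec
  let Ah := Hensel.Env A (ResidueField A)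
  haveI : HenselianLocalRing Ah := hAh.henselian
  haveI : HenselianLocalRing Dh := hDh.henselian
  obtain ⟨j, hj, -⟩ := hAh.universal Dh ((algebraMap D Dh).comp (algebraMap A D)) (RingHom.isLocalHom_comp _ _)
  let h : Ah →ₐ[A] S :=
    { (algebraMap Dh S).comp j with
      commutes' := fun a => by
        show algebraMap Dh S (j (algebraMap A Ah a)) = _
        rw [show j (algebraMap A Ah a) = algebraMap D Dh (algebraMap A D a) from RingHom.congr_fun hj a,
          ← IsScalarTower.algebraMap_apply D Dh S, ← IsScalarTower.algebraMap_apply A D S] }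
  have hmA : (maximalIdeal A).map (algebraMap A Ah) = maximalIdeal Ah := Hensel.henselization_map_maximalIdeal A Ah
  have hloc : IsLocalHom h.toRingHom := ((local_hom_TFAE h.toRingHom).out 0 2).2 (by
    rw [← hmA, Ideal.map_map, AlgHom.toRingHom_eq_coe, AlgHom.comp_algebraMap]
    exact ((local_hom_TFAE (algebraMap A S)).out 0 2).1 ‹_›)
  refine ⟨h, hloc, fun z => ⟨j z, rfl⟩, ⟨fun s => ?_⟩⟩
  letI : Algebra Ah S := h.toRingHom.toAlgebra
  haveI : IsScalarTower A Ah S := IsScalarTower.of_algebraMap_eq fun a => (h.commutes a).symm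
  haveI : IsLocalHom (algebraMap Ah S) := hloc
  haveI := tower_strict A Ah S
  obtain ⟨p, hp, hps⟩ := (GaloisStage.isIntegral_S (A := Ah) (S := S)).isIntegral s
  refine ⟨p.map j, hp.map _, ?_⟩
  rw [eval₂_map]
  exact hps

include hS hDh in
/-- An injective comparison makes every maximal ideal of the normalised subalgebra a trace. -/
theorem exists_max_over_of_injective (hinj : Function.Injective (algebraMap Dh S))
    (D' : Subalgebra A (FractionRing S))
    (hD' : ∀ x : (FractionRing S), x ∈ D' ↔ (IsIntegral D x ∧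
      ∃ a ∈ nonZeroDivisors A, ∃ d ∈ D, algebraMap A (FractionRing S) a * x = algebraMap S (FractionRing S) d))
    (N : Ideal D') (hN : N.IsMaximal) :
    ∃ M : Ideal (integralClosure S (FractionRing S)), M.IsMaximal ∧
      ∀ (x : D') (h : IsIntegral S (x : FractionRing S)),
        (x ∈ N ↔ (⟨(x : FractionRing S), h⟩ : integralClosure S (FractionRing S)) ∈ M) := by
  classical
  haveI := hN
  obtain ⟨-, -, -, hintS⟩ := exists_envMap D Dh (S := S)
  haveI := hintS
  haveI := Hensel.henselization_faithfullyFlat D Dh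
  let K := FractionRing S
  let T := integralClosure S K
  haveI : Algebra.IsIntegral S T := ⟨fun z => IsIntegralClosure.isIntegral S K z⟩
  let ι : D →+* D' := ((algebraMap S K).comp (algebraMap D S)).codRestrict D'.toSubsemiring fun d => mem_of_hD' hD' d
  letI : Algebra D D' := ι.toAlgebra
  haveI : IsScalarTower A D D' := IsScalarTower.of_algebraMap_eq fun a => Subtype.ext (IsScalarTower.algebraMap_apply A S K a)
  have hintD : ∀ y ∈ D', IsIntegral S y := fun y hy => ((hD' y).1 hy).1.tower_top
  let jA : D' →+* T :=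
    { toFun := fun y => ⟨(y : K), hintD y y.2⟩
      map_one' := rfl
      map_mul' := fun _ _ => rfl
      map_zero' := rfl
      map_add' := fun _ _ => rfl }
  letI : Algebra D' T := jA.toAlgebra
  haveI : IsScalarTower D D' T := IsScalarTower.of_algebraMap_eq fun d => Subtype.ext rfl
  let θT : Dh →ₐ[D] T :=
    { (algebraMap S T).comp (algebraMap Dh S) with
      commutes' := fun d => by
        show algebraMap S T (algebraMap Dh S (algebraMap D Dh d)) = _
        rw [← IsScalarTower.algebraMap_apply D Dh S]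
        exact Subtype.ext rfl }
  let X := D' ⊗[D] Dh
  let Ψ : X →ₐ[D'] T := Algebra.TensorProduct.lift (Algebra.ofId D' T) θT fun _ _ => Commute.all _ _
  have hΨ : ∀ y e, Ψ (y ⊗ₜ e) = algebraMap D' T y * θT e := fun y e => Algebra.TensorProduct.lift_tmul _ _ _ y e
  have hrep : ∀ z : X, ∃ a ∈ nonZeroDivisors A, ∃ e : Dh,
      ((algebraMap A D' a) ⊗ₜ[D] (1 : Dh)) * z = (1 : D') ⊗ₜ e := by
    intro z
    induction z using TensorProduct.induction_on with
    | zero => exact ⟨1, one_mem _, 0, by rw [mul_zero, tmul_zero]⟩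
    | tmul x e =>
      obtain ⟨-, a, ha, d, hd, had⟩ := (hD' _).1 x.2
      refine ⟨a, ha, (⟨d, hd⟩ : D) • e, ?_⟩
      rw [Algebra.TensorProduct.tmul_mul_tmul, one_mul,
        show algebraMap A D' a * x = (⟨d, hd⟩ : D) • (1 : D') from by
          rw [Algebra.smul_def, mul_one]; exact Subtype.ext had, smul_tmul]
    | add y z hy hz =>
      obtain ⟨a, ha, e, he⟩ := hy
      obtain ⟨b, hb, e', he'⟩ := hz
      refine ⟨a * b, mul_mem ha hb, algebraMap A D b • e + algebraMap A D a • e', ?_⟩
      have e1 : ∀ r : A, ∀ x : Dh, (algebraMap A D' r ⊗ₜ[D] (1 : Dh)) * ((1 : D') ⊗ₜ x) =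
          (1 : D') ⊗ₜ (algebraMap A D r • x) := fun r x => by
        rw [Algebra.TensorProduct.tmul_mul_tmul, mul_one, one_mul, IsScalarTower.algebraMap_apply A D D',
          Algebra.algebraMap_eq_smul_one (A := D'), smul_tmul]
      rw [show (algebraMap A D' (a * b)) ⊗ₜ[D] (1 : Dh) = (algebraMap A D' a ⊗ₜ 1) * (algebraMap A D' b ⊗ₜ 1) by
          rw [Algebra.TensorProduct.tmul_mul_tmul, one_mul, map_mul], mul_add, mul_assoc, mul_assoc, he',
        mul_left_comm _ (_ ⊗ₜ _) y, he, e1, e1, tmul_add]
  have hΨinj : Function.Injective Ψ := (injective_iff_map_eq_zero _).2 fun z hz => by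
    obtain ⟨a, ha, e, he⟩ := hrep z
    have hr : IsSMulRegular D' (algebraMap A D' a) := fun x y h =>
      Subtype.ext ((isUnit_baseSH (S := S) ha).mul_left_cancel (congrArg (fun w : D' => (w : K)) h))
    have h1 := congrArg Ψ he
    rw [map_mul, hz, mul_zero, hΨ, map_one, one_mul] at h1
    have h2 : algebraMap Dh S e = 0 := IsFractionRing.injective S K
      ((congrArg (fun t : T => (t : K)) h1.symm).trans (map_zero _).symm)
    rw [show e = 0 from hinj (h2.trans (map_zero _).symm), tmul_zero] at he
    refine (hr.of_flat (S := X)) ?_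
    show algebraMap D' X (algebraMap A D' a) • z = algebraMap D' X (algebraMap A D' a) • (0 : X)
    rw [smul_zero, smul_eq_mul, Algebra.TensorProduct.algebraMap_apply]
    exact he
  have hNX : N.map (algebraMap D' X) ≠ ⊤ := fun h => hN.ne_top (by
    rw [← Ideal.comap_map_eq_self_of_faithfullyFlat (B := X) N, h, Ideal.comap_top])
  obtain ⟨P, hP, hNP⟩ := Ideal.exists_le_maximal _ hNX
  haveI := hP
  have hPN : P.comap (algebraMap D' X) = N :=
    (hN.eq_of_le (Ideal.comap_ne_top _ hP.ne_top) (Ideal.map_le_iff_le_comap.1 hNP)).symm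
  letI : Algebra X T := Ψ.toRingHom.toAlgebra
  haveI : Algebra.IsIntegral X T := ⟨fun t => by
    letI : Algebra Dh T := ((algebraMap S T).comp (algebraMap Dh S)).toAlgebra
    haveI : IsScalarTower Dh S T := IsScalarTower.of_algebraMap_eq fun _ => rfl
    haveI : Algebra.IsIntegral Dh T := Algebra.IsIntegral.trans S
    obtain ⟨p, hp, hpt⟩ := Algebra.IsIntegral.isIntegral (R := Dh) t
    refine ⟨p.map (Algebra.TensorProduct.includeRight : Dh →ₐ[D] X).toRingHom, hp.map _, ?_⟩
    rw [eval₂_map, show (algebraMap X T).comp (Algebra.TensorProduct.includeRight : Dh →ₐ[D] X).toRingHom =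
      algebraMap Dh T from RingHom.ext fun e => by
        show Ψ ((1 : D') ⊗ₜ e) = _
        rw [hΨ, map_one, one_mul]
        rfl]
    exact hpt⟩
  let P₀ : Ideal X := P
  haveI : P₀.IsMaximal := hP
  obtain ⟨M, hM, hMP⟩ := Ideal.exists_ideal_over_maximal_of_isIntegral (R := X) (S := T) P₀ (by
    rw [(RingHom.injective_iff_ker_eq_bot _).1 (show Function.Injective (algebraMap X T) from hΨinj)]; exact bot_le)
  refine ⟨M, hM, fun x h => ?_⟩
  rw [← hPN, show P = M.comap (algebraMap X T) from hMP.symm, Ideal.comap_comap, Ideal.mem_comap]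
  show Ψ (algebraMap D' X x) ∈ M ↔ _
  rw [Ψ.commutes]
  exact Iff.rfl

include hS hDh in
/-- A union of essentially étale subalgebras gives residual surjectivity. -/
theorem residue_surjective_of_union [IsReduced A] [IsNoetherianRing A] (hinj : Function.Injective (algebraMap Dh S))
    (hunion : ∀ s : Finset S, (s : Set S) ⊆ Set.range (algebraMap Dh S) →
      ∃ E : Subalgebra A S, (s : Set S) ⊆ (E : Set S) ∧ (E : Set S) ⊆ Set.range (algebraMap Dh S) ∧
        ∃ _ : IsLocalRing E, EGA4loc.IsEssentiallyEtale A E)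
    (A' D' : Subalgebra A (FractionRing S))
    (hA' : ∀ x : (FractionRing S), x ∈ A' ↔ (IsIntegral A x ∧
      ∃ a ∈ nonZeroDivisors A, ∃ b : A, algebraMap A (FractionRing S) a * x = algebraMap A (FractionRing S) b))
    (hD' : ∀ x : (FractionRing S), x ∈ D' ↔ (IsIntegral D x ∧
      ∃ a ∈ nonZeroDivisors A, ∃ d ∈ D, algebraMap A (FractionRing S) a * x = algebraMap S (FractionRing S) d))
    (hle : A' ≤ D') (x : D') :
    ∃ z : D', (z : FractionRing S) ∈ Submodule.span D (A' : Set (FractionRing S)) ∧
      x - z ∈ Ideal.jacobson (⊥ : Ideal D') := by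
  classical
  let K := FractionRing S
  let T := integralClosure S K
  haveI : Algebra.IsIntegral S T := ⟨fun z => IsIntegralClosure.isIntegral S K z⟩
  haveI := isLocalHom_comparison D Dh (S := S)
  obtain ⟨⟨p, hp, hpx⟩, a, ha, d, hd, had⟩ := (hD' _).1 x.2
  let Fs : Finset S := insert d (p.coeffs.image fun c : D => (c : S))
  have hFs : (Fs : Set S) ⊆ Set.range (algebraMap Dh S) := by
    intro s hs
    rcases Finset.mem_insert.1 hs with rfl | hs
    · exact ⟨algebraMap D Dh ⟨s, hd⟩, (IsScalarTower.algebraMap_apply D Dh S ⟨s, hd⟩).symm⟩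
    · obtain ⟨c, -, rfl⟩ := Finset.mem_image.1 hs
      exact ⟨algebraMap D Dh c, (IsScalarTower.algebraMap_apply D Dh S c).symm⟩
  obtain ⟨E, hFE, hEH, hEl, hE⟩ := hunion Fs hFs
  haveI := hEl
  haveI := isLocalHom_base E
  haveI : IsLocalHom (algebraMap E S) := Hensel.essEt_hom_local hE E.val
  obtain ⟨φ, hφ, hφe⟩ := exists_fracIncl E hE
  obtain ⟨y, hy, -⟩ := exists_preimage hE φ hφe ha (e := d) (hFE (Finset.mem_insert_self _ _)) had
  have hyint : IsIntegral E y := by
    obtain ⟨q, hq, -, hqm⟩ := lifts_and_degree_eq_and_monic (f := E.val.toRingHom) (p := p.map D.val.toRingHom) (by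
      refine (lifts_iff_coeff_lifts _).2 fun n => ?_
      rw [coeff_map]
      by_cases hn : p.coeff n = 0
      · exact ⟨0, by rw [hn, map_zero, map_zero]⟩
      · exact ⟨⟨_, hFE (Finset.mem_insert_of_mem (Finset.mem_image_of_mem (fun c : D => (c : S))
          (coeff_mem_coeffs hn)))⟩, rfl⟩) (hp.map _)
    refine ⟨q, hqm, hφ ?_⟩
    rw [map_zero]
    show φ.toRingHom (eval₂ (algebraMap E (FractionRing E)) y q) = 0
    rw [hom_eval₂, show φ.toRingHom.comp (algebraMap E (FractionRing E)) = (algebraMap S K).comp E.val.toRingHom from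
      RingHom.ext hφe, ← eval₂_map, hq, eval₂_map, show φ.toRingHom y = (x : K) from hy]
    exact hpx
  obtain ⟨u, hu⟩ := exists_normMap_eq hE hyint
  have hint : ∀ v : baseNorm A E ⊗[A] E, IsIntegral S (φ (normMap A E v)) := fun v => by
    obtain ⟨q, hq, hqv⟩ := isIntegral_normMap v
    refine ⟨q.map E.val.toRingHom, hq.map _, ?_⟩
    rw [eval₂_map, show (algebraMap S K).comp E.val.toRingHom = φ.toRingHom.comp (algebraMap E (FractionRing E)) from
      RingHom.ext fun e => (hφe e).symm]
    show eval₂ _ (φ.toRingHom _) q = 0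
    rw [← hom_eval₂, hqv, map_zero]
  have key : ∀ v : baseNorm A E ⊗[A] E, ∃ z ∈ Submodule.span D (A' : Set K), ∀ M : Ideal T, M.IsMaximal →
      ∀ h : IsIntegral S (φ (normMap A E v) - z), (⟨_, h⟩ : T) ∈ M := by
    intro v
    induction v using TensorProduct.induction_on with
    | zero =>
      refine ⟨0, zero_mem _, fun M hM h => ?_⟩
      rw [show (⟨_, h⟩ : T) = 0 from Subtype.ext (by
        show φ (normMap A E 0) - 0 = 0
        rw [map_zero, map_zero, sub_zero])]
      exact M.zero_mem
    | tmul b e =>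
      obtain ⟨s, hs⟩ := hEH e.2
      obtain ⟨r, hr⟩ := Hensel.henselization_exists_sub_mem D Dh s
      have hb : φ (b : FractionRing E) ∈ A' := (baseNorm_iff φ hφ A' hA' _).1 b.2
      refine ⟨r • φ (b : FractionRing E), Submodule.smul_mem _ _ (Submodule.subset_span hb), fun M hM h => ?_⟩
      haveI := hM
      have hm : algebraMap S T (algebraMap Dh S (s - algebraMap D Dh r)) ∈ M := by
        rw [← Ideal.mem_comap, eq_maximalIdeal (Ideal.isMaximal_comap_of_isIntegral_of_isMaximal M)]
        exact map_nonunit (algebraMap Dh S) _ hr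
      rw [show (⟨_, h⟩ : T) = (⟨φ (b : FractionRing E), ((hA' _).1 hb).1.tower_top⟩ : T) *
          algebraMap S T (algebraMap Dh S (s - algebraMap D Dh r)) from Subtype.ext (by
        show φ (normMap A E (b ⊗ₜ e)) - r • φ (b : FractionRing E) =
          φ (b : FractionRing E) * algebraMap S K (algebraMap Dh S (s - algebraMap D Dh r))
        rw [normMap_tmul, map_mul, hφe, map_sub, map_sub, hs, ← IsScalarTower.algebraMap_apply D Dh S, Algebra.smul_def,
          IsScalarTower.algebraMap_apply D S K]
        ring)]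
      exact M.mul_mem_left _ hm
    | add v w hv hw =>
      obtain ⟨z, hz, hvz⟩ := hv
      obtain ⟨z', hz', hwz⟩ := hw
      refine ⟨z + z', add_mem hz hz', fun M hM h => ?_⟩
      have i1 : IsIntegral S (φ (normMap A E v) - z) :=
        (hint v).sub ((hD' z).1 (span_le_of_hD' hle hD' hz)).1.tower_top
      have i2 : IsIntegral S (φ (normMap A E w) - z') :=
        (hint w).sub ((hD' z').1 (span_le_of_hD' hle hD' hz')).1.tower_top
      rw [show (⟨_, h⟩ : T) = ⟨_, i1⟩ + ⟨_, i2⟩ from Subtype.ext (by
        show φ (normMap A E (v + w)) - (z + z') = φ (normMap A E v) - z + (φ (normMap A E w) - z')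
        rw [map_add, map_add]; ring)]
      exact M.add_mem (hvz M hM i1) (hwz M hM i2)
  obtain ⟨z, hz, hzM⟩ := key u
  refine ⟨⟨z, span_le_of_hD' hle hD' hz⟩, hz, Ideal.mem_sInf.2 fun {N} hN => ?_⟩
  obtain ⟨M, hM, hMN⟩ := exists_max_over_of_injective D Dh hinj D' hD' N hN.2
  refine (hMN _ ((hD' _).1 (x - ⟨z, span_le_of_hD' hle hD' hz⟩ : D').2).1.tower_top).2 ?_
  have i3 : IsIntegral S (φ (normMap A E u) - z) :=
    (hint u).sub ((hD' z).1 (span_le_of_hD' hle hD' hz)).1.tower_top
  convert hzM M hM i3 using 1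
  refine Subtype.ext ?_
  show (x : K) - z = φ (normMap A E u) - z
  rw [hu, hy]

include hS hDh in
/-- A union of essentially étale subalgebras gives the residual kernel. -/
theorem residue_ker_of_union [IsReduced A] [IsNoetherianRing A] (hinj : Function.Injective (algebraMap Dh S))
    (hunion : ∀ s : Finset S, (s : Set S) ⊆ Set.range (algebraMap Dh S) →
      ∃ E : Subalgebra A S, (s : Set S) ⊆ (E : Set S) ∧ (E : Set S) ⊆ Set.range (algebraMap Dh S) ∧
        ∃ _ : IsLocalRing E, EGA4loc.IsEssentiallyEtale A E)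
    (A' D' : Subalgebra A (FractionRing S))
    (hA' : ∀ x : (FractionRing S), x ∈ A' ↔ (IsIntegral A x ∧
      ∃ a ∈ nonZeroDivisors A, ∃ b : A, algebraMap A (FractionRing S) a * x = algebraMap A (FractionRing S) b))
    (hD' : ∀ x : (FractionRing S), x ∈ D' ↔ (IsIntegral D x ∧
      ∃ a ∈ nonZeroDivisors A, ∃ d ∈ D, algebraMap A (FractionRing S) a * x = algebraMap S (FractionRing S) d))
    (hle : A' ≤ D') (π : A' ⊗[A] D →ₐ[A] D')
    (hπ : ∀ a d, (π (a ⊗ₜ d) : FractionRing S) = (a : FractionRing S) * algebraMap S (FractionRing S) (d : S))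
    (z : A' ⊗[A] D) :
    π z ∈ Ideal.jacobson (⊥ : Ideal D') ↔
      z ∈ (Ideal.jacobson (⊥ : Ideal A')).map (Algebra.TensorProduct.includeLeft : A' →ₐ[A] A' ⊗[A] D) ⊔
        (maximalIdeal D).map (Algebra.TensorProduct.includeRight : D →ₐ[A] A' ⊗[A] D) := by
  classical
  let K := FractionRing S
  let T := integralClosure S K
  haveI : Algebra.IsIntegral S T := ⟨fun z => IsIntegralClosure.isIntegral S K z⟩
  haveI : IsScalarTower A S T :=
    IsScalarTower.of_algebraMap_eq fun a => Subtype.ext (IsScalarTower.algebraMap_apply A S K a)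
  haveI := isLocalHom_comparison D Dh (S := S)
  haveI := isLocalHom_base D
  have hintD : ∀ y ∈ D', IsIntegral S y := fun y hy => ((hD' y).1 hy).1.tower_top
  let jA : D' →ₐ[A] T :=
    { toFun := fun y => ⟨(y : K), hintD y y.2⟩
      map_one' := rfl
      map_mul' := fun _ _ => rfl
      map_zero' := rfl
      map_add' := fun _ _ => rfl
      commutes' := fun a => Subtype.ext (IsScalarTower.algebraMap_apply A S K a) }
  haveI : Algebra.IsIntegral A A' :=
    ⟨fun x => (isIntegral_algHom_iff A'.val Subtype.val_injective).1 ((hA' _).1 x.2).1⟩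
  constructor
  · intro hz
    obtain ⟨sz, hsz⟩ := TensorProduct.exists_finset z
    let Fs : Finset S := sz.image fun i => ((i.2 : D) : S)
    have hFs : (Fs : Set S) ⊆ Set.range (algebraMap Dh S) := by
      intro s hs
      obtain ⟨i, -, rfl⟩ := Finset.mem_image.1 hs
      exact ⟨algebraMap D Dh i.2, (IsScalarTower.algebraMap_apply D Dh S i.2).symm⟩
    obtain ⟨E, hFE, hEH, hEl, hE⟩ := hunion Fs hFs
    haveI := hEl
    haveI := isLocalHom_base E
    haveI : IsLocalHom (algebraMap E S) := Hensel.essEt_hom_local hE E.val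
    obtain ⟨hu, hft⟩ := Hensel.essEt_unramified hE
    haveI := hu
    haveI := hft
    let zE : A' ⊗[A] E := ∑ i ∈ sz.attach, i.1.1 ⊗ₜ (⟨(i.1.2 : S), hFE (Finset.mem_coe.2
      (Finset.mem_image_of_mem (fun j : A' × D => ((j.2 : D) : S)) i.2))⟩ : E)
    let I := Ideal.jacobson (⊥ : Ideal A')
    have hzE : zE ∈ I.map (Algebra.TensorProduct.includeLeft : A' →ₐ[A] A' ⊗[A] E) := by
      refine mem_map_of_isRadical hE I (Ideal.isRadical_jacobson (⊥ : Ideal A')) zE fun P hP hJP => ?_
      haveI := hP
      obtain ⟨Ω, _, _, _, ω₀, hω⟩ := exists_geometric_point (A := A) (R := A' ⊗[A] E) P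
      have hω₀ : ∀ w, ω₀ w = 0 → w ∈ P := fun w hw => (hω w).1 hw
      have hω₀' : ∀ w ∈ P, ω₀ w = 0 := fun w hw => (hω w).2 hw
      let ω₀E : E →ₐ[A] Ω := ω₀.comp (Algebra.TensorProduct.includeRight)
      have hmE : ∀ e ∈ maximalIdeal E, ω₀E e = 0 := by
        intro e he
        rw [← Algebra.FormallyUnramified.map_maximalIdeal (R := A) (S := E)] at he
        refine (Ideal.map_le_iff_le_comap.2 (fun a ha => ?_) : _ ≤ RingHom.ker ω₀E.toRingHom) he
        rw [Ideal.mem_comap, RingHom.mem_ker]
        show ω₀E (algebraMap A E a) = 0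
        rw [AlgHom.commutes, ← AlgHom.commutes ω₀ a]
        refine hω₀' _ (hJP ?_)
        rw [← AlgHom.commutes (Algebra.TensorProduct.includeLeft : A' →ₐ[A] A' ⊗[A] E) a]
        refine Ideal.mem_map_of_mem _ (Ideal.mem_sInf.2 fun {N} hN => ?_)
        haveI := hN.2
        have h2 : N.comap (algebraMap A A') = maximalIdeal A :=
          eq_maximalIdeal (Ideal.isMaximal_comap_of_isIntegral_of_isMaximal N)
        rw [← h2] at ha
        exact ha
      letI : Algebra (ResidueField E) Ω := (Ideal.Quotient.lift (maximalIdeal E) ω₀E.toRingHom hmE).toAlgebra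
      haveI := hS.isSepClosure
      haveI : IsScalarTower (ResidueField A) (ResidueField E) (ResidueField S) := IsScalarTower.of_algebraMap_eq fun w => by
        obtain ⟨a, rfl⟩ := residue_surjective w
        rfl
      haveI : Algebra.IsAlgebraic (ResidueField E) (ResidueField S) := by
        haveI : Algebra.IsAlgebraic (ResidueField A) (ResidueField S) := Algebra.IsSeparable.isAlgebraic _ _
        exact Algebra.IsAlgebraic.tower_top (K := ResidueField A) (L := ResidueField E)
      let ψ : ResidueField S →ₐ[ResidueField E] Ω := IsAlgClosed.lift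
      let θS : S →ₐ[A] Ω :=
        { ψ.toRingHom.comp (residue S) with
          commutes' := fun a => by
            show ψ (residue S (algebraMap A S a)) = algebraMap A Ω a
            rw [show residue S (algebraMap A S a) = algebraMap (ResidueField E) (ResidueField S)
              (residue E (algebraMap A E a)) from rfl, ψ.commutes]
            exact ω₀E.commutes a }
      have hθE : ∀ e : E, θS (e : S) = ω₀E e := fun e => by
        show ψ (residue S (e : S)) = _
        rw [show residue S (e : S) = algebraMap (ResidueField E) (ResidueField S) (residue E e) from rfl, ψ.commutes]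
        rfl
      let ω : A' ⊗[A] S →ₐ[A] Ω := Algebra.TensorProduct.lift (ω₀.comp Algebra.TensorProduct.includeLeft) θS
        fun _ _ => Commute.all _ _
      obtain ⟨M, hM, hMw⟩ := exists_max_of_point A' hA' Ω ω fun s hs => by
        rw [Algebra.TensorProduct.lift_tmul, map_one, one_mul]
        show ψ (residue S s) = 0
        rw [(residue_eq_zero_iff s).2 hs, map_zero]
      haveI := hM
      let zS : A' ⊗[A] S := ∑ i ∈ sz.attach, i.1.1 ⊗ₜ (i.1.2 : S)
      have hzS : shMap A' zS = (π z : K) := by
        conv_rhs => rw [hsz, ← Finset.sum_attach sz]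
        rw [map_sum, map_sum, AddSubmonoidClass.coe_finsetSum]
        exact Finset.sum_congr rfl fun i _ => (shMap_tmul A' _ _).trans (hπ _ _).symm
      have h1 := Ideal.mem_sInf.1 hz ⟨bot_le, isMaximal_comap_of_sepClosure (A := A) (S := S) D' T jA M⟩
      have h2 : ω zS = 0 := (hMw zS (hzS ▸ hintD _ (π z).2)).1 (by
        convert (show jA (π z) ∈ M from h1) using 1
        exact Subtype.ext hzS)
      refine hω₀ _ ?_
      rw [← h2, map_sum, map_sum]
      refine Finset.sum_congr rfl fun i _ => ?_
      rw [Algebra.TensorProduct.lift_tmul, hθE ⟨(i.1.2 : S), hFE (Finset.mem_coe.2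
        (Finset.mem_image_of_mem (fun j : A' × D => ((j.2 : D) : S)) i.2))⟩]
      show _ = ω₀ (_ ⊗ₜ 1) * ω₀ (1 ⊗ₜ _)
      rw [← map_mul, Algebra.TensorProduct.tmul_mul_tmul, mul_one, one_mul]
    -- reduce to the residue field
    letI : Algebra A Dh := ((algebraMap D Dh).comp (algebraMap A D)).toAlgebra
    let qD : D →ₐ[A] (ResidueField Dh) := { (residue Dh).comp (algebraMap D Dh) with commutes' := fun _ => rfl }
    have hqD : Function.Surjective qD := fun w => by
      obtain ⟨s, rfl⟩ := residue_surjective w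
      obtain ⟨r, hr⟩ := Hensel.henselization_exists_sub_mem D Dh s
      refine ⟨r, ?_⟩
      show residue Dh (algebraMap D Dh r) = residue Dh s
      rw [eq_comm, ← sub_eq_zero, ← map_sub, residue_eq_zero_iff]
      exact hr
    have hkerD : RingHom.ker qD = maximalIdeal D := by
      ext r
      rw [RingHom.mem_ker]
      show residue Dh (algebraMap D Dh r) = 0 ↔ _
      rw [residue_eq_zero_iff, mem_maximalIdeal, mem_maximalIdeal, mem_nonunits_iff, mem_nonunits_iff]
      exact not_congr ⟨fun hu => isUnit_of_map_unit (algebraMap D Dh) r hu, fun hu => hu.map _⟩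
    let θA : Dh →ₐ[A] S :=
      { algebraMap Dh S with
        commutes' := fun a => by
          show algebraMap Dh S (algebraMap D Dh (algebraMap A D a)) = _
          rw [← IsScalarTower.algebraMap_apply D Dh S]
          rfl }
    let back : θA.range →ₐ[A] Dh := (AlgEquiv.ofInjective θA hinj).symm.toAlgHom
    let qE : E →ₐ[A] (ResidueField Dh) :=
      ({ residue Dh with commutes' := fun _ => rfl } : Dh →ₐ[A] (ResidueField Dh)).comp
        (back.comp (Subalgebra.inclusion (fun e he => hEH he : E ≤ θA.range)))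
    let μD : A' ⊗[A] D →ₐ[A] A' ⊗[A] (ResidueField Dh) := Algebra.TensorProduct.map (AlgHom.id A A') qD
    let μE : A' ⊗[A] E →ₐ[A] A' ⊗[A] (ResidueField Dh) := Algebra.TensorProduct.map (AlgHom.id A A') qE
    have hμ : μD z = μE zE := by
      conv_lhs => rw [hsz, ← Finset.sum_attach sz]
      rw [map_sum, map_sum]
      refine Finset.sum_congr rfl fun i _ => ?_
      rw [Algebra.TensorProduct.map_tmul, Algebra.TensorProduct.map_tmul]
      congr 1
      show residue Dh (algebraMap D Dh i.1.2) = residue Dh ((AlgEquiv.ofInjective θA hinj).symm _)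
      congr 1
      refine ((AlgEquiv.ofInjective θA hinj).symm_apply_eq.2 (Subtype.ext ?_)).symm
      exact IsScalarTower.algebraMap_apply D Dh S i.1.2
    have hmapI : (I.map (Algebra.TensorProduct.includeLeft : A' →ₐ[A] A' ⊗[A] E)).map μE.toRingHom ≤
        (I.map (Algebra.TensorProduct.includeLeft : A' →ₐ[A] A' ⊗[A] D)).map μD.toRingHom := by
      rw [Ideal.map_le_iff_le_comap, Ideal.map_le_iff_le_comap]
      intro i hi
      rw [Ideal.mem_comap, Ideal.mem_comap]
      have h3 := Ideal.mem_map_of_mem μD.toRingHom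
        (Ideal.mem_map_of_mem (Algebra.TensorProduct.includeLeft : A' →ₐ[A] A' ⊗[A] D) hi)
      show μE (i ⊗ₜ 1) ∈ _
      rw [Algebra.TensorProduct.map_tmul, map_one]
      convert h3 using 1
      show _ = μD (i ⊗ₜ 1)
      rw [Algebra.TensorProduct.map_tmul, map_one]
    have hμsurj : Function.Surjective μD := fun w => by
      induction w using TensorProduct.induction_on with
      | zero => exact ⟨0, map_zero _⟩
      | tmul a k =>
        obtain ⟨r, rfl⟩ := hqD k
        exact ⟨a ⊗ₜ r, Algebra.TensorProduct.map_tmul _ _ _ _⟩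
      | add v w hv hw =>
        obtain ⟨v', rfl⟩ := hv
        obtain ⟨w', rfl⟩ := hw
        exact ⟨v' + w', map_add _ _ _⟩
    obtain ⟨i, hi, hiz⟩ := (Ideal.mem_map_iff_of_surjective μD.toRingHom hμsurj).1
      (hmapI (Ideal.mem_map_of_mem μE.toRingHom hzE))
    replace hiz : μD i = μE zE := hiz
    have hker : z - i ∈ RingHom.ker μD := by
      rw [RingHom.mem_ker, map_sub, hμ, hiz, sub_self]
    rw [Algebra.TensorProduct.lTensor_ker qD hqD, hkerD] at hker
    rw [show z = i + (z - i) by ring]
    exact Submodule.add_mem_sup hi hker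
  · intro hz
    refine Ideal.mem_sInf.2 fun {N} hN => ?_
    obtain ⟨M, hM, hMN⟩ := exists_max_over_of_injective D Dh hinj D' hD' N hN.2
    haveI := hM
    refine (sup_le ?_ ?_ : _ ≤ N.comap π.toRingHom) hz
    · refine Ideal.map_le_iff_le_comap.2 fun i hi => ?_
      have h1 := Ideal.mem_sInf.1 hi ⟨bot_le,
        isMaximal_comap_of_sepClosure (A := A) (S := S) A' T (jA.comp (Subalgebra.inclusion hle)) M⟩
      rw [Ideal.mem_comap, Ideal.mem_comap]
      refine (hMN _ (hintD _ (π (i ⊗ₜ 1)).2)).2 ?_
      convert (show jA (Subalgebra.inclusion hle i) ∈ M from h1) using 1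
      refine Subtype.ext ?_
      show (π (i ⊗ₜ 1) : K) = (i : K)
      rw [hπ, OneMemClass.coe_one, map_one, mul_one]
    · refine Ideal.map_le_iff_le_comap.2 fun r hr => ?_
      rw [Ideal.mem_comap, Ideal.mem_comap]
      refine (hMN _ (hintD _ (π (1 ⊗ₜ r)).2)).2 ?_
      have hm : algebraMap S T (r : S) ∈ M := by
        rw [← Ideal.mem_comap, eq_maximalIdeal (Ideal.isMaximal_comap_of_isIntegral_of_isMaximal M)]
        exact map_nonunit (algebraMap D S) r hr
      convert hm using 1
      refine Subtype.ext ?_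
      show (π (1 ⊗ₜ r) : K) = algebraMap S K (r : S)
      rw [hπ, OneMemClass.coe_one, one_mul]

end Groth.Agent.EssSub
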