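/-
Subalgebras fixed by the automorphisms fixing their residues are unions of essentially étale ones.
-/
import Mathlib
import Groth.Agent.EssSub.Normal
import Groth.Agent.EssSub.NormalUnion

set_option autoImplicit false
set_option linter.style.haveILetI false
set_option maxHeartbeats 800000
universe u

open IsLocalRing Polynomial TensorProduct

namespace Groth.Agent.EssSub

variable {A S : Type u} [CommRing A] [IsLocalRing A] [CommRing S] [IsLocalRing S] [Algebra A S]
  [IsLocalHom (algebraMap A S)] [hS : _root_.Hensel.IsStrictHenselization A S]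

include hS in
/-- Two dominated essentially étale subalgebras lie in a third made of their fractions. -/
theorem exists_compositum (E F : Subalgebra A S) (hE : EGA4loc.IsEssentiallyEtale A E)
    (hF : EGA4loc.IsEssentiallyEtale A F) :
    ∃ G : Subalgebra A S, E ≤ G ∧ F ≤ G ∧
      (∀ x ∈ G, ∃ b ∈ E ⊔ F, ∃ c ∈ E ⊔ F, IsUnit c ∧ x * c = b) ∧
      ∃ _ : IsLocalRing G, IsLocalHom (algebraMap G S) ∧ EGA4loc.IsEssentiallyEtale A G := by
  obtain ⟨huE, hftE⟩ := Hensel.essEt_unramified hE
  obtain ⟨huF, hftF⟩ := Hensel.essEt_unramified hF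
  haveI := huE
  haveI := hftE
  haveI := huF
  haveI := hftF
  let μ : E ⊗[A] F →ₐ[A] S := Algebra.TensorProduct.productMap E.val F.val
  have hμ : μ.range = E ⊔ F := by
    rw [Algebra.TensorProduct.productMap_range, Subalgebra.range_val, Subalgebra.range_val]
  let B := μ.range
  haveI : Algebra.FormallyUnramified A (E ⊗[A] F) := Algebra.FormallyUnramified.comp A E (E ⊗[A] F)
  haveI : Algebra.EssFiniteType A (E ⊗[A] F) := Algebra.EssFiniteType.comp A E (E ⊗[A] F)
  haveI : Algebra.FormallyUnramified A B :=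
    Algebra.FormallyUnramified.of_surjective (R := A) (A := E ⊗[A] F) μ.rangeRestrict μ.rangeRestrict_surjective
  haveI : Algebra.EssFiniteType A B :=
    Algebra.EssFiniteType.of_surjective (R := A) (S := E ⊗[A] F) μ.rangeRestrict μ.rangeRestrict_surjective
  haveI := isLocalHom_localizeIn B
  haveI := isLocalRing_localizeIn B
  letI : Algebra B (localizeIn B) := (Subalgebra.inclusion (le_localizeIn B)).toRingHom.toAlgebra
  haveI : IsScalarTower A B (localizeIn B) := IsScalarTower.of_algebraMap_eq fun a => Subtype.ext rfl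
  let M : Submonoid B := (IsUnit.submonoid S).comap B.val
  haveI : IsLocalization M (localizeIn B) := by
    refine ⟨fun c => isUnit_of_map_unit (algebraMap (localizeIn B) S) _ c.2, fun x => ?_, fun {x y} h => ⟨1, ?_⟩⟩
    · obtain ⟨b, hb, c, hc, hu, h⟩ := x.2
      exact ⟨⟨⟨b, hb⟩, ⟨⟨c, hc⟩, hu⟩⟩, Subtype.ext h⟩
    · have h' : (x : S) = y := congrArg (fun z : localizeIn B => (z : S)) h
      rw [Subtype.ext h']
  haveI : Algebra.EssFiniteType B (localizeIn B) := Algebra.EssFiniteType.of_isLocalization (localizeIn B) M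
  haveI : Algebra.EssFiniteType A (localizeIn B) := Algebra.EssFiniteType.comp A B (localizeIn B)
  haveI : Algebra.FormallyUnramified B (localizeIn B) := Algebra.FormallyUnramified.of_isLocalization M
  haveI : Algebra.FormallyUnramified A (localizeIn B) := Algebra.FormallyUnramified.comp A B (localizeIn B)
  exact ⟨localizeIn B, le_sup_left.trans (hμ.ge.trans (le_localizeIn B)),
    le_sup_right.trans (hμ.ge.trans (le_localizeIn B)), fun x hx => hμ ▸ hx, inferInstance, inferInstance,
    essEt_of_unramified _⟩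

include hS in
/-- A residue field element is the residue of a simple root with irreducible reduction. -/
theorem exists_root_of_residue (a₀ : ResidueField S) :
    ∃ (α : S) (f : A[X]), f.Monic ∧ aeval α f = 0 ∧ IsUnit (aeval α f.derivative) ∧ residue S α = a₀ ∧
      Irreducible (f.map (residue A)) := by
  haveI := hS.henselian
  haveI := hS.isSepClosure
  haveI : Algebra.IsAlgebraic (ResidueField A) (ResidueField S) := Algebra.IsSeparable.isAlgebraic _ _
  have hint : IsIntegral (ResidueField A) a₀ := Algebra.IsIntegral.isIntegral a₀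
  obtain ⟨f, hfm, -, hf⟩ := lifts_and_degree_eq_and_monic (f := residue A)
    (p := minpoly (ResidueField A) a₀) (by
      rw [mem_lifts]; exact Polynomial.map_surjective _ residue_surjective _) (minpoly.monic hint)
  obtain ⟨s₀, rfl⟩ := residue_surjective a₀
  have hd : IsUnit (aeval s₀ f.derivative) := by
    rw [← residue_ne_zero_iff_isUnit, GaloisStage.residue_aeval, ← derivative_map, hfm]
    exact (Algebra.IsSeparable.isSeparable (ResidueField A) (residue S s₀)).aeval_derivative_ne_zero (minpoly.aeval _ _)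
  have he : ∀ (c : S) (p : A[X]), (p.map (algebraMap A S)).eval c = aeval c p := fun c p => eval_map_algebraMap _ _
  obtain ⟨α, hα, hαs⟩ := HenselianLocalRing.is_henselian (f.map (algebraMap A S)) (hf.map _) s₀ (by
      rw [← residue_eq_zero_iff, he, GaloisStage.residue_aeval, hfm, minpoly.aeval])
    (by rwa [derivative_map, he])
  have hres : residue S α = residue S s₀ := by rw [← sub_eq_zero, ← map_sub, residue_eq_zero_iff]; exact hαs
  refine ⟨α, f, hf, (he α f).symm.trans hα, ?_, hres, hfm ▸ minpoly.irreducible hint⟩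
  rw [← residue_ne_zero_iff_isUnit, GaloisStage.residue_aeval, hres, ← GaloisStage.residue_aeval,
    residue_ne_zero_iff_isUnit]
  exact hd

include hS in
/-- A simple root with irreducible reduction generates an essentially étale subalgebra. -/
theorem essEt_adjoin_root {α : S} {f : A[X]} (hf : f.Monic) (hr : aeval α f = 0)
    (hirr : Irreducible (f.map (residue A))) :
    ∃ _ : IsLocalRing (Algebra.adjoin A ({α} : Set S)), IsLocalHom (algebraMap (Algebra.adjoin A ({α} : Set S)) S) ∧
      EGA4loc.IsEssentiallyEtale A (Algebra.adjoin A ({α} : Set S)) := by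
  obtain ⟨hl, hh, hm⟩ := GaloisStage.adjoin_root_local hf hr hirr
  haveI := hl
  haveI := hh
  haveI : Module.Finite A (Algebra.adjoin A ({α} : Set S)) :=
    Module.Finite.iff_fg.2 (IsIntegral.fg_adjoin_singleton ⟨f, hf, by rw [← aeval_def, hr]⟩)
  haveI := unramified_of_max _ hm.symm
  exact ⟨hl, hh, essEt_of_unramified _⟩

include hS in
/-- Finitely many elements of the henselization lie in an essentially étale subalgebra inside it. -/
theorem exists_essEt_ge_henselization (h : Hensel.Env A (ResidueField A) →ₐ[A] S) (hhl : IsLocalHom h.toRingHom)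
    (F : Finset S) (hF : (F : Set S) ⊆ Set.range h) :
    ∃ E : Subalgebra A S, (F : Set S) ⊆ E ∧ (E : Set S) ⊆ Set.range h ∧ ∃ _ : IsLocalRing E,
      IsLocalHom (algebraMap E S) ∧ EGA4loc.IsEssentiallyEtale A E := by
  classical
  let K := ResidueField A
  haveI := Hensel.flat_env A K
  choose z hzF using fun x : F => hF x.2
  obtain ⟨P, T, _, _, _, ψ, χ, h1, h2, hinj, hz⟩ := Hensel.exists_local_stage (S := Hensel.Env A K) A K
    (Hensel.envRes A K) (Hensel.envRes_eq_zero_iff A K) (IsScalarTower.toAlgHom A (Hensel.EnvTop A K) (Hensel.Env A K))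
    (Hensel.envRes_algebraMap A K) (Hensel.env_hloc A K) fun k => z (F.equivFin.symm k)
  haveI hψ : IsLocalHom (algebraMap A T) := ⟨fun a ha => by
    refine isUnit_of_map_unit (algebraMap A S) a ?_
    have := (ha.map χ).map h
    rwa [χ.commutes, h.commutes] at this⟩
  let p : Ideal P.Ring := (maximalIdeal T).comap ψ.toRingHom
  have hp : p.IsPrime := Ideal.IsPrime.comap _
  have hpm : ∀ x : p.primeCompl, IsUnit (ψ (x : P.Ring)) := fun x => notMem_maximalIdeal.1 x.2
  have hess : EGA4loc.IsEssentiallyEtale A T := by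
    refine ⟨P.Ring, inferInstance, inferInstance, p, hp, inferInstance, ?_, ?_⟩
    · show ((maximalIdeal T).comap ψ.toRingHom).comap (algebraMap A P.Ring) = _
      rw [Ideal.comap_comap, AlgHom.toRingHom_eq_coe, AlgHom.comp_algebraMap]
      exact ((IsLocalRing.local_hom_TFAE (algebraMap A T)).out 0 4).mp hψ
    · letI : Algebra P.Ring T := ψ.toRingHom.toAlgebra
      haveI : IsScalarTower A P.Ring T := IsScalarTower.of_algebraMap_eq fun a => (ψ.commutes a).symm
      haveI : IsLocalization p.primeCompl T := by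
        refine ⟨fun x => hpm x, fun y => ?_, fun {b b'} h => ?_⟩
        · obtain ⟨b, c, hc, hbc⟩ := h1 y
          exact ⟨⟨b, ⟨c, notMem_maximalIdeal.2 hc⟩⟩, hbc⟩
        · obtain ⟨c, hc, hc0⟩ := h2 (b - b') (by rw [map_sub, sub_eq_zero]; exact h)
          exact ⟨⟨c, notMem_maximalIdeal.2 hc⟩, by
            show c * b = c * b'
            rw [← sub_eq_zero, ← mul_sub, mul_comm]; exact hc0⟩
      exact ⟨((IsLocalization.algEquiv p.primeCompl T (Localization.AtPrime p)).restrictScalars A)⟩
  obtain ⟨hu, hft⟩ := Hensel.essEt_unramified hess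
  have hloc : IsLocalHom (h.comp χ).toRingHom := Hensel.essEt_hom_local hess (h.comp χ)
  haveI := hloc
  have hinj' : Function.Injective (h.comp χ) := injective_of_local T (h.comp χ)
  let e : T ≃ₐ[A] (h.comp χ).range := AlgEquiv.ofInjective _ hinj'
  haveI : IsLocalRing (h.comp χ).range := e.toRingEquiv.isLocalRing
  refine ⟨(h.comp χ).range, fun x hx => ?_, fun y ⟨t, ht⟩ => ⟨χ t, ht⟩, inferInstance, ⟨fun y hy => ?_⟩,
    essEt_equiv hess e.symm⟩
  · obtain ⟨y, hy⟩ := hz (F.equivFin ⟨x, hx⟩)
    refine ⟨y, ?_⟩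
    show h (χ y) = x
    rw [hy, Equiv.symm_apply_apply, hzF]
  · obtain ⟨x, rfl⟩ := e.surjective y
    exact (hloc.map_nonunit x hy).map e

include hS in
/-- A fixed subalgebra containing the henselization is a union of essentially étale subalgebras. -/
theorem exists_essEt_of_fix [IsNoetherianRing A] (H : Subalgebra A S)
    (hHinv : ∀ x ∈ H, IsUnit x → ∃ y ∈ H, x * y = 1)
    (hHroot : ∀ (α : S) (f : A[X]), f.Monic → aeval α f = 0 → IsUnit (aeval α f.derivative) →
      (∃ x ∈ H, residue S α = residue S x) → α ∈ H)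
    (h : Hensel.Env A (ResidueField A) →ₐ[A] S) (hhl : IsLocalHom h.toRingHom) (hh : ∀ z, h z ∈ H)
    (hfix : ∀ g : S ≃ₐ[A] S, (∀ x ∈ H, g x - x ∈ maximalIdeal S) → ∀ x ∈ H, g x = x)
    (F : Finset S) (hF : (F : Set S) ⊆ H) :
    ∃ E : Subalgebra A S, (F : Set S) ⊆ E ∧ E ≤ H ∧ ∃ _ : IsLocalRing E,
      IsLocalHom (algebraMap E S) ∧ EGA4loc.IsEssentiallyEtale A E := by
  classical
  let Good : S → Prop := fun x => ∃ E : Subalgebra A S, x ∈ E ∧ E ≤ H ∧ ∃ _ : IsLocalRing E,
      IsLocalHom (algebraMap E S) ∧ EGA4loc.IsEssentiallyEtale A E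
  have hmerge : ∀ E E' : Subalgebra A S, E ≤ H → E' ≤ H → EGA4loc.IsEssentiallyEtale A E →
      EGA4loc.IsEssentiallyEtale A E' → ∃ G : Subalgebra A S, E ≤ G ∧ E' ≤ G ∧ G ≤ H ∧ ∃ _ : IsLocalRing G,
        IsLocalHom (algebraMap G S) ∧ EGA4loc.IsEssentiallyEtale A G := by
    intro E E' hEH hE'H hE hE'
    obtain ⟨G, h1, h2, h3, hG⟩ := exists_compositum E E' hE hE'
    refine ⟨G, h1, h2, fun x hx => ?_, hG⟩
    obtain ⟨b, hb, c, hc, hu, hxc⟩ := h3 x hx
    obtain ⟨y, hy, hcy⟩ := hHinv c (sup_le hEH hE'H hc) hu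
    rw [show x = b * y by rw [← hxc, mul_assoc, hcy, mul_one]]
    exact mul_mem (sup_le hEH hE'H hb) hy
  haveI hlA : IsLocalHom (algebraMap A (Hensel.Env A (ResidueField A))) := (Hensel.exists_henselization A).choose
  haveI hAh : _root_.Hensel.IsHenselization A (Hensel.Env A (ResidueField A)) :=
    (Hensel.exists_henselization A).choose_spec
  let Ah := Hensel.Env A (ResidueField A)
  haveI : HenselianLocalRing Ah := hAh.henselian
  haveI : IsNoetherianRing Ah := (Hensel.henselization_isNoetherianRing_iff A Ah).1 inferInstance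
  letI : Algebra Ah S := h.toRingHom.toAlgebra
  haveI : IsScalarTower A Ah S := IsScalarTower.of_algebraMap_eq fun a => (h.commutes a).symm
  haveI : IsLocalHom (algebraMap Ah S) := hhl
  haveI := tower_strict A Ah S
  let H' : Subalgebra Ah S := { H.toSubsemiring with algebraMap_mem' := hh }
  let R : Set S := {α | ∃ f : A[X], f.Monic ∧ aeval α f = 0 ∧ IsUnit (aeval α f.derivative) ∧
    Irreducible (f.map (residue A)) ∧ ∃ x ∈ H, residue S α = residue S x}
  let B : Subalgebra Ah S := Algebra.adjoin Ah R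
  have hfixB : ∀ τ ∈ GaloisStage.resFix (A := Ah) (S := S) B, ∀ d ∈ B, τ • d = d := fun τ hτ d hd => by
    have hle : B ≤ AlgHom.equalizer (GaloisStage.smulAlg Ah S τ) (AlgHom.id Ah S) := by
      refine Algebra.adjoin_le fun α hα => ?_
      obtain ⟨f, hf, hr, hd, -, -⟩ := id hα
      show τ • α = α
      exact GaloisStage.smul_eq_of_residue (f := f.map (algebraMap A Ah)) (by rw [aeval_map_algebraMap]; exact hr)
        (by rw [derivative_map, aeval_map_algebraMap]; exact hd) ((GaloisStage.mem_resFix (D := B)).1 hτ α (Algebra.subset_adjoin hα))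
    exact hle hd
  have hmono : ∀ τ ∈ GaloisStage.resFix (A := Ah) (S := S) B, τ ∈ GaloisStage.resFix (A := Ah) (S := S) H' := fun τ hτ =>
      (GaloisStage.mem_resFix (A := Ah) (S := S) (D := H')).2 fun x (hx : x ∈ H) => by
    obtain ⟨α, f, hf, hr, hd, hres, hirr⟩ := exists_root_of_residue (A := A) (residue S x)
    rw [← hres]
    have hαR : α ∈ R := ⟨f, hf, hr, hd, hirr, x, hx, hres⟩
    exact (GaloisStage.mem_resFix (D := B)).1 hτ α (Algebra.subset_adjoin hαR)
  have hHfix : ∀ τ ∈ GaloisStage.resFix (A := Ah) (S := S) H', ∀ x ∈ H, τ • x = x := fun τ hτ x hx => by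
    refine hfix ((MulSemiringAction.toAlgEquiv Ah S τ).restrictScalars A) (fun y hy => ?_) x hx
    rw [← residue_eq_zero_iff, map_sub, sub_eq_zero]
    show residue S (τ • y) = _
    rw [GaloisStage.residue_smul]
    exact (GaloisStage.mem_resFix (D := H')).1 hτ y hy
  have hgoodB : ∀ x ∈ B, Good x := by
    intro x hx
    induction hx using Algebra.adjoin_induction with
    | mem α hα =>
      obtain ⟨f, hf, hr, hd, hirr, hy⟩ := hα
      exact ⟨_, Algebra.self_mem_adjoin_singleton A α,
        Algebra.adjoin_le (Set.singleton_subset_iff.2 (hHroot α f hf hr hd hy)), essEt_adjoin_root hf hr hirr⟩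
    | algebraMap r =>
      obtain ⟨E, h1, h2, hE⟩ := exists_essEt_ge_henselization h hhl ({h r} : Finset S) (by
        rw [Finset.coe_singleton, Set.singleton_subset_iff]; exact ⟨r, rfl⟩)
      exact ⟨E, h1 (by simp; rfl), fun y hy => by obtain ⟨z, rfl⟩ := h2 hy; exact hh z, hE⟩
    | add y z _ _ ihy ihz =>
      obtain ⟨E, h1, h2, _, _, hE⟩ := ihy
      obtain ⟨E', h1', h2', _, _, hE'⟩ := ihz
      obtain ⟨G, hG1, hG2, hG⟩ := hmerge E E' h2 h2' hE hE'
      exact ⟨G, add_mem (hG1 h1) (hG2 h1'), hG⟩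
    | mul y z _ _ ihy ihz =>
      obtain ⟨E, h1, h2, _, _, hE⟩ := ihy
      obtain ⟨E', h1', h2', _, _, hE'⟩ := ihz
      obtain ⟨G, hG1, hG2, hG⟩ := hmerge E E' h2 h2' hE hE'
      exact ⟨G, mul_mem (hG1 h1) (hG2 h1'), hG⟩
  have hgoodH : ∀ x ∈ H, Good x := by
    intro x hx
    obtain ⟨st, hst⟩ := GaloisStage.exists_stage Ah ({x} : Finset S)
    let xs : st.ring := ⟨x, hst (by simp)⟩
    have h1 : xs ∈ B.comap st.ring.val := (GaloisStage.inter_stage_fixed_iff B hfixB st xs).2
      ((GaloisStage.stageGroup_fixed_iff (D := B) xs).2 fun τ hτ => hHfix τ (hmono τ hτ) x hx)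
    have hxB : x ∈ B := h1
    exact hgoodB x hxB
  choose G hG hGH hGl hGh hGe using hgoodH
  induction F using Finset.induction with
  | empty =>
    obtain ⟨E, h1, h2, hE⟩ := exists_essEt_ge_henselization h hhl (∅ : Finset S) (by simp)
    exact ⟨E, by simp, fun y hy => by obtain ⟨z, rfl⟩ := h2 hy; exact hh z, hE⟩
  | insert a F' _ ih =>
    rw [Finset.coe_insert, Set.insert_subset_iff] at hF
    obtain ⟨E, hE1, hE2, _, _, hE⟩ := ih hF.2
    obtain ⟨E', h1, h2, h3, hE'⟩ := hmerge (G a hF.1) E (hGH a hF.1) hE2 (hGe a hF.1) hE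
    exact ⟨E', by rw [Finset.coe_insert, Set.insert_subset_iff]; exact ⟨h1 (hG a hF.1), hE1.trans h2⟩, h3, hE'⟩

end Groth.Agent.EssSub
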