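/-
Residual surjectivity of the normalisation makes a subalgebra fixed by the automorphisms fixing its residues.
-/
import Mathlib
import Groth.Agent.EssSub.SHPoint

set_option autoImplicit false
set_option linter.style.haveILetI false
set_option maxHeartbeats 1600000
universe u

open IsLocalRing Polynomial TensorProduct

namespace Groth.Agent.EssSub

/-- Two maps out of a ring agree when their difference is killed at every maximal ideal. -/
theorem eq_of_forall_max {T : Type u} [CommRing T] (J : Ideal T) (hJ : J.FG)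
    (h : ∀ M : Ideal T, M.IsMaximal → J ≤ M * J) : J = ⊥ := by
  refine eq_bot_iff.2 fun x hx => ?_
  let Ann : Ideal T := (⊥ : Ideal T).colon (J : Set T)
  suffices hA : Ann = ⊤ by
    have h1 := Submodule.mem_colon.1 (hA ▸ Submodule.mem_top : (1 : T) ∈ Ann) x hx
    rwa [one_smul] at h1
  by_contra hA
  obtain ⟨M, hM, hAM⟩ := Ideal.exists_le_maximal _ hA
  obtain ⟨r, hr, hrJ⟩ := Submodule.exists_sub_one_mem_and_smul_eq_zero_of_fg_of_le_smul M J hJ (h M hM)
  have hrA : r ∈ Ann := Submodule.mem_colon.2 fun n hn => by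
    rw [hrJ n hn]
    exact zero_mem _
  have h2 := M.sub_mem (hAM hrA) hr
  rw [sub_sub_cancel] at h2
  exact hM.ne_top ((Ideal.eq_top_iff_one _).2 h2)

/-- An ideal element divided by an element outside a maximal ideal. -/
theorem mem_mul_of_mul_mem {T : Type u} [CommRing T] {M J : Ideal T} (hM : M.IsMaximal) {v x : T} (hv : v ∉ M)
    (hx : x ∈ J) (h : v * x ∈ M * J) : x ∈ M * J := by
  obtain ⟨v', m, hm, h1⟩ := hM.exists_inv hv
  have h2 : x = v' * (v * x) + m * x := by linear_combination (-x) * h1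
  rw [h2]
  exact add_mem (Ideal.mul_mem_left _ _ h) (Ideal.mul_mem_mul hm hx)

/-- Elements of a flat algebra detect membership in extended ideals at a point. -/
theorem exists_notMem_mul_mem {C T : Type u} [CommRing C] [CommRing T] [Algebra C T] [Module.Flat C T]
    (I : Ideal C) (M : Ideal T) [M.IsPrime] {c : C} {s : T} (hs : s ∉ M)
    (h : algebraMap C T c * s ∈ I.map (algebraMap C T)) :
    ∃ u : C, algebraMap C T u ∉ M ∧ u * c ∈ I := by
  let Q : Ideal C := M.comap (algebraMap C T)
  haveI : Q.IsPrime := Ideal.IsPrime.comap _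
  let CQ := Localization.AtPrime Q
  let TM := Localization.AtPrime M
  letI : Algebra CQ TM := (Localization.localRingHom Q M (algebraMap C T) rfl).toAlgebra
  haveI : IsScalarTower C CQ TM := IsScalarTower.of_algebraMap_eq fun x => by
    rw [IsScalarTower.algebraMap_apply C T TM]
    exact (Localization.localRingHom_to_map Q M (algebraMap C T) rfl x).symm
  haveI : Module.Flat C TM := Module.Flat.trans C T TM
  haveI : Module.Flat CQ TM := (Module.flat_iff_of_isLocalization CQ Q.primeCompl TM).2 ‹_›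
  haveI : IsLocalHom (algebraMap CQ TM) := Localization.isLocalHom_localRingHom Q M (algebraMap C T) rfl
  haveI : Module.FaithfullyFlat CQ TM := Module.FaithfullyFlat.of_flat_of_isLocalHom
  have h1 : algebraMap C CQ c ∈ I.map (algebraMap C CQ) := by
    rw [← Ideal.comap_map_eq_self_of_faithfullyFlat (B := TM) (I.map (algebraMap C CQ)), Ideal.mem_comap,
      ← IsScalarTower.algebraMap_apply, Ideal.map_map, ← IsScalarTower.algebraMap_eq,
      IsScalarTower.algebraMap_eq C T TM, ← Ideal.map_map, RingHom.comp_apply]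
    have h2 := Ideal.mem_map_of_mem (algebraMap T TM) h
    rwa [map_mul, Ideal.mul_unit_mem_iff_mem _ (IsLocalization.map_units TM (⟨s, hs⟩ : M.primeCompl))] at h2
  obtain ⟨u, hu, huc⟩ := (IsLocalization.algebraMap_mem_map_algebraMap_iff Q.primeCompl CQ I c).1 h1
  exact ⟨u, hu, huc⟩

/-- Images of a separable extension lie in the relative separable closure. -/
theorem mem_separableClosure_of_algHom {k k₁ L kS : Type u} [Field k] [Field k₁] [Field L] [Field kS] [Algebra k k₁]
    [Algebra k L] [Algebra k₁ L] [IsScalarTower k k₁ L] [Algebra k kS] [Algebra.IsSeparable k kS]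
    (ψ : kS →ₐ[k] L) (e : kS) : ψ e ∈ separableClosure k₁ L :=
  mem_separableClosure_iff.2 (IsSeparable.tower_top k₁
    (IsSeparable.map ψ ψ.toRingHom.injective (Algebra.IsSeparable.isSeparable k e)))

/-- Residually separable elements satisfy residually separable equations. -/
theorem exists_poly_sep {A S B T : Type u} [CommRing A] [IsLocalRing A] [CommRing S] [IsLocalRing S] [Algebra A S]
    [IsLocalHom (algebraMap A S)] [Algebra.IsSeparable (ResidueField A) (ResidueField S)]
    [CommRing B] [Algebra A B] [CommRing T] [Algebra A T] (σ : S →ₐ[A] T) (β : B →ₐ[A] T) (M : Ideal T) [M.IsMaximal]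
    [hP : (M.comap β.toRingHom).IsMaximal] (hσ : ∀ s ∈ maximalIdeal S, σ s ∈ M) {x y : T}
    (hy : y ∈ Subring.closure (Set.range β ∪ Set.range σ)) (hxy : x - y ∈ M) :
    ∃ p : B[X], (p.map β.toRingHom).eval x ∈ M ∧ (p.map β.toRingHom).derivative.eval x ∉ M := by
  let P : Ideal B := M.comap β.toRingHom
  haveI : P.IsMaximal := hP
  letI := Ideal.Quotient.field P
  letI := Ideal.Quotient.field M
  letI : Algebra (B ⧸ P) (T ⧸ M) := (Ideal.quotientMap M β.toRingHom le_rfl).toAlgebra
  let ψ : ResidueField S →+* T ⧸ M := Ideal.Quotient.lift (maximalIdeal S) ((Ideal.Quotient.mk M).comp σ.toRingHom)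
    fun s hs => Ideal.Quotient.eq_zero_iff_mem.2 (hσ s hs)
  letI : Algebra (ResidueField A) (T ⧸ M) := (ψ.comp (algebraMap (ResidueField A) (ResidueField S))).toAlgebra
  letI : Algebra (ResidueField A) (B ⧸ P) :=
    (Ideal.Quotient.lift (maximalIdeal A) ((Ideal.Quotient.mk P).comp (algebraMap A B)) fun a ha => by
      refine Ideal.Quotient.eq_zero_iff_mem.2 ?_
      show β (algebraMap A B a) ∈ M
      rw [AlgHom.commutes, ← σ.commutes]
      exact hσ _ (map_nonunit (algebraMap A S) a ha)).toAlgebra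
  haveI : IsScalarTower (ResidueField A) (B ⧸ P) (T ⧸ M) := IsScalarTower.of_algebraMap_eq fun z => by
    obtain ⟨a, rfl⟩ := residue_surjective z
    show Ideal.Quotient.mk M (σ (algebraMap A S a)) = Ideal.Quotient.mk M (β (algebraMap A B a))
    rw [AlgHom.commutes, AlgHom.commutes]
  let ψA : ResidueField S →ₐ[ResidueField A] T ⧸ M := { ψ with commutes' := fun _ => rfl }
  let F := separableClosure (B ⧸ P) (T ⧸ M)
  have hyF : Ideal.Quotient.mk M y ∈ F := by
    have h1 : Subring.closure (Set.range β ∪ Set.range σ) ≤ F.toSubfield.toSubring.comap (Ideal.Quotient.mk M) := by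
      rw [Subring.closure_le]
      rintro _ (⟨b, rfl⟩ | ⟨e, rfl⟩)
      · exact F.algebraMap_mem (Ideal.Quotient.mk P b)
      · have h2 := mem_separableClosure_of_algHom (k₁ := B ⧸ P) ψA (residue S e)
        rw [show ψA (residue S e) = Ideal.Quotient.mk M (σ e) from rfl] at h2
        exact h2
    exact h1 hy
  rw [← Ideal.Quotient.mk_eq_mk_iff_sub_mem] at hxy
  rw [← hxy] at hyF
  have hsep := mem_separableClosure_iff.1 hyF
  obtain ⟨p, hp⟩ := Polynomial.map_surjective (Ideal.Quotient.mk P) Ideal.Quotient.mk_surjective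
    (minpoly (B ⧸ P) (Ideal.Quotient.mk M x))
  have hev : ∀ q : B[X], Ideal.Quotient.mk M ((q.map β.toRingHom).eval x) =
      aeval (Ideal.Quotient.mk M x) (q.map (Ideal.Quotient.mk P)) := fun q => by
    rw [eval_map, hom_eval₂, aeval_def, eval₂_map]
    rfl
  refine ⟨p, by rw [← Ideal.Quotient.eq_zero_iff_mem, hev, hp, minpoly.aeval], fun h => ?_⟩
  rw [derivative_map, ← Ideal.Quotient.eq_zero_iff_mem, hev, ← derivative_map, hp] at h
  exact Separable.aeval_derivative_ne_zero hsep (minpoly.aeval _ _) h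

variable {A S : Type u} [CommRing A] [IsLocalRing A] [CommRing S] [IsLocalRing S] [Algebra A S]
  [IsLocalHom (algebraMap A S)] [hS : _root_.Hensel.IsStrictHenselization A S]

include hS in
/-- Residual surjectivity of the normalisation fixes the subalgebra. -/
theorem fixed_of_residue [IsReduced A] (hA : EGA4.IsExcellent A) (D : Subalgebra A S) [IsLocalRing D]
    [IsLocalHom (algebraMap D S)] (A' D' : Subalgebra A (FractionRing S))
    (hA' : ∀ x : (FractionRing S), x ∈ A' ↔ (IsIntegral A x ∧
      ∃ a ∈ nonZeroDivisors A, ∃ b : A, algebraMap A (FractionRing S) a * x = algebraMap A (FractionRing S) b))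
    (hD' : ∀ x : (FractionRing S), x ∈ D' ↔ (IsIntegral D x ∧
      ∃ a ∈ nonZeroDivisors A, ∃ d ∈ D, algebraMap A (FractionRing S) a * x = algebraMap S (FractionRing S) d))
    (hle : A' ≤ D')
    (hres : ∀ x : D', ∃ z : D', (z : FractionRing S) ∈ Submodule.span D (A' : Set (FractionRing S)) ∧
      x - z ∈ Ideal.jacobson (⊥ : Ideal D'))
    (g : S ≃ₐ[A] S) (hg : ∀ d : D, g (d : S) - (d : S) ∈ maximalIdeal S) (d : D) : g (d : S) = d := by
  classical
  haveI : IsNoetherianRing A := hA.1
  haveI := hS.isSepClosure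
  have hmin : (minimalPrimes A).Finite := minimalPrimes.finite_of_isNoetherianRing A
  let K := FractionRing S
  let T := integralClosure S K
  let G : K ≃ₐ[A] K := IsFractionRing.algEquivOfAlgEquiv g
  have hG : ∀ s : S, G (algebraMap S K s) = algebraMap S K (g s) := fun s =>
    IsFractionRing.algEquivOfAlgEquiv_algebraMap g s
  have hGint : ∀ x : K, IsIntegral S x → IsIntegral S (G x) := fun x ⟨p, hp, hpx⟩ => by
    refine ⟨p.map (g : S →+* S), hp.map _, ?_⟩
    rw [eval₂_map, show (algebraMap S K).comp (g : S →+* S) = (G : K →+* K).comp (algebraMap S K) from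
      RingHom.ext fun s => (hG s).symm]
    show eval₂ _ ((G : K →+* K) x) p = 0
    rw [← hom_eval₂, hpx, map_zero]
  have hGfix : ∀ x ∈ A', G x = x := fun x hx => by
    obtain ⟨-, a, ha, b, hab⟩ := (hA' x).1 hx
    refine (isUnit_baseSH ha).mul_left_cancel ?_
    have h1 := congrArg G hab
    rw [map_mul, AlgEquiv.commutes, AlgEquiv.commutes] at h1
    rw [h1, hab]
  have hintD : ∀ y ∈ D', IsIntegral S y := fun y hy => ((hD' y).1 hy).1.tower_top
  haveI : Algebra.IsIntegral S T := ⟨fun z => IsIntegralClosure.isIntegral S K z⟩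
  haveI : IsScalarTower A S T :=
    IsScalarTower.of_algebraMap_eq fun a => Subtype.ext (IsScalarTower.algebraMap_apply A S K a)
  let jA : D' →ₐ[A] T :=
    { toFun := fun y => ⟨(y : K), hintD y y.2⟩
      map_one' := rfl
      map_mul' := fun _ _ => rfl
      map_zero' := rfl
      map_add' := fun _ _ => rfl
      commutes' := fun a => Subtype.ext (IsScalarTower.algebraMap_apply A S K a) }
  let jG : D' →ₐ[A] T :=
    { toFun := fun y => ⟨G (y : K), hGint _ (hintD y y.2)⟩
      map_one' := Subtype.ext (map_one G)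
      map_mul' := fun y z => Subtype.ext (map_mul G (y : K) z)
      map_zero' := Subtype.ext (map_zero G)
      map_add' := fun y z => Subtype.ext (map_add G (y : K) z)
      commutes' := fun a => Subtype.ext ((AlgEquiv.commutes G a).trans (IsScalarTower.algebraMap_apply A S K a)) }
  have hmS : ∀ M : Ideal T, M.IsMaximal → ∀ s : S, (algebraMap S T s ∈ M ↔ s ∈ maximalIdeal S) := fun M hM s => by
    haveI := hM
    rw [← Ideal.mem_comap, IsLocalRing.eq_maximalIdeal (Ideal.isMaximal_comap_of_isIntegral_of_isMaximal M)]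
  -- congruence modulo every maximal ideal
  have hcong : ∀ M : Ideal T, M.IsMaximal → ∀ y : D', jG y - jA y ∈ M := fun M hM y => by
    haveI := hM
    obtain ⟨z, hz, hr⟩ := hres y
    have h1 := Ideal.mem_sInf.1 hr ⟨bot_le, isMaximal_comap_of_sepClosure (A := A) (S := S) D' T jA M⟩
    have h2 := Ideal.mem_sInf.1 hr ⟨bot_le, isMaximal_comap_of_sepClosure (A := A) (S := S) D' T jG M⟩
    rw [Ideal.mem_comap] at h1 h2
    have hspan : ∀ w ∈ Submodule.span D (A' : Set K), ∃ h : w ∈ D', jG ⟨w, h⟩ - jA ⟨w, h⟩ ∈ M := by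
      intro w hw
      induction hw using Submodule.span_induction with
      | mem b hb => exact ⟨hle hb, by
          rw [show jG ⟨b, hle hb⟩ = jA ⟨b, hle hb⟩ from Subtype.ext (hGfix b hb), sub_self]; exact M.zero_mem⟩
      | zero => exact ⟨zero_mem _, by
          rw [show (⟨(0 : K), _⟩ : D') = 0 from rfl, map_zero, map_zero, sub_self]; exact M.zero_mem⟩
      | add v w _ _ hv hw =>
        obtain ⟨h, hv⟩ := hv
        obtain ⟨h', hw⟩ := hw
        refine ⟨add_mem h h', ?_⟩
        rw [show (⟨v + w, add_mem h h'⟩ : D') = ⟨v, h⟩ + ⟨w, h'⟩ from rfl, map_add, map_add, add_sub_add_comm]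
        exact M.add_mem hv hw
      | smul e v _ hv =>
        obtain ⟨h, hv⟩ := hv
        have h' : e • v ∈ D' := by rw [Algebra.smul_def]; exact mul_mem (mem_of_hD' hD' e) h
        refine ⟨h', ?_⟩
        let eD : D' := ⟨_, mem_of_hD' hD' e⟩
        rw [show (⟨e • v, h'⟩ : D') = eD * ⟨v, h⟩ from Subtype.ext (Algebra.smul_def e v), map_mul, map_mul]
        have he : jG eD - jA eD ∈ M := by
          rw [show jG eD - jA eD = algebraMap S T (g (e : S) - e) from Subtype.ext (by
            show G (algebraMap S K (e : S)) - algebraMap S K (e : S) = algebraMap S K _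
            rw [hG, map_sub]), hmS M hM]
          exact hg e
        rw [show jG eD * jG ⟨v, h⟩ - jA eD * jA ⟨v, h⟩ = (jG eD - jA eD) * jG ⟨v, h⟩ + jA eD * (jG ⟨v, h⟩ - jA ⟨v, h⟩) by ring]
        exact M.add_mem (M.mul_mem_right _ he) (M.mul_mem_left _ hv)
    obtain ⟨hz', hzM⟩ := hspan _ hz
    have hzM' : jG z - jA z ∈ M := hzM
    replace h1 : jA (y - z) ∈ M := h1
    replace h2 : jG (y - z) ∈ M := h2
    rw [map_sub] at h1 h2
    rw [show jG y - jA y = (jG y - jG z) + ((jG z - jA z) - (jA y - jA z)) by ring]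
    exact M.add_mem h2 (M.sub_mem hzM' h1)
  -- an essentially étale subalgebra containing the element
  obtain ⟨E, hdE, hEl, hEh, hE⟩ := exists_essEt_ge (A := A) ({(d : S)} : Finset S)
  haveI := hEl
  haveI := hEh
  haveI := isLocalHom_base E
  haveI := isReduced_of_essEt hE
  obtain ⟨hu, hft⟩ := Hensel.essEt_unramified hE
  haveI := hu
  haveI := hft
  haveI : IsNoetherianRing E := Algebra.EssFiniteType.isNoetherianRing A E
  obtain ⟨φ, hφ, hφe⟩ := exists_fracIncl E hE
  obtain ⟨i1, i2, hart, hfinK⟩ := exists_generic hmin hE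
  letI := i1
  haveI := i2
  haveI := hart
  haveI := hfinK
  let K₀ := FractionRing E
  haveI : IsReduced K₀ := inferInstanceAs (IsReduced (Localization (nonZeroDivisors E)))
  haveI : IsArtinianRing K₀ := IsArtinianRing.of_finite (FractionRing A) K₀
  haveI : Algebra.IsIntegral (FractionRing A) K₀ := Algebra.IsIntegral.of_finite _ _
  haveI := finite_integralClosure_artinian A K₀ (S2654.result A ⟨hA.1, hA.2.2.1, hA.2.2.2⟩)
  let C : Subalgebra A K₀ := D'.comap φ ⊓ integralClosure A K₀
  haveI : Module.Finite A C :=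
    Module.Finite.of_injective (Subalgebra.inclusion (inf_le_right : C ≤ integralClosure A K₀)).toLinearMap
      (Subalgebra.inclusion_injective inf_le_right)
  have hcl : ∀ z : K₀, IsIntegral A z → (∃ a ∈ nonZeroDivisors A, algebraMap A K₀ a * z ∈ C) → z ∈ C := by
    intro z hz ⟨a, ha, haz⟩
    obtain ⟨b, hb, e, he, hbe⟩ := ((hD' _).1 haz.1).2
    refine ⟨(hD' (φ z)).2 ⟨(hz.map φ).tower_top, b * a, mul_mem hb ha, e, he, ?_⟩, hz⟩
    rw [map_mul, mul_assoc, ← φ.commutes a, ← map_mul]
    exact hbe
  have hbase : ∀ y : K₀, IsIntegral A y → ∀ a ∈ nonZeroDivisors A, ∀ b : A,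
      algebraMap A K₀ a * y = algebraMap A K₀ b → y ∈ C := fun y hy a ha b hab =>
    ⟨hle ((baseNorm_iff φ hφ A' hA' y).1 ⟨hy, a, ha, b, hab⟩), hy⟩
  let B := baseNorm A E
  let inc : B →ₐ[A] C := Subalgebra.inclusion fun y hy => by
    obtain ⟨hy, a, ha, b, hab⟩ := hy
    exact hbase y hy a ha b hab
  let T₀ := integralClosure E K₀
  let toT₀ : C →+* T₀ := C.val.toRingHom.codRestrict T₀.toSubsemiring fun z => z.2.2.tower_top
  letI : Algebra C T₀ := toT₀.toAlgebra
  haveI := flat_normalization hE C hcl hbase fun c => rfl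
  haveI := finite_baseNorm hA hE
  let τ₀ : T₀ →+* T :=
    (φ.toRingHom.comp T₀.val.toRingHom).codRestrict T.toSubsemiring fun y => by
      obtain ⟨p, hp, hpy⟩ := y.2
      refine ⟨p.map E.val.toRingHom, hp.map _, ?_⟩
      rw [eval₂_map, show (algebraMap S K).comp E.val.toRingHom = φ.toRingHom.comp (algebraMap E K₀) from
        RingHom.ext fun e => (hφe e).symm]
      show eval₂ _ (φ.toRingHom (y : K₀)) p = 0
      rw [← hom_eval₂, hpy, map_zero]
  haveI : Algebra.IsIntegral E T₀ := ⟨fun z => IsIntegralClosure.isIntegral E K₀ z⟩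
  let cD : C →ₐ[A] D' := (φ.comp C.val).codRestrict D' fun c => c.2.1
  let f : C →ₐ[A] T := jA.comp cD
  let h : C →ₐ[A] T := jG.comp cD
  have hf₀ : ∀ c : C, τ₀ (algebraMap C T₀ c) = f c := fun c => rfl
  have hfix : ∀ i : B, h (inc i) = f (inc i) := fun i =>
    Subtype.ext (hGfix _ ((baseNorm_iff φ hφ A' hA' _).1 i.2))
  let J : Ideal T := Ideal.span (Set.range fun c : C => h c - f c)
  have hJmem : ∀ c, h c - f c ∈ J := fun c => Ideal.subset_span ⟨c, rfl⟩
  have hJfg : J.FG := by
    obtain ⟨gens, hgens⟩ := (Module.finite_def.1 (inferInstance : Module.Finite A C))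
    refine ⟨gens.image fun c => h c - f c, le_antisymm (Ideal.span_le.2 fun x hx => ?_) (Ideal.span_le.2 ?_)⟩
    · obtain ⟨c, -, rfl⟩ := Finset.mem_image.1 hx
      exact hJmem c
    · rintro _ ⟨c, rfl⟩
      have hc : c ∈ Submodule.span A (gens : Set C) := hgens ▸ Submodule.mem_top
      induction hc using Submodule.span_induction with
      | mem x hx => exact Ideal.subset_span (Finset.mem_coe.2 (Finset.mem_image_of_mem _ hx))
      | zero => simp
      | add x y _ _ hx hy =>
        show h (x + y) - f (x + y) ∈ _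
        rw [map_add, map_add, add_sub_add_comm]
        exact add_mem hx hy
      | smul a x _ hx =>
        show h (a • x) - f (a • x) ∈ _
        rw [map_smul, map_smul, ← smul_sub, Algebra.smul_def]
        exact Ideal.mul_mem_left _ _ hx
  -- the key inclusion
  have hstep : ∀ M : Ideal T, M.IsMaximal → J ≤ M * J := by
    intro M hM
    haveI := hM
    let M₀ : Ideal T₀ := M.comap τ₀
    haveI : M₀.IsPrime := Ideal.IsPrime.comap _
    have hM₀ : M₀.IsMaximal := by
      refine Ideal.isMaximal_of_isIntegral_of_isMaximal_comap (R := E) M₀ ?_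
      suffices hc : M₀.comap (algebraMap E T₀) = maximalIdeal E by rw [hc]; infer_instance
      ext e
      rw [Ideal.mem_comap, Ideal.mem_comap, show τ₀ (algebraMap E T₀ e) = algebraMap S T (e : S) from Subtype.ext (hφe e),
        hmS M hM, mem_maximalIdeal, mem_maximalIdeal, mem_nonunits_iff, mem_nonunits_iff]
      exact not_congr ⟨fun hu => isUnit_of_map_unit (algebraMap E S) e hu, fun hu => hu.map (algebraMap E S)⟩
    obtain ⟨s, hs, hsM₀⟩ : ∃ s : T₀, (∀ M₁ : Ideal T₀, M₁.IsMaximal → M₁ ≠ M₀ → s ∈ M₁) ∧ s ∉ M₀ := by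
      let others := (finite_maximal_normalization E).toFinset.erase M₀
      by_contra hno
      push Not at hno
      have hle' : others.inf id ≤ M₀ := fun s hs => hno s fun M₁ h1 h2 =>
        (Finset.inf_le (f := id) (Finset.mem_erase.2 ⟨h2, (Set.Finite.mem_toFinset _).2 h1⟩) : others.inf id ≤ M₁) hs
      obtain ⟨M₁, hM₁, hM₁le⟩ := (Ideal.IsPrime.inf_le' (inferInstance : M₀.IsPrime)).1 hle'
      rw [Finset.mem_erase, Set.Finite.mem_toFinset] at hM₁
      exact hM₁.1 (hM₁.2.eq_of_le (hM₀.ne_top) hM₁le)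
    let IC : Ideal C := (Ideal.jacobson (⊥ : Ideal B)).map inc
    have hBM : ∀ i ∈ Ideal.jacobson (⊥ : Ideal B), f (inc i) ∈ M := fun i hi =>
      Ideal.mem_sInf.1 hi ⟨bot_le, isMaximal_comap_of_sepClosure (A := A) (S := S) B T (f.comp inc) M⟩
    have hIC : ∀ x ∈ IC, f x ∈ M ∧ h x - f x ∈ M * J := by
      intro x hx
      induction hx using Submodule.span_induction with
      | mem y hy =>
        obtain ⟨i, hi, rfl⟩ := hy
        exact ⟨hBM i hi, by rw [hfix, sub_self]; exact zero_mem _⟩
      | zero => exact ⟨by rw [map_zero]; exact M.zero_mem, by rw [map_zero, map_zero, sub_self]; exact zero_mem _⟩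
      | add y z _ _ hy hz =>
        refine ⟨by rw [map_add]; exact M.add_mem hy.1 hz.1, ?_⟩
        rw [map_add, map_add, add_sub_add_comm]
        exact add_mem hy.2 hz.2
      | smul r y _ hy =>
        rw [smul_eq_mul, map_mul, map_mul]
        refine ⟨M.mul_mem_left _ hy.1, ?_⟩
        rw [show h r * h y - f r * f y = f y * (h r - f r) + h r * (h y - f y) by ring]
        exact add_mem (Ideal.mul_mem_mul hy.1 (hJmem r)) (Ideal.mul_mem_left _ _ hy.2)
    have hQ : ∀ c : C, f c ∈ M → h c - f c ∈ M * J := by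
      intro c hc
      obtain ⟨w, hw, hwx⟩ := exists_mem_map_radical hE ((algebraMap C T₀ c * s : T₀) : K₀)
          (algebraMap C T₀ c * s).2 fun M₁ hM₁ => by
        by_cases h1 : M₁ = M₀
        · subst h1
          exact M₀.mul_mem_right _ (show τ₀ (algebraMap C T₀ c) ∈ M from hc)
        · exact M₁.mul_mem_left _ (hs M₁ hM₁ h1)
      have hkey : ∀ w ∈ (Ideal.jacobson (⊥ : Ideal B)).map (Algebra.TensorProduct.includeLeft : B →ₐ[A] B ⊗[A] E),
          (⟨normMap A E w, isIntegral_normMap w⟩ : T₀) ∈ IC.map (algebraMap C T₀) := by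
        intro w hw
        induction hw using Submodule.span_induction with
        | mem y hy =>
          obtain ⟨i, hi, rfl⟩ := hy
          convert Ideal.mem_map_of_mem (algebraMap C T₀) (Ideal.mem_map_of_mem inc hi) using 1
          refine Subtype.ext ?_
          show normMap A E (i ⊗ₜ 1) = (i : K₀)
          rw [normMap_tmul, map_one, mul_one]
        | zero =>
          convert Ideal.zero_mem _ using 1
          exact Subtype.ext (map_zero (normMap A E))
        | add y z _ _ hy hz =>
          convert Ideal.add_mem _ hy hz using 1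
          exact Subtype.ext (map_add (normMap A E) y z)
        | smul c y _ hy =>
          convert Ideal.mul_mem_left _ (⟨normMap A E c, isIntegral_normMap c⟩ : T₀) hy using 1
          exact Subtype.ext (map_mul (normMap A E) c y)
      have hcs : algebraMap C T₀ c * s ∈ IC.map (algebraMap C T₀) := by
        rw [show algebraMap C T₀ c * s = ⟨normMap A E w, isIntegral_normMap w⟩ from Subtype.ext hwx.symm]
        exact hkey w hw
      obtain ⟨u, hu', huc⟩ := exists_notMem_mul_mem IC M₀ hsM₀ hcs
      have hfu : f u ∉ M := hu'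
      have hhu : h u ∉ M := fun hh => hfu (by
        have h3 := M.sub_mem hh (hcong M hM (cD u))
        rwa [show h u - (jG (cD u) - jA (cD u)) = f u by show jG (cD u) - _ = jA (cD u); ring] at h3)
      have h4 := (hIC _ huc).2
      rw [map_mul, map_mul] at h4
      refine mem_mul_of_mul_mem hM hhu (hJmem c) ?_
      rw [show h u * (h c - f c) = (h u * h c - f u * f c) - f c * (h u - f u) by ring]
      exact sub_mem h4 (Ideal.mul_mem_mul hc (hJmem u))
    -- residue separability
    refine Ideal.span_le.2 ?_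
    rintro _ ⟨c, rfl⟩
    show h c - f c ∈ M * J
    let σ : S →ₐ[A] T := IsScalarTower.toAlgHom A S T
    haveI : (M.comap (f.comp inc).toRingHom).IsMaximal :=
      isMaximal_comap_of_sepClosure (A := A) (S := S) B T (f.comp inc) M
    have hF : ∀ w ∈ Submodule.span D (A' : Set K), ∃ hw : w ∈ D',
        jA ⟨w, hw⟩ ∈ Subring.closure (Set.range (f.comp inc) ∪ Set.range σ) := by
      intro w hw
      induction hw using Submodule.span_induction with
      | mem b hb =>
        refine ⟨hle hb, ?_⟩
        obtain ⟨a, ha, b', hb'⟩ := ((hA' _).1 hb).2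
        obtain ⟨y, hy, -⟩ := exists_preimage hE φ hφe (e := algebraMap A S b') ha (E.algebraMap_mem b')
          (hb'.trans (IsScalarTower.algebraMap_apply A S K b'))
        exact Subring.subset_closure
          (Or.inl ⟨⟨y, (baseNorm_iff φ hφ A' hA' y).2 (hy.symm ▸ hb)⟩, Subtype.ext hy⟩)
      | zero => exact ⟨zero_mem _, by
          rw [show (⟨(0 : K), _⟩ : D') = 0 from rfl, map_zero]; exact zero_mem _⟩
      | add v w _ _ hv hw =>
        obtain ⟨h1, hv⟩ := hv
        obtain ⟨h2, hw⟩ := hw
        refine ⟨add_mem h1 h2, ?_⟩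
        rw [show (⟨v + w, add_mem h1 h2⟩ : D') = ⟨v, h1⟩ + ⟨w, h2⟩ from rfl, map_add]
        exact add_mem hv hw
      | smul e v _ hv =>
        obtain ⟨h1, hv⟩ := hv
        have h2 : e • v ∈ D' := by rw [Algebra.smul_def]; exact mul_mem (mem_of_hD' hD' e) h1
        refine ⟨h2, ?_⟩
        rw [show jA ⟨e • v, h2⟩ = σ (e : S) * jA ⟨v, h1⟩ from Subtype.ext (Algebra.smul_def e v)]
        exact mul_mem (Subring.subset_closure (Or.inr ⟨_, rfl⟩)) hv
    obtain ⟨zz, hzz, hr⟩ := hres (cD c)
    obtain ⟨hzz', hzF⟩ := hF _ hzz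
    have h1 := Ideal.mem_sInf.1 hr ⟨bot_le, isMaximal_comap_of_sepClosure (A := A) (S := S) D' T jA M⟩
    have h1' : jA (cD c - zz) ∈ M := h1
    rw [map_sub] at h1'
    obtain ⟨p, hp, hp'⟩ := exists_poly_sep σ (f.comp inc) M (fun s hs => (hmS M hM s).2 hs) (x := f c) hzF h1'
    let ρ : B →+* T := (f.comp inc).toRingHom
    let ec : C := p.eval₂ inc.toRingHom c
    have hfe : f ec = (p.map ρ).eval (f c) := by
      show f.toRingHom (p.eval₂ inc.toRingHom c) = _
      rw [hom_eval₂, eval_map]
      rfl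
    have hhe : h ec = (p.map ρ).eval (h c) := by
      show h.toRingHom (p.eval₂ inc.toRingHom c) = _
      rw [hom_eval₂, eval_map, show h.toRingHom.comp inc.toRingHom = ρ from RingHom.ext hfix]
      rfl
    obtain ⟨z, hz⟩ := (p.map ρ).binomExpansion (f c) (h c - f c)
    rw [add_sub_cancel, ← hhe, ← hfe] at hz
    have hd : (p.map ρ).derivative.eval (f c) + z * (h c - f c) ∉ M := fun hmem => by
      have h2 := M.sub_mem hmem (M.mul_mem_left z (show h c - f c ∈ M from hcong M hM (cD c)))
      rw [add_sub_cancel_right] at h2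
      exact hp' h2
    refine mem_mul_of_mul_mem hM hd (hJmem c) ?_
    rw [show ((p.map ρ).derivative.eval (f c) + z * (h c - f c)) * (h c - f c) = h ec - f ec by rw [hz]; ring]
    exact hQ ec (hfe ▸ hp)
  -- conclusion
  have hJ : J = ⊥ := eq_of_forall_max J hJfg hstep
  let y₀ : K₀ := algebraMap E K₀ ⟨d, hdE (by simp)⟩
  obtain ⟨m, hm⟩ := IsIntegral.exists_multiple_integral_of_isLocalization (Rₘ := FractionRing A) (nonZeroDivisors A) y₀
    (Algebra.IsIntegral.isIntegral y₀)
  have hφy : φ ((m : A) • y₀) = algebraMap A K (m : A) * algebraMap S K (d : S) := by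
    rw [Algebra.smul_def, map_mul, φ.commutes, hφe]
  have hym : (m : A) • y₀ ∈ C := ⟨by
    show φ ((m : A) • y₀) ∈ D'
    rw [hφy]
    exact mul_mem (D'.algebraMap_mem _) (mem_of_hD' hD' d), hm⟩
  have h0 : h ⟨_, hym⟩ - f ⟨_, hym⟩ = 0 := by
    rw [← Ideal.mem_bot, ← hJ]; exact hJmem _
  have h1 : G (φ ((m : A) • y₀)) = φ ((m : A) • y₀) := congrArg (fun t : T => (t : K)) (sub_eq_zero.1 h0)
  rw [hφy, map_mul, AlgEquiv.commutes, hG] at h1
  exact IsFractionRing.injective S K ((isUnit_baseSH m.2).mul_left_cancel h1)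

end Groth.Agent.EssSub
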