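/-
Injectivity of the comparison of a henselization with the strict henselization.
-/
import Mathlib
import Groth.Agent.EssSub.SHPoint
import Groth.Agent.Hensel.BranchCount
import Groth.Agent.Hensel.Fibres

set_option autoImplicit false
set_option linter.style.haveILetI false
set_option maxHeartbeats 1600000
universe u

open IsLocalRing Polynomial TensorProduct

namespace Groth.Agent.EssSub

/-- Outside all minimal primes of a reduced ring there are no zero-divisors. -/
theorem mem_nonZeroDivisors_of_forall_minimal {R : Type u} [CommRing R] [IsReduced R] {b : R}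
    (h : ∀ q ∈ minimalPrimes R, b ∉ q) : b ∈ nonZeroDivisors R := by
  refine mem_nonZeroDivisors_iff_right.2 fun y hy => ?_
  have h1 : y ∈ sInf (minimalPrimes R) := Submodule.mem_sInf.2 fun q hq =>
    (hq.isPrime.mem_or_mem (show y * b ∈ q by rw [hy]; exact q.zero_mem)).resolve_right (h q hq)
  rw [minimalPrimes, Ideal.sInf_minimalPrimes] at h1
  obtain ⟨n, hn⟩ := h1
  exact IsNilpotent.eq_zero ⟨n, Ideal.mem_bot.1 hn⟩

variable {A S : Type u} [CommRing A] [IsLocalRing A] [CommRing S] [IsLocalRing S] [Algebra A S]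
  [IsLocalHom (algebraMap A S)] [hS : _root_.Hensel.IsStrictHenselization A S]

include hS in
/-- When every maximal ideal of the normalisation is a trace, the henselization injects. -/
theorem injective_of_cover [IsReduced A] [IsNoetherianRing A] (D : Subalgebra A S) [IsLocalRing D]
    [IsLocalHom (algebraMap D S)] (Dh : Type u) [CommRing Dh] [IsLocalRing Dh] [Algebra D Dh]
    [IsLocalHom (algebraMap D Dh)] [_root_.Hensel.IsHenselization D Dh] [Algebra Dh S] [IsScalarTower D Dh S]
    (D' : Subalgebra A (FractionRing S))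
    (hD' : ∀ x : (FractionRing S), x ∈ D' ↔ (IsIntegral D x ∧
      ∃ a ∈ nonZeroDivisors A, ∃ d ∈ D, algebraMap A (FractionRing S) a * x = algebraMap S (FractionRing S) d))
    (hcover : ∀ N : Ideal D', N.IsMaximal →
      ∃ M : Ideal (integralClosure S (FractionRing S)), M.IsMaximal ∧
      ∀ (x : D') (h : IsIntegral S (x : FractionRing S)),
        (x ∈ N ↔ (⟨(x : FractionRing S), h⟩ : integralClosure S (FractionRing S)) ∈ M)) :
    Function.Injective (algebraMap Dh S) := by
  classical
  have hmin : (minimalPrimes A).Finite := minimalPrimes.finite_of_isNoetherianRing A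
  haveI : IsReduced S := (Hensel.strictHenselization_isReduced_iff A S).2 ‹_›
  haveI : IsNoetherianRing S := (Hensel.strictHenselization_isNoetherianRing_iff A S).1 ‹_›
  haveI : IsReduced D := isReduced_of_injective D.val.toRingHom Subtype.val_injective
  have hfinD : (minimalPrimes D).Finite := by
    refine ((minimalPrimes.finite_of_isNoetherianRing S).image fun Q => Q.comap (algebraMap D S)).subset fun p hp => ?_
    have hker : (⊥ : Ideal S).comap (algebraMap D S) = ⊥ := by
      rw [← RingHom.ker_eq_comap_bot]; exact (RingHom.injective_iff_ker_eq_bot _).1 Subtype.val_injective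
    obtain ⟨Q, hQ, hQp⟩ := Ideal.exists_minimalPrimes_comap_eq (I := (⊥ : Ideal S)) (algebraMap D S) p (by
      rw [hker]; exact hp)
    exact ⟨Q, hQ, hQp⟩
  let K := FractionRing S
  let T := integralClosure S K
  haveI : Algebra.IsIntegral S T := ⟨fun z => IsIntegralClosure.isIntegral S K z⟩
  have hbaseD : ∀ a ∈ nonZeroDivisors A, algebraMap A D a ∈ nonZeroDivisors D := fun a ha =>
    mem_nonZeroDivisors_iff_right.2 fun x hx => Subtype.ext (isSMulRegular_base (S := S) ha (by
      show algebraMap A S a • (x : S) = algebraMap A S a • (0 : S)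
      rw [smul_zero, smul_eq_mul, mul_comm]
      exact congrArg (fun w : D => (w : S)) hx))
  -- the normalisation of the reduction
  let e : CAlg2.red D ≃+* D := (Ideal.quotEquivOfEq (nilradical_eq_zero D)).trans (RingEquiv.quotientBot D)
  have he : ∀ x : D, e (Ideal.Quotient.mk (nilradical D) x) = x := fun x => rfl
  let dK : CAlg2.red D →+* K := (algebraMap D K).comp e.toRingHom
  have hunit : ∀ b : nonZeroDivisors (CAlg2.red D), IsUnit (dK b) := fun b => by
    have hb : e (b : CAlg2.red D) ∈ nonZeroDivisors D := mem_nonZeroDivisors_iff_right.2 fun x hx => by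
      have h1 := mem_nonZeroDivisors_iff_right.1 b.2 (e.symm x) (e.injective (by
        rw [map_mul, e.apply_symm_apply, hx, map_zero]))
      rw [← e.apply_symm_apply x, h1, map_zero]
    obtain ⟨c, a, ha, hca⟩ := exists_mul_eq_sub (A := A) hmin D hb
    have h2 := isUnit_baseSH (S := S) ha
    rw [show algebraMap A K a = algebraMap D K c * dK b by
      show _ = algebraMap D K c * algebraMap D K (e b)
      rw [← map_mul, hca]; rfl] at h2
    exact isUnit_of_mul_isUnit_right h2
  let χ : FractionRing (CAlg2.red D) →+* K := IsLocalization.lift hunit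
  have hχ : ∀ x : CAlg2.red D, χ (algebraMap _ _ x) = dK x := fun x => IsLocalization.lift_eq hunit x
  have hχinj : Function.Injective χ := (injective_iff_map_eq_zero _).2 fun r hr => by
    obtain ⟨c, d, rfl⟩ := IsLocalization.exists_mk'_eq (nonZeroDivisors (CAlg2.red D)) r
    have h5 := congrArg χ (IsLocalization.mk'_spec (FractionRing (CAlg2.red D)) c d)
    rw [map_mul, hr, zero_mul, hχ] at h5
    have h6 : e c = 0 := Subtype.ext (IsFractionRing.injective S K (h5.symm.trans (map_zero (algebraMap S K)).symm))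
    rw [show c = 0 from e.injective (h6.trans (map_zero e).symm), IsLocalization.mk'_zero]
  have hcomm : χ.comp (algebraMap (CAlg2.red D) (FractionRing (CAlg2.red D))) = (algebraMap D K).comp e.toRingHom :=
    RingHom.ext hχ
  have hmem : ∀ z : CAlg2.normRed D, χ z.1 ∈ D' := fun z => by
    obtain ⟨f, hf, hfz⟩ := z.2
    refine (hD' _).2 ⟨⟨f.map e.toRingHom, hf.map _, ?_⟩, ?_⟩
    · rw [eval₂_map, ← hcomm, ← hom_eval₂, hfz, map_zero]
    · obtain ⟨c, d, hcd⟩ := IsLocalization.exists_mk'_eq (nonZeroDivisors (CAlg2.red D)) z.1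
      obtain ⟨w, hw⟩ := (hunit d).exists_right_inv
      have hb : e (d : CAlg2.red D) ∈ nonZeroDivisors D := mem_nonZeroDivisors_iff_right.2 fun x hx => by
        have h1 := mem_nonZeroDivisors_iff_right.1 d.2 (e.symm x) (e.injective (by
          rw [map_mul, e.apply_symm_apply, hx, map_zero]))
        rw [← e.apply_symm_apply x, h1, map_zero]
      obtain ⟨q, a, ha, hqa⟩ := exists_mul_eq_sub (A := A) hmin D hb
      refine ⟨a, ha, ((q * e c : D) : S), (q * e c).2, ?_⟩
      have h5 := congrArg χ (IsLocalization.mk'_spec (FractionRing (CAlg2.red D)) c d)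
      rw [map_mul, hχ, hχ, hcd] at h5
      show algebraMap A K a * χ z.1 = algebraMap D K (q * e c)
      rw [show algebraMap A K a = algebraMap D K (q * e d) by rw [hqa]; rfl, map_mul, map_mul,
        show algebraMap D K (e c) = dK c from rfl, ← h5]
      show algebraMap D K q * dK d * χ z.1 = _
      ring
  let ν : CAlg2.normRed D →+* D' :=
    (χ.comp (integralClosure (CAlg2.red D) (FractionRing (CAlg2.red D))).val.toRingHom).codRestrict D'.toSubsemiring hmem
  have hνb : Function.Bijective ν := ⟨fun y z h => Subtype.ext (hχinj (congrArg (fun w : D' => (w : K)) h)), fun x => by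
    obtain ⟨hint, a, ha, d, hd, had⟩ := (hD' _).1 x.2
    let aR : nonZeroDivisors (CAlg2.red D) := ⟨e.symm (algebraMap A D a), mem_nonZeroDivisors_iff_right.2 fun y hy => by
      refine e.injective ?_
      rw [map_zero]
      refine mem_nonZeroDivisors_iff_right.1 (hbaseD a ha) _ ?_
      have := congrArg e hy
      rwa [map_mul, e.apply_symm_apply, map_zero] at this⟩
    let y : FractionRing (CAlg2.red D) := IsLocalization.mk' _ (e.symm ⟨d, hd⟩) aR
    have hy : χ y = (x : K) := by
      have h5 := congrArg χ (IsLocalization.mk'_spec (FractionRing (CAlg2.red D)) (e.symm ⟨d, hd⟩) aR)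
      rw [map_mul, hχ, hχ] at h5
      refine (isUnit_baseSH (S := S) ha).mul_left_cancel ?_
      rw [had, mul_comm]
      refine Eq.trans ?_ (h5.trans ?_)
      · show _ = χ y * algebraMap D K (e (e.symm (algebraMap A D a)))
        rw [e.apply_symm_apply]; rfl
      · show algebraMap D K (e (e.symm _)) = _
        rw [e.apply_symm_apply]; rfl
    obtain ⟨f, hf, hfx⟩ := hint
    refine ⟨⟨y, f.map e.symm.toRingHom, hf.map _, hχinj ?_⟩, Subtype.ext hy⟩
    rw [map_zero, eval₂_map, hom_eval₂, ← RingHom.comp_assoc, hcomm, RingHom.comp_assoc, hy,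
      show e.toRingHom.comp e.symm.toRingHom = RingHom.id D from RingHom.ext e.apply_symm_apply, RingHom.comp_id]
    exact hfx⟩
  let νe := RingEquiv.ofBijective ν hνb
  have hintD : ∀ y ∈ D', IsIntegral S y := fun y hy => ((hD' y).1 hy).1.tower_top
  have hcommD : ∀ d : D, χ (algebraMap D (CAlg2.normRed D) d).1 = algebraMap D K d := fun d => by
    show χ (algebraMap (CAlg2.red D) _ (Ideal.Quotient.mk (nilradical D) d)) = _
    rw [hχ]
    show algebraMap D K (e _) = _
    rw [he]
  let νT : CAlg2.normRed D →ₐ[D] T :=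
    { toFun := fun z => ⟨(ν z : K), hintD _ (ν z).2⟩
      map_one' := Subtype.ext (congrArg (fun w : D' => (w : K)) (map_one ν))
      map_mul' := fun y z => Subtype.ext (congrArg (fun w : D' => (w : K)) (map_mul ν y z))
      map_zero' := Subtype.ext (congrArg (fun w : D' => (w : K)) (map_zero ν))
      map_add' := fun y z => Subtype.ext (congrArg (fun w : D' => (w : K)) (map_add ν y z))
      commutes' := fun d => Subtype.ext (hcommD d) }
  let θT : Dh →ₐ[D] T :=
    { (algebraMap S T).comp (algebraMap Dh S) with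
      commutes' := fun d => by
        show algebraMap S T (algebraMap Dh S (algebraMap D Dh d)) = _
        rw [← IsScalarTower.algebraMap_apply D Dh S]
        exact Subtype.ext rfl }
  let X := Hensel.brTensor D Dh
  let Φ : X →ₐ[D] T := Algebra.TensorProduct.lift θT νT fun _ _ => Commute.all _ _
  have hΦl : ∀ s : Dh, Φ (algebraMap Dh X s) = algebraMap S T (algebraMap Dh S s) := fun s => by
    show Φ (s ⊗ₜ 1) = _
    rw [Algebra.TensorProduct.lift_tmul, map_one, mul_one]
    rfl
  have hΦr : ∀ r, Φ ((Algebra.TensorProduct.includeRight : CAlg2.normRed D →ₐ[D] X) r) = νT r := fun r => by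
    show Φ (1 ⊗ₜ r) = _
    rw [Algebra.TensorProduct.lift_tmul, map_one, one_mul]
  haveI := Hensel.isIntegral_brTensor (A := D) (S := Dh)
  haveI := Hensel.henselization_faithfullyFlat D Dh
  haveI : IsLocalHom (algebraMap Dh S) := ((local_hom_TFAE (algebraMap Dh S)).out 0 2).2 (by
    rw [← Hensel.henselization_map_maximalIdeal D Dh, Ideal.map_map, ← IsScalarTower.algebraMap_eq]
    exact ((local_hom_TFAE (algebraMap D S)).out 0 2).1 ‹_›)
  have hinjX : Function.Injective (algebraMap Dh X) := by
    refine Algebra.TensorProduct.includeLeft_injective (S := Dh) ?_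
    intro d d' h
    have h1 := congrArg (fun z => χ z.1) h
    simp only [hcommD] at h1
    exact Subtype.ext (IsFractionRing.injective S K h1)
  refine (injective_iff_map_eq_zero _).2 fun z hz => hinjX ?_
  rw [map_zero]
  by_contra hne
  let x := algebraMap Dh X z
  let Ann : Ideal X := (⊥ : Ideal X).colon {x}
  have hAnn : Ann ≠ ⊤ := fun h => hne (by
    have h1 := Submodule.mem_colon_singleton.1 (h ▸ Submodule.mem_top : (1 : X) ∈ Ann)
    rwa [one_smul, Submodule.mem_bot] at h1)
  obtain ⟨P, hP, hAP⟩ := Ideal.exists_le_maximal _ hAnn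
  haveI := hP
  obtain ⟨hPS, hPN, -⟩ := Hensel.comap_maximal_brTensor P
  let N' := P.comap (Algebra.TensorProduct.includeRight : CAlg2.normRed D →ₐ[D] X).toRingHom
  haveI : (N'.comap νe.symm.toRingHom).IsMaximal := by
    haveI : N'.IsMaximal := hPN
    exact Ideal.comap_isMaximal_of_surjective _ νe.symm.surjective
  obtain ⟨M, hM, hMN⟩ := hcover (N'.comap νe.symm.toRingHom) inferInstance
  haveI := hM
  have hMS : M.comap (algebraMap S T) = maximalIdeal S :=
    eq_maximalIdeal (Ideal.isMaximal_comap_of_isIntegral_of_isMaximal M)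
  let P' : Ideal X := M.comap Φ.toRingHom
  haveI : P'.IsPrime := Ideal.IsPrime.comap _
  haveI : P'.IsMaximal := by
    refine Ideal.isMaximal_of_isIntegral_of_isMaximal_comap (R := Dh) P' ?_
    suffices h : P'.comap (algebraMap Dh X) = maximalIdeal Dh by rw [h]; infer_instance
    ext s
    rw [Ideal.mem_comap, Ideal.mem_comap]
    show Φ (algebraMap Dh X s) ∈ M ↔ _
    rw [hΦl, ← Ideal.mem_comap, hMS, mem_maximalIdeal, mem_maximalIdeal, mem_nonunits_iff, mem_nonunits_iff]
    exact not_congr ⟨fun hu => isUnit_of_map_unit (algebraMap Dh S) s hu, fun hu => hu.map _⟩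
  have hPP : P = P' := Hensel.maximal_ext_henselization (A := D) (S := Dh) (by
    ext r
    show r ∈ N' ↔ Φ ((Algebra.TensorProduct.includeRight : CAlg2.normRed D →ₐ[D] X) r) ∈ M
    rw [hΦr]
    have h1 := hMN (ν r) (hintD _ (ν r).2)
    rw [Ideal.mem_comap, show νe.symm.toRingHom (ν r) = r from νe.symm_apply_apply r] at h1
    exact h1)
  haveI := Hensel.isDomain_atPrime_henselization (A := D) (S := Dh) hfinD P
  obtain ⟨𝔮, h𝔮, h𝔮M⟩ := Ideal.exists_minimalPrimes_le (I := ⊥) (J := M) bot_le
  haveI := h𝔮.isPrime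
  let p : Ideal D := 𝔮.comap (algebraMap D T)
  haveI : p.IsPrime := Ideal.IsPrime.comap _
  have hpmin : p ∈ minimalPrimes D := by
    by_contra hp
    have hsub : ¬ (p : Set D) ⊆ ⋃ q ∈ (↑hfinD.toFinset : Set (Ideal D)), (q : Set D) := by
      rw [Ideal.subset_union_prime ⊥ ⊥ fun q hq _ _ => ((Set.Finite.mem_toFinset _).1 hq).isPrime]
      rintro ⟨q, hq, hpq⟩
      have hq' := (Set.Finite.mem_toFinset _).1 hq
      exact hp ((le_antisymm hpq (hq'.2 ⟨inferInstance, bot_le⟩ hpq)).symm ▸ hq')
    obtain ⟨b, hbp, hb⟩ := Set.not_subset.1 hsub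
    have hbn : b ∈ nonZeroDivisors D := mem_nonZeroDivisors_of_forall_minimal fun q hq hbq =>
      hb (Set.mem_biUnion ((Set.Finite.mem_toFinset _).2 hq) hbq)
    obtain ⟨c, a, ha, hca⟩ := exists_mul_eq_sub (A := A) hmin D hbn
    have h1 : algebraMap D T (algebraMap A D a) ∈ 𝔮 := by
      rw [← hca, map_mul]
      exact 𝔮.mul_mem_left _ hbp
    refine notMem_nonZeroDivisors_of_mem_mem_minimalPrimes h1 h𝔮
      (mem_nonZeroDivisors_iff_right.2 fun w hw => Subtype.ext ((isUnit_baseSH (S := S) ha).mul_left_eq_zero.1 ?_))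
    exact congrArg (fun t : T => (t : K)) hw
  let XP := Localization.AtPrime P
  let 𝔞 : Ideal X := 𝔮.comap Φ.toRingHom
  haveI : 𝔞.IsPrime := Ideal.IsPrime.comap _
  have h𝔞P : 𝔞 ≤ P := hPP ▸ Ideal.comap_mono h𝔮M
  have hq₀ : ∀ w : X, algebraMap X XP w = 0 → w ∈ 𝔞 := fun w hw => by
    obtain ⟨u, hu⟩ := (IsLocalization.map_eq_zero_iff P.primeCompl XP w).1 hw
    exact ((‹𝔞.IsPrime›).mem_or_mem (show (u : X) * w ∈ 𝔞 by rw [hu]; exact 𝔞.zero_mem)).resolve_left
      fun h => u.2 (h𝔞P h)
  have hp0 : ∀ d ∈ p, algebraMap X XP (algebraMap D X d) = 0 := by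
    let q₀ : Ideal D := RingHom.ker ((algebraMap X XP).comp (algebraMap D X))
    haveI : q₀.IsPrime := RingHom.ker_isPrime _
    have hle : q₀ ≤ p := fun d hd => by
      have h1 := hq₀ _ (show algebraMap X XP (algebraMap D X d) = 0 from hd)
      show algebraMap D T d ∈ 𝔮
      rw [← Φ.commutes d]
      exact h1
    exact fun d hd => (hpmin.2 ⟨inferInstance, bot_le⟩ hle) hd
  let r : Ideal Dh := 𝔞.comap (algebraMap Dh X)
  haveI : r.IsPrime := Ideal.IsPrime.comap _
  have hzr : z ∈ r := by
    show Φ (algebraMap Dh X z) ∈ 𝔮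
    rw [hΦl, hz, map_zero]
    exact 𝔮.zero_mem
  obtain ⟨s, hs, hsz⟩ := Hensel.henselization_unramifiedFibres D Dh r inferInstance z hzr
  have hrp : r.comap (algebraMap D Dh) = p := by
    show (𝔞.comap (algebraMap Dh X)).comap (algebraMap D Dh) = p
    rw [Ideal.comap_comap, ← IsScalarTower.algebraMap_eq]
    show (𝔮.comap Φ.toRingHom).comap (algebraMap D X) = p
    rw [Ideal.comap_comap, AlgHom.toRingHom_eq_coe, AlgHom.comp_algebraMap]
  rw [hrp] at hsz
  have h0 : (p.map (algebraMap D Dh)) ≤ RingHom.ker ((algebraMap X XP).comp (algebraMap Dh X)) :=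
    Ideal.map_le_iff_le_comap.2 fun d hd => by
      show algebraMap X XP (algebraMap Dh X (algebraMap D Dh d)) = 0
      rw [← IsScalarTower.algebraMap_apply D Dh X]
      exact hp0 d hd
  have h1 : algebraMap X XP (algebraMap Dh X s) * algebraMap X XP x = 0 := by
    rw [← map_mul, ← map_mul]
    exact h0 hsz
  rcases mul_eq_zero.1 h1 with h2 | h2
  · exact hs (hq₀ _ h2)
  · obtain ⟨u, hu⟩ := (IsLocalization.map_eq_zero_iff P.primeCompl XP x).1 h2
    exact u.2 (hAP (Submodule.mem_colon_singleton.2 (by
      show (u : X) * x ∈ (⊥ : Ideal X)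
      rw [hu]; exact zero_mem _)))

end Groth.Agent.EssSub
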